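import Cfsg.Agent.Lib.Spor.MTwentyFourOrder.RowA.Engine
import Cfsg.Agent.Lib.Spor.MTwentyFourOrder.ThreeCase.Check

/-!
The search for a block of defect one at five or seven through a member of a known part of the column data, the other
members being of degree divisible by two hundred and fifty-three and within given sums of squares.
-/

set_option autoImplicit false
set_option maxRecDepth 100000
set_option maxHeartbeats 1000000

namespace Cfsg.Agent.MTwentyFour.ByOrder.RowA

open Cfsg.Agent.MTwentyFour.ByOrder.ThreeCase (s11 nd ordM)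

/-- a member: the degree, the values at the element of order five and at the involution -/
structure Mb where
  d : ℕ
  f : ℤ
  z : ℤ
deriving DecidableEq

/-- evaluation of a number before it is used -/
def forceN {α : Type} (n : ℕ) (k : ℕ → α) : α :=
  match n with
  | 0 => k 0
  | m + 1 => k (m + 1)

theorem forceN_eq {α : Type} (n : ℕ) (k : ℕ → α) : forceN n k = k n := by cases n <;> rfl

/-- evaluation of the members before they are used -/
def forceP {α : Type} : List Mb → (List Mb → α) → α
  | [], k => k []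
  | a :: l, k => forceN a.d fun d => forceI a.f fun f => forceI a.z fun z => forceP l fun l' => k (⟨d, f, z⟩ :: l')

theorem forceP_eq {α : Type} : ∀ (l : List Mb) (k : List Mb → α), forceP l k = k l
  | [], _ => rfl
  | a :: l, k => by simp [forceP, forceN_eq, forceI_eq, forceP_eq l]

/-- the signed weight at twenty-three, doubled -/
def tw (d : ℕ) : ℤ :=
  if d % 23 = 1 then 2 else if d % 23 = 22 then -2 else if d % 23 = 11 then -1 else if d % 23 = 12 then 1 else 0

/-- the sign making the degree congruent to `r` modulo `p`, or zero -/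
def cl (p r d : ℕ) : ℤ := if (d + (p - r)) % p = 0 then 1 else if (d + r) % p = 0 then -1 else 0

/-- the residue of the exceptional members -/
def ry (p e r : ℕ) : ℕ := (p - e * r % p) % p

theorem s11_abs (d : ℕ) : |s11 d| ≤ 1 := by unfold s11; split_ifs <;> norm_num

theorem tw_abs (d : ℕ) : |tw d| ≤ 2 := by unfold tw; split_ifs <;> norm_num

theorem s11_zero {d : ℕ} (h : d % 253 = 0) : s11 d = 0 := by unfold s11; split_ifs <;> omega

theorem tw_zero {d : ℕ} (h : d % 253 = 0) : tw d = 0 := by unfold tw; split_ifs <;> omega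

theorem cl_abs (p r d : ℕ) : |cl p r d| ≤ 1 := by unfold cl; split_ifs <;> norm_num

/-- the sums of a signed part of a block -/
structure T5 where
  d : ℤ
  f : ℤ
  z : ℤ
  u : ℤ
  v : ℤ

/-- evaluation of the sums before they are used -/
def force5 {α : Type} (t : T5) (k : T5 → α) : α :=
  forceI t.d fun a => forceI t.f fun b => forceI t.z fun c => forceI t.u fun u => forceI t.v fun v => k ⟨a, b, c, u, v⟩

theorem force5_eq {α : Type} (t : T5) (k : T5 → α) : force5 t k = k t := by simp [force5, forceI_eq]

/-- what a member adds -/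
def ctr (p : ℕ) (a : Mb) (s : ℤ) : T5 :=
  ⟨s * (a.d : ℤ), if p = 5 then 0 else s * a.f, s * a.z, s * s11 a.d, s * tw a.d⟩

/-- adding a multiple -/
def addN (t : T5) (n : ℕ) (c : T5) : T5 :=
  ⟨t.d + (n : ℤ) * c.d, t.f + (n : ℤ) * c.f, t.z + (n : ℤ) * c.z, t.u + (n : ℤ) * c.u, t.v + (n : ℤ) * c.v⟩

/-- adding the sums of several members -/
def addM {α : Type} (t : T5) (g : α → T5) (m : Multiset α) : T5 :=
  ⟨t.d + (m.map fun a => (g a).d).sum, t.f + (m.map fun a => (g a).f).sum, t.z + (m.map fun a => (g a).z).sum,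
    t.u + (m.map fun a => (g a).u).sum, t.v + (m.map fun a => (g a).v).sum⟩

/-- the ways to take at most so many of the given members, with their sums -/
def subs : List (T5 × ℕ) → ℕ → T5 → (ℕ → T5 → Bool) → Bool
  | [], k, t, f => decide (t.u = 0) && decide (t.v = 0) && f k t
  | (c, m) :: as, k, t, f =>
    decide (-(k : ℤ) ≤ t.u) && decide (t.u ≤ (k : ℤ)) && decide (-2 * (k : ℤ) ≤ t.v) && decide (t.v ≤ 2 * (k : ℤ)) &&
      (List.range (min m k + 1)).any fun n => force5 (addN t n c) fun t' => subs as (k - n) t' f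

theorem sum_abs {α : Type} (h : α → ℤ) (b : ℤ) (m : Multiset α) (hb : ∀ a ∈ m, |h a| ≤ b) :
    |(m.map h).sum| ≤ (m.card : ℤ) * b := by
  induction m using Multiset.induction with
  | empty => simp
  | cons a m ih =>
    have h1 := ih fun x hx => hb x (Multiset.mem_cons_of_mem hx)
    have h2 := hb a (Multiset.mem_cons_self _ _)
    simp only [Multiset.map_cons, Multiset.sum_cons, Multiset.card_cons]
    push_cast
    refine (abs_add_le _ _).trans ?_
    linarith

theorem subs_sound {α : Type} [DecidableEq α] (g : α → T5) (hg : ∀ a, |(g a).u| ≤ 1 ∧ |(g a).v| ≤ 2) :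
    ∀ (L : List (α × ℕ)) (k : ℕ) (t : T5) (f : ℕ → T5 → Bool) (m : Multiset α),
    (∀ a ∈ m, ∃ q ∈ L, q.1 = a) → (∀ q ∈ L, m.count q.1 ≤ q.2) → (L.map Prod.fst).Nodup → m.card ≤ k →
    (addM t g m).u = 0 → (addM t g m).v = 0 → f (k - m.card) (addM t g m) = true →
    subs (L.map fun q => (g q.1, q.2)) k t f = true
  | [], k, t, f, m, hm, _, _, _, hu, hv, hf => by
    obtain rfl : m = 0 := Multiset.eq_zero_of_forall_notMem fun a ha => by obtain ⟨q, hq, -⟩ := hm a ha; simp at hq
    simp only [addM, Multiset.map_zero, Multiset.sum_zero, add_zero, Multiset.card_zero, Nat.sub_zero] at hu hv hf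
    simp only [List.map_nil, subs, Bool.and_eq_true, decide_eq_true_eq]
    exact ⟨⟨hu, hv⟩, hf⟩
  | (a, c) :: L, k, t, f, m, hm, hc, hnd, hk, hu, hv, hf => by
    simp only [List.map_cons, subs, Bool.and_eq_true, decide_eq_true_eq, List.any_eq_true, List.mem_range, force5_eq]
    obtain ⟨h1, h1'⟩ := abs_le.1 (sum_abs (fun x => (g x).u) 1 m fun x _ => (hg x).1)
    obtain ⟨h2, h2'⟩ := abs_le.1 (sum_abs (fun x => (g x).v) 2 m fun x _ => (hg x).2)
    have hk' : (m.card : ℤ) ≤ (k : ℤ) := by exact_mod_cast hk
    simp only [addM] at hu hv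
    refine ⟨⟨⟨⟨by linarith, by linarith⟩, by linarith⟩, by linarith⟩, m.count a, ?_, ?_⟩
    · have : m.count a ≤ c := hc (a, c) (by simp)
      have := (Multiset.count_le_card a m).trans hk
      simp only [Nat.lt_succ_iff, le_min_iff]
      omega
    · simp only [List.map_cons, List.nodup_cons] at hnd
      set m' := m.filter (fun x => ¬x = a) with hm'
      have hsplit : m = Multiset.replicate (m.count a) a + m' := by
        rw [← Multiset.filter_eq', hm', Multiset.filter_add_not]
      have hcard : m.card = m.count a + m'.card := by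
        conv_lhs => rw [hsplit]
        rw [Multiset.card_add, Multiset.card_replicate]
      have hadd : addM (addN t (m.count a) (g a)) g m' = addM t g m := by
        conv_rhs => rw [hsplit]
        simp only [addM, addN, Multiset.map_add, Multiset.sum_add, Multiset.map_replicate, Multiset.sum_replicate,
          nsmul_eq_mul, T5.mk.injEq]
        refine ⟨?_, ?_, ?_, ?_, ?_⟩ <;> ring
      refine subs_sound g hg L _ _ f m' (fun x hx => ?_) (fun q hq => ?_) hnd.2 (by omega) ?_ ?_ ?_
      · obtain ⟨h3, h4⟩ := Multiset.mem_filter.1 hx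
        obtain ⟨q, hq, rfl⟩ := hm x h3
        rcases List.mem_cons.1 hq with rfl | hq
        · exact absurd rfl h4
        · exact ⟨q, hq, rfl⟩
      · exact (Multiset.count_le_of_le _ (Multiset.filter_le _ _)).trans (hc q (List.mem_cons_of_mem _ hq))
      · rw [hadd]; exact hu
      · rw [hadd]; exact hv
      · rw [hadd, show k - m.count a - m'.card = k - m.card by omega]
        exact hf

/-- a further kind of member: the signed degree, the signed value, and their squares -/
structure WT where
  a : ℤ
  b : ℤ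
  a2 : ℤ
  b2 : ℤ

/-- some place in the list -/
def sufAnyW (g : WT → List WT → Bool) : List WT → Bool
  | [] => false
  | t :: ts => g t (t :: ts) || sufAnyW g ts

/-- Can so many further members bring the sums to zero within the budgets? -/
def wpart : ℕ → List WT → ℤ → ℤ → ℤ → ℤ → Bool
  | 0, _, a, b, _, _ => decide (a = 0) && decide (b = 0)
  | k + 1, ts, a, b, q, r =>
    decide (a * a ≤ ((k + 1 : ℕ) : ℤ) * q) && decide (b * b ≤ ((k + 1 : ℕ) : ℤ) * r) &&
      sufAnyW (fun t rest => decide (t.a2 ≤ q) && decide (t.b2 ≤ r) &&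
        forceI (a + t.a) fun a' => forceI (b + t.b) fun b' => forceI (q - t.a2) fun q' => forceI (r - t.b2) fun r' =>
          wpart k rest a' b' q' r') ts

theorem sum_sq {α : Type} (h : α → ℤ) (m : Multiset α) :
    (m.map h).sum * (m.map h).sum ≤ (m.card : ℤ) * (m.map fun a => h a * h a).sum := by
  induction m using Multiset.induction with
  | empty => simp
  | cons a m ih =>
    simp only [Multiset.map_cons, Multiset.sum_cons, Multiset.card_cons]
    have hR : 0 ≤ (m.map fun a => h a * h a).sum := Multiset.sum_nonneg fun v hv => by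
      obtain ⟨x, -, rfl⟩ := Multiset.mem_map.1 hv
      exact mul_self_nonneg _
    push_cast
    rcases Nat.eq_zero_or_pos m.card with h0 | h0
    · obtain rfl := Multiset.card_eq_zero.1 h0
      simp
    · have hn : (0 : ℤ) < (m.card : ℤ) := by exact_mod_cast h0
      generalize (m.card : ℤ) = n at ih hn ⊢
      generalize (m.map h).sum = S at ih ⊢
      generalize (m.map fun a => h a * h a).sum = R at ih hR ⊢
      refine le_of_mul_le_mul_left ?_ hn
      nlinarith [mul_self_nonneg (n * h a - S), mul_le_mul_of_nonneg_left ih hn.le]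

theorem sufAnyW_sound (g : WT → List WT → Bool) {b : WT} : ∀ ts : List WT, b ∈ ts →
    (∀ rest, b :: rest <:+ ts → g b (b :: rest) = true) → ∀ (_ : True), sufAnyW g ts = true
  | [], h, _, _ => absurd h List.not_mem_nil
  | t :: ts, h, hf, _ => by
    simp only [sufAnyW, Bool.or_eq_true]
    rcases List.mem_cons.1 h with rfl | h
    · exact Or.inl (hf ts (List.suffix_refl _))
    · exact Or.inr (sufAnyW_sound g ts h (fun rest hr => hf rest (hr.trans (List.suffix_cons _ _))) trivial)

theorem wpart_sound : ∀ (k : ℕ) (ts : List WT) (a b q r : ℤ) (m : Multiset WT),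
    (∀ t ∈ ts, t.a * t.a ≤ t.a2 ∧ t.b * t.b ≤ t.b2) → m.card = k → (∀ t ∈ m, t ∈ ts) →
    a + (m.map WT.a).sum = 0 → b + (m.map WT.b).sum = 0 → (m.map WT.a2).sum ≤ q → (m.map WT.b2).sum ≤ r →
    wpart k ts a b q r = true
  | 0, ts, a, b, q, r, m, _, hm, _, ha, hb, _, _ => by
    obtain rfl := Multiset.card_eq_zero.1 hm
    simp only [Multiset.map_zero, Multiset.sum_zero, add_zero] at ha hb
    simp [wpart, ha, hb]
  | k + 1, ts, a, b, q, r, m, hts, hm, hmem, ha, hb, hq, hr => by
    have hk : (((k + 1 : ℕ)) : ℤ) = (m.card : ℤ) := by rw [hm]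
    simp only [wpart, Bool.and_eq_true, decide_eq_true_eq]
    refine ⟨⟨?_, ?_⟩, ?_⟩
    · have h1 := sum_sq WT.a m
      have h2 : (m.map fun t => t.a * t.a).sum ≤ (m.map WT.a2).sum :=
        Multiset.sum_map_le_sum_map _ _ fun t ht => (hts t (hmem t ht)).1
      rw [show a = -(m.map WT.a).sum by linarith, neg_mul_neg, hk]
      exact h1.trans (mul_le_mul_of_nonneg_left (h2.trans hq) (Int.natCast_nonneg _))
    · have h1 := sum_sq WT.b m
      have h2 : (m.map fun t => t.b * t.b).sum ≤ (m.map WT.b2).sum :=
        Multiset.sum_map_le_sum_map _ _ fun t ht => (hts t (hmem t ht)).2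
      rw [show b = -(m.map WT.b).sum by linarith, neg_mul_neg, hk]
      exact h1.trans (mul_le_mul_of_nonneg_left (h2.trans hr) (Int.natCast_nonneg _))
    · -- the first member of the list in the multiset
      obtain ⟨t, ht, pre, post, rfl, hpre⟩ : ∃ t ∈ m, ∃ pre post : List WT,
          ts = pre ++ t :: post ∧ ∀ x ∈ m, x ∈ t :: post := by
        clear hts ha hb hq hr hk
        induction ts with
        | nil =>
          obtain ⟨x, hx⟩ := Multiset.card_pos_iff_exists_mem.1 (show 0 < m.card by omega)
          exact absurd (hmem x hx) List.not_mem_nil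
        | cons s ts ih =>
          by_cases hs : s ∈ m
          · exact ⟨s, hs, [], ts, rfl, hmem⟩
          · obtain ⟨t, ht, pre, post, rfl, hp⟩ := ih fun x hx =>
              (List.mem_cons.1 (hmem x hx)).resolve_left fun e => hs (e ▸ hx)
            exact ⟨t, ht, s :: pre, post, rfl, hp⟩
      obtain ⟨m', rfl⟩ := Multiset.exists_cons_of_mem ht
      simp only [Multiset.map_cons, Multiset.sum_cons, Multiset.card_cons] at ha hb hq hr hm
      have htin : t ∈ pre ++ t :: post := by simp
      have hn1 : 0 ≤ (m'.map WT.a2).sum := Multiset.sum_nonneg fun v hv => by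
        obtain ⟨x, hx, rfl⟩ := Multiset.mem_map.1 hv
        exact (mul_self_nonneg _).trans (hts x (hmem x (Multiset.mem_cons_of_mem hx))).1
      have hn2 : 0 ≤ (m'.map WT.b2).sum := Multiset.sum_nonneg fun v hv => by
        obtain ⟨x, hx, rfl⟩ := Multiset.mem_map.1 hv
        exact (mul_self_nonneg _).trans (hts x (hmem x (Multiset.mem_cons_of_mem hx))).2
      have key : ∀ (L pre : List WT), L = pre ++ t :: post → sufAnyW (fun t rest => decide (t.a2 ≤ q) &&
          decide (t.b2 ≤ r) && forceI (a + t.a) fun a' => forceI (b + t.b) fun b' => forceI (q - t.a2) fun q' =>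
            forceI (r - t.b2) fun r' => wpart k rest a' b' q' r') L = true := by
        intro L pre' hL
        subst hL
        induction pre' with
        | nil =>
          simp only [List.nil_append, sufAnyW, Bool.or_eq_true, Bool.and_eq_true, decide_eq_true_eq, forceI_eq]
          refine Or.inl ⟨⟨by linarith, by linarith⟩, ?_⟩
          exact wpart_sound k (t :: post) _ _ _ _ m'
            (fun x hx => hts x (List.mem_append_right _ hx)) (by omega)
            (fun x hx => hpre x (Multiset.mem_cons_of_mem hx)) (by linarith) (by linarith) (by linarith) (by linarith)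
        | cons s pre' ih => simp only [List.cons_append, sufAnyW, Bool.or_eq_true]; exact Or.inr ih
      exact key _ pre rfl

/-- the members with their numbers -/
def grp (L : List Mb) : List (Mb × ℕ) := L.dedup.map fun a => (a, L.count a)

/-- a member may be one of the ordinary members -/
def okX (p r : ℕ) (v : ℤ) (a : Mb) : Bool :=
  decide (cl p r a.d ≠ 0) && (decide (p ≠ 5) || decide (a.f = cl p r a.d * v))

/-- a member may be one of the exceptional members -/
def okY (p e r N : ℕ) (v : ℤ) (a : Mb) : Bool :=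
  decide (cl p (ry p e r) a.d ≠ 0) && (decide (p ≠ 5) || decide ((N : ℤ) * a.f = cl p (ry p e r) a.d * v))

/-- the kinds of further members -/
def wts (p r : ℕ) (v : ℤ) (W : List (ℕ × ℤ)) : List WT :=
  (W.filter fun a => okX p r v ⟨a.1, a.2, 0⟩).map fun a =>
    ⟨cl p r a.1 * (a.1 / 253 : ℕ), if p = 5 then 0 else cl p r a.1 * a.2,
      ((a.1 / 253 : ℕ) : ℤ) * (a.1 / 253 : ℕ), a.2 * a.2⟩

/-- the budgets of the further members -/
structure Bud where
  Q : ℤ
  R : ℤ
  Z : ℤ

/-- the choices of the ordinary members, and the end of the search -/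
def search (p r : ℕ) (cand : List Mb) (k : ℕ) (t : T5) (fin : ℕ → T5 → Bool) : Bool :=
  subs ((grp cand).map fun q => (ctr p q.1 (cl p r q.1.d), q.2)) k t fin

/-- the further members bring the sums to zero -/
def closeW (ws : List WT) (B : Bud) (k : ℕ) (t : T5) : Bool :=
  decide (t.d % 253 = 0) && decide (t.z * t.z ≤ (k : ℤ) * B.Z) && wpart k ws (t.d / 253) t.f B.Q B.R

/-- with one exceptional member among the further ones -/
def closeY (p e r N : ℕ) (v : ℤ) (W : List (ℕ × ℤ)) (ws : List WT) (B : Bud) (k : ℕ) (t : T5) : Bool :=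
  decide (t.d % 253 = 0) && decide (t.z * t.z ≤ ((k + 1 : ℕ) : ℤ) * B.Z) &&
    W.any fun a => okY p e r N v ⟨a.1, a.2, 0⟩ &&
      decide ((N : ℤ) * (((a.1 / 253 : ℕ) : ℤ) * (a.1 / 253 : ℕ)) ≤ B.Q) && decide ((N : ℤ) * (a.2 * a.2) ≤ B.R) &&
      wpart k ws (t.d / 253 + cl p (ry p e r) a.1 * (a.1 / 253 : ℕ))
        (if p = 5 then t.f else t.f + cl p (ry p e r) a.1 * a.2)
        (B.Q - (N : ℤ) * (((a.1 / 253 : ℕ) : ℤ) * (a.1 / 253 : ℕ))) (B.R - (N : ℤ) * (a.2 * a.2))

/-- the budgets after the copies of an exceptional member outside the known part -/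
def budY (B : Bud) (y : Mb) (n : ℕ) : Bud :=
  ⟨B.Q - (n : ℤ) * (((y.d / 253 : ℕ) : ℤ) * (y.d / 253 : ℕ)), B.R - (n : ℤ) * (y.f * y.f),
    B.Z - (n : ℤ) * (y.z * y.z)⟩

/-- the numbers of copies in the known part -/
def copies (N m : ℕ) (y : Mb) : List ℕ :=
  (List.range (min m N + 1)).filter fun j => decide (0 < j) && (decide (j = N) || decide (y.d % 253 = 0))

/-- a block with the member among the ordinary ones -/
def roleX (p e N : ℕ) (P : List Mb) (x : Mb) (W : List (ℕ × ℤ)) (B : Bud) : Bool :=
  let r := x.d % p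
  let rest := P.erase x
  let ws := wts p r x.f W
  let t0 := ctr p x 1
  decide (cl p r x.d = 1) &&
    forceP (rest.filter (okX p r x.f)) fun el =>
      search p r el (e - 1) t0 (closeY p e r N x.f W ws B) ||
        (grp (rest.filter (okY p e r N x.f))).any fun q => (copies N q.2 q.1).any fun j =>
          force5 (addN t0 1 (ctr p q.1 (cl p (ry p e r) q.1.d))) fun t1 =>
            search p r (el.diff (List.replicate j q.1)) (e - 1) t1 (closeW ws (budY B q.1 (N - j)))

/-- a block with the member among the exceptional ones -/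
def roleY (p e N : ℕ) (P : List Mb) (x : Mb) (W : List (ℕ × ℤ)) (B : Bud) : Bool :=
  ((List.range p).filter fun r => decide (0 < r) && decide (cl p (ry p e r) x.d = 1)).any fun r =>
    forceP (P.filter (okX p r ((N : ℤ) * x.f))) fun el => (copies N (P.count x) x).any fun j =>
      search p r (el.diff (List.replicate j x)) e (ctr p x 1)
        (closeW (wts p r ((N : ℤ) * x.f) W) (budY B x (N - j)))

/-- Is there a block of the member? -/
def blockB (p : ℕ) (P : List Mb) (x : Mb) (W : List (ℕ × ℤ)) (B : Bud) : Bool :=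
  ([1, 2, 3, 4, 6].filter fun e => decide (e ≤ p - 1) && decide ((p - 1) % e = 0)).any fun e =>
    roleX p e ((p - 1) / e) P x W B || roleY p e ((p - 1) / e) P x W B

/-- the signed sums over a block -/
def bsum (p e r : ℕ) (X : Multiset Mb) (y : Mb) (g : Mb → ℤ) : ℤ :=
  (X.map fun a => cl p r a.d * g a).sum + cl p (ry p e r) y.d * g y

/-- a block of the member among the known and the further members, normalised so that its sign is positive -/
structure HasBlock (p e N : ℕ) (P : List Mb) (U : Multiset Mb) (x : Mb) (r : ℕ) (v : ℤ) (X : Multiset Mb) (y : Mb) :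
    Prop where
  em : e * N = p - 1
  r_pos : 0 < r
  r_lt : r < p
  card : X.card = e
  sub : X + Multiset.replicate N y ≤ (P : Multiset Mb) + U
  okx : ∀ a ∈ X, okX p r v a = true
  oky : okY p e r N v y = true
  self : x ∈ X ∧ cl p r x.d = 1 ∨ x = y ∧ cl p (ry p e r) x.d = 1
  deg : bsum p e r X y (fun a => (a.d : ℤ)) = 0
  val : p ≠ 5 → bsum p e r X y (fun a => a.f) = 0
  inv : bsum p e r X y (fun a => a.z) = 0
  eleven : bsum p e r X y (fun a => s11 a.d) = 0
  twenty : bsum p e r X y (fun a => tw a.d) = 0

/-- the further members are of the listed kinds and within the budgets -/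
structure Further (U : Multiset Mb) (W : List (ℕ × ℤ)) (B : Bud) : Prop where
  kind : ∀ a ∈ U, a.d % 253 = 0 ∧ (a.d, a.f) ∈ W
  sqd : (U.map fun a => ((a.d / 253 : ℕ) : ℤ) * (a.d / 253 : ℕ)).sum ≤ B.Q
  sqf : (U.map fun a => a.f * a.f).sum ≤ B.R
  sqz : (U.map fun a => a.z * a.z).sum ≤ B.Z

end Cfsg.Agent.MTwentyFour.ByOrder.RowA
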