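import Cfsg.Agent.Lib.Spor.MTwentyFourOrder.RowA.Block

/-!
The search for a block of defect one at five or seven finds every block.
-/

set_option autoImplicit false
set_option maxRecDepth 100000
set_option maxHeartbeats 1000000

namespace Cfsg.Agent.MTwentyFour.ByOrder.RowA

open Cfsg.Agent.MTwentyFour.ByOrder.ThreeCase (s11 nd ordM)

theorem cl_cases (p r d : ℕ) : cl p r d = 1 ∨ cl p r d = -1 ∨ cl p r d = 0 := by
  unfold cl; split_ifs <;> simp

theorem res_of_cl {p r d : ℕ} (hr : 0 < r) (hrp : r < p) (h : cl p r d = 1) : r = d % p := by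
  have h0 : (d + (p - r)) % p = 0 := by
    unfold cl at h
    split_ifs at h with h1 <;> first | exact h1 | exact absurd h (by norm_num)
  have h1 : d % p < p := Nat.mod_lt _ (by omega)
  rw [Nat.add_mod, Nat.mod_eq_of_lt (show p - r < p by omega)] at h0
  rcases Nat.lt_or_ge (d % p + (p - r)) p with h2 | h2
  · rw [Nat.mod_eq_of_lt h2] at h0; omega
  · rw [Nat.mod_eq_sub_mod h2, Nat.mod_eq_of_lt (by omega)] at h0; omega

theorem okX_congr {p r : ℕ} {v v' : ℤ} (h : p = 5 → v = v') : okX p r v = okX p r v' := by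
  funext a
  by_cases h5 : p = 5
  · rw [h h5]
  · simp [okX, h5]

theorem okY_congr {p e r N : ℕ} {v v' : ℤ} (h : p = 5 → v = v') : okY p e r N v = okY p e r N v' := by
  funext a
  by_cases h5 : p = 5
  · rw [h h5]
  · simp [okY, h5]

/-- the copies of the exceptional member and the ordinary members, known and further -/
theorem split_block (A : Multiset Mb) (L : List Mb) (U : Multiset Mb) (y : Mb) (N : ℕ)
    (h : A + Multiset.replicate N y ≤ (L : Multiset Mb) + U) :
    ∃ (j : ℕ) (AP AU : Multiset Mb), j = min N (L.count y) ∧ A = AP + AU ∧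
      AP ≤ ((L.diff (List.replicate j y) : List Mb) : Multiset Mb) ∧
      AU + Multiset.replicate (N - j) y ≤ U ∧ (j < N → y ∈ U) := by
  set j := min N (L.count y) with hj
  set AP := A ∩ ((L.diff (List.replicate j y) : List Mb) : Multiset Mb) with hAP
  have hle := Multiset.le_iff_count.1 h
  have hU : (A - AP) + Multiset.replicate (N - j) y ≤ U := by
    refine Multiset.le_iff_count.2 fun b => ?_
    have h1 := hle b
    simp only [Multiset.count_add, Multiset.count_replicate, Multiset.count_sub, hAP, Multiset.count_inter,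
      Multiset.coe_count, List.diff_eq_foldl] at h1 ⊢
    have h2 : List.count b (List.foldl List.erase L (List.replicate j y)) =
        List.count b L - if y = b then j else 0 := by
      rw [← List.diff_eq_foldl, List.count_diff, List.count_replicate]
      simp [beq_iff_eq]
    rw [h2]
    by_cases hb : y = b
    · subst hb; simp only [if_true] at h1 ⊢; omega
    · simp only [if_neg hb] at h1 ⊢; omega
  refine ⟨j, AP, A - AP, rfl,
    (add_tsub_cancel_of_le (Multiset.inter_le_left)).symm, Multiset.inter_le_right, hU, fun hlt => ?_⟩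
  exact Multiset.mem_of_le hU (Multiset.mem_add.2 (Or.inr (Multiset.mem_replicate.2 ⟨by omega, rfl⟩)))

theorem grp_mem {L : List Mb} {a : Mb} (h : a ∈ L) : (a, L.count a) ∈ grp L :=
  List.mem_map.2 ⟨a, List.mem_dedup.2 h, rfl⟩

theorem search_sound {p r : ℕ} {cand : List Mb} {k : ℕ} {t : T5} {fin : ℕ → T5 → Bool} (m : Multiset Mb)
    (hm : m ≤ (cand : Multiset Mb)) (hk : m.card ≤ k)
    (hu : (addM t (fun a => ctr p a (cl p r a.d)) m).u = 0) (hv : (addM t (fun a => ctr p a (cl p r a.d)) m).v = 0)
    (hf : fin (k - m.card) (addM t (fun a => ctr p a (cl p r a.d)) m) = true) :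
    search p r cand k t fin = true := by
  refine subs_sound (fun a => ctr p a (cl p r a.d)) (fun a => ?_) _ k t fin m (fun a ha => ?_) (fun q hq => ?_) ?_ hk
    hu hv hf
  · obtain h | h | h := cl_cases p r a.d <;> simp [ctr, h, s11_abs, tw_abs]
  · exact ⟨_, grp_mem (by simpa using Multiset.mem_of_le hm ha), rfl⟩
  · obtain ⟨a, -, rfl⟩ := List.mem_map.1 hq
    simpa using Multiset.count_le_of_le a hm
  · simp only [grp, List.map_map, Function.comp_def, List.map_id']
    exact List.nodup_dedup _

theorem le_filter_diff {p r : ℕ} {v : ℤ} {L : List Mb} {A : Multiset Mb} {j : ℕ} {y : Mb}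
    (hA : A ≤ ((L.diff (List.replicate j y) : List Mb) : Multiset Mb)) (hok : ∀ a ∈ A, okX p r v a = true) :
    A ≤ (((L.filter (okX p r v)).diff (List.replicate j y) : List Mb) : Multiset Mb) := by
  refine Multiset.le_iff_count.2 fun b => ?_
  by_cases hb : b ∈ A
  · have h := Multiset.le_iff_count.1 hA b
    simp only [Multiset.coe_count, List.count_diff] at h ⊢
    rwa [List.count_filter (hok b hb)]
  · rw [Multiset.count_eq_zero.2 hb]; exact Nat.zero_le _

/-- what the further members of the block are -/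
theorem further_part {p r : ℕ} {v : ℤ} {U : Multiset Mb} {W : List (ℕ × ℤ)} {B : Bud} (F : Further U W B)
    {A : Multiset Mb} {y : Mb} {n : ℕ} (hA : A + Multiset.replicate n y ≤ U) (hok : ∀ a ∈ A, okX p r v a = true) :
    (∀ a ∈ A, s11 a.d = 0 ∧ tw a.d = 0 ∧ (a.d : ℤ) = 253 * ((a.d / 253 : ℕ) : ℤ) ∧
      (⟨cl p r a.d * (a.d / 253 : ℕ), if p = 5 then 0 else cl p r a.d * a.f,
        ((a.d / 253 : ℕ) : ℤ) * (a.d / 253 : ℕ), a.f * a.f⟩ : WT) ∈ wts p r v W) ∧
    (A.map fun a => ((a.d / 253 : ℕ) : ℤ) * (a.d / 253 : ℕ)).sum ≤ (budY B y n).Q ∧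
    (A.map fun a => a.f * a.f).sum ≤ (budY B y n).R ∧ (A.map fun a => a.z * a.z).sum ≤ (budY B y n).Z := by
  obtain ⟨V, rfl⟩ := Multiset.le_iff_exists_add.1 hA
  have key : ∀ g : Mb → ℤ, ∀ T : ℤ, ((A + Multiset.replicate n y + V).map fun a => g a * g a).sum ≤ T →
      (A.map fun a => g a * g a).sum ≤ T - (n : ℤ) * (g y * g y) := fun g T h => by
    have h0 : 0 ≤ (V.map fun a => g a * g a).sum := Multiset.sum_nonneg fun w hw => by
      obtain ⟨x, -, rfl⟩ := Multiset.mem_map.1 hw
      exact mul_self_nonneg _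
    simp only [Multiset.map_add, Multiset.sum_add, Multiset.map_replicate, Multiset.sum_replicate, nsmul_eq_mul] at h
    linarith
  refine ⟨fun a ha => ?_, key (fun a => ((a.d / 253 : ℕ) : ℤ)) _ F.sqd, key Mb.f _ F.sqf, key Mb.z _ F.sqz⟩
  obtain ⟨h253, hW⟩ := F.kind a (by simp [ha])
  refine ⟨s11_zero h253, tw_zero h253, by omega, List.mem_map.2 ⟨(a.d, a.f), List.mem_filter.2 ⟨hW, ?_⟩, rfl⟩⟩
  simpa [okX] using hok a ha

theorem wts_sq {p r : ℕ} {v : ℤ} {W : List (ℕ × ℤ)} : ∀ t ∈ wts p r v W, t.a * t.a ≤ t.a2 ∧ t.b * t.b ≤ t.b2 := by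
  intro t ht
  obtain ⟨a, -, rfl⟩ := List.mem_map.1 ht
  refine ⟨?_, ?_⟩
  · obtain h | h | h := cl_cases p r a.1 <;> simp [h, mul_self_nonneg]
  · by_cases h5 : p = 5
    · simp [h5, mul_self_nonneg]
    · obtain h | h | h := cl_cases p r a.1 <;> simp [h5, h, mul_self_nonneg]

theorem z_bound {p r : ℕ} (A : Multiset Mb) :
    ((A.map fun a => cl p r a.d * a.z).sum) * ((A.map fun a => cl p r a.d * a.z).sum) ≤
      (A.card : ℤ) * (A.map fun a => a.z * a.z).sum := by
  refine (sum_sq _ A).trans (mul_le_mul_of_nonneg_left (Multiset.sum_map_le_sum_map _ _ fun a _ => ?_)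
    (Int.natCast_nonneg _))
  obtain h | h | h := cl_cases p r a.d <;> simp [h, mul_self_nonneg]

theorem closeW_sound {p r : ℕ} {v : ℤ} {U : Multiset Mb} {W : List (ℕ × ℤ)} {B : Bud} (F : Further U W B)
    {A : Multiset Mb} {y : Mb} {n : ℕ} (hA : A + Multiset.replicate n y ≤ U) (hok : ∀ a ∈ A, okX p r v a = true)
    {t : T5} (hd : t.d + (A.map fun a => cl p r a.d * (a.d : ℤ)).sum = 0)
    (hf : t.f + (A.map fun a => if p = 5 then 0 else cl p r a.d * a.f).sum = 0)
    (hz : t.z + (A.map fun a => cl p r a.d * a.z).sum = 0) :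
    closeW (wts p r v W) (budY B y n) A.card t = true := by
  obtain ⟨hk, hq, hr, hzz⟩ := further_part (p := p) (r := r) (v := v) F hA hok
  set S := (A.map fun a => cl p r a.d * ((a.d / 253 : ℕ) : ℤ)).sum
  have hS : (A.map fun a => cl p r a.d * (a.d : ℤ)).sum = 253 * S := by
    rw [← Multiset.sum_map_mul_left]
    exact congrArg _ (Multiset.map_congr rfl fun a ha => by rw [(hk a ha).2.2.1]; ring_nf)
  rw [hS] at hd
  simp only [closeW, Bool.and_eq_true, decide_eq_true_eq]
  refine ⟨⟨by omega, ?_⟩, ?_⟩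
  · rw [show t.z = -(A.map fun a => cl p r a.d * a.z).sum by linarith, neg_mul_neg]
    exact (z_bound A).trans (mul_le_mul_of_nonneg_left hzz (Int.natCast_nonneg _))
  · refine wpart_sound _ _ _ _ _ _ (A.map fun a => (⟨cl p r a.d * (a.d / 253 : ℕ),
      if p = 5 then 0 else cl p r a.d * a.f, ((a.d / 253 : ℕ) : ℤ) * (a.d / 253 : ℕ), a.f * a.f⟩ : WT))
      wts_sq (by simp) (fun w hw => ?_) ?_ ?_ ?_ ?_
    · obtain ⟨a, ha, rfl⟩ := Multiset.mem_map.1 hw
      exact (hk a ha).2.2.2
    · rw [show t.d / 253 = -S by omega, Multiset.map_map]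
      exact neg_add_cancel S
    · rw [Multiset.map_map]; exact hf
    · rw [Multiset.map_map]; exact hq
    · rw [Multiset.map_map]; exact hr

theorem closeY_sound {p e r N : ℕ} {v : ℤ} {U : Multiset Mb} {W : List (ℕ × ℤ)} {B : Bud} (F : Further U W B)
    {A : Multiset Mb} {y : Mb} (hN : 0 < N) (hA : A + Multiset.replicate N y ≤ U)
    (hok : ∀ a ∈ A, okX p r v a = true) (hy : okY p e r N v y = true) {t : T5}
    (hd : t.d + (A.map fun a => cl p r a.d * (a.d : ℤ)).sum + cl p (ry p e r) y.d * (y.d : ℤ) = 0)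
    (hf : p ≠ 5 → t.f + (A.map fun a => cl p r a.d * a.f).sum + cl p (ry p e r) y.d * y.f = 0) (hf5 : p = 5 → t.f = 0)
    (hz : t.z + (A.map fun a => cl p r a.d * a.z).sum + cl p (ry p e r) y.d * y.z = 0) :
    closeY p e r N v W (wts p r v W) B A.card t = true := by
  obtain ⟨hk, hq, hr, hzz⟩ := further_part (p := p) (r := r) (v := v) F hA hok
  obtain ⟨hy253, hyW⟩ := F.kind y (Multiset.mem_of_le hA
    (Multiset.mem_add.2 (Or.inr (Multiset.mem_replicate.2 ⟨by omega, rfl⟩))))
  simp only [budY] at hq hr hzz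
  set S := (A.map fun a => cl p r a.d * ((a.d / 253 : ℕ) : ℤ)).sum
  have hS : (A.map fun a => cl p r a.d * (a.d : ℤ)).sum = 253 * S := by
    rw [← Multiset.sum_map_mul_left]
    exact congrArg _ (Multiset.map_congr rfl fun a ha => by rw [(hk a ha).2.2.1]; ring_nf)
  have hyd : (y.d : ℤ) = 253 * ((y.d / 253 : ℕ) : ℤ) := by omega
  rw [hS, hyd] at hd
  set c := cl p (ry p e r) y.d with hc
  simp only [closeY, Bool.and_eq_true, decide_eq_true_eq, List.any_eq_true]
  refine ⟨⟨?_, ?_⟩, (y.d, y.f), hyW, ⟨⟨by simpa [okY] using hy, ?_⟩, ?_⟩, ?_⟩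
  · exact Int.emod_eq_zero_of_dvd ⟨-(S + c * ((y.d / 253 : ℕ) : ℤ)), by linarith⟩
  · have h1 := sum_sq (fun a : Option Mb => match a with | none => c * y.z | some b => cl p r b.d * b.z)
      (none ::ₘ A.map some)
    simp only [Multiset.map_cons, Multiset.sum_cons, Multiset.map_map, Function.comp_def, Multiset.card_cons,
      Multiset.card_map] at h1
    rw [show t.z = -(c * y.z + (A.map fun a => cl p r a.d * a.z).sum) by linarith, neg_mul_neg]
    refine h1.trans (mul_le_mul_of_nonneg_left ?_ (Int.natCast_nonneg _))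
    have h2 : (A.map fun a => cl p r a.d * a.z * (cl p r a.d * a.z)).sum ≤ (A.map fun a => a.z * a.z).sum :=
      Multiset.sum_map_le_sum_map _ _ fun a _ => by
        obtain h | h | h := cl_cases p r a.d <;> simp [h, mul_self_nonneg]
    have h3 : c * y.z * (c * y.z) ≤ (N : ℤ) * (y.z * y.z) := by
      have : (1 : ℤ) ≤ (N : ℤ) := by exact_mod_cast hN
      have := le_mul_of_one_le_left (mul_self_nonneg y.z) this
      obtain h | h | h := cl_cases p (ry p e r) y.d <;> rw [hc, h] <;> linarith [mul_self_nonneg y.z]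
    linarith
  · have : 0 ≤ (A.map fun a => ((a.d / 253 : ℕ) : ℤ) * (a.d / 253 : ℕ)).sum := Multiset.sum_nonneg fun w hw => by
      obtain ⟨x, -, rfl⟩ := Multiset.mem_map.1 hw
      exact mul_self_nonneg _
    linarith
  · have : 0 ≤ (A.map fun a => a.f * a.f).sum := Multiset.sum_nonneg fun w hw => by
      obtain ⟨x, -, rfl⟩ := Multiset.mem_map.1 hw
      exact mul_self_nonneg _
    linarith
  · refine wpart_sound _ _ _ _ _ _ (A.map fun a => (⟨cl p r a.d * (a.d / 253 : ℕ),
      if p = 5 then 0 else cl p r a.d * a.f, ((a.d / 253 : ℕ) : ℤ) * (a.d / 253 : ℕ), a.f * a.f⟩ : WT))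
      wts_sq (by simp) (fun w hw => ?_) ?_ ?_ ?_ ?_
    · obtain ⟨a, ha, rfl⟩ := Multiset.mem_map.1 hw
      exact (hk a ha).2.2.2
    · rw [Multiset.map_map]
      show t.d / 253 + c * ((y.d / 253 : ℕ) : ℤ) + S = 0
      have : t.d = 253 * (-(S + c * ((y.d / 253 : ℕ) : ℤ))) := by linarith
      rw [this, Int.mul_ediv_cancel_left _ (by norm_num)]
      ring
    · rw [Multiset.map_map]
      by_cases h5 : p = 5
      · simp only [h5, if_true, Function.comp_def, hf5 h5, Multiset.map_const', Multiset.sum_replicate, smul_zero,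
          add_zero]
      · simp only [if_neg h5, Function.comp_def]
        have := hf h5
        linarith
    · rw [Multiset.map_map]; exact hq
    · rw [Multiset.map_map]; exact hr

theorem addM_ctr (p r : ℕ) (t : T5) (m : Multiset Mb) :
    addM t (fun a => ctr p a (cl p r a.d)) m =
      ⟨t.d + (m.map fun a => cl p r a.d * (a.d : ℤ)).sum,
        t.f + (m.map fun a => if p = 5 then 0 else cl p r a.d * a.f).sum,
        t.z + (m.map fun a => cl p r a.d * a.z).sum, t.u + (m.map fun a => cl p r a.d * s11 a.d).sum,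
        t.v + (m.map fun a => cl p r a.d * tw a.d).sum⟩ := rfl

/-- The search finds every block. -/
theorem blockB_sound {p e N r : ℕ} {v : ℤ} {P : List Mb} {U X : Multiset Mb} {x y : Mb} {W : List (ℕ × ℤ)} {B : Bud}
    (hp : p = 5 ∨ p = 7) (hx : x ∈ P) (H : HasBlock p e N P U x r v X y) (F : Further U W B) :
    blockB p P x W B = true := by
  obtain ⟨hem, hr0, hrp, hcard, hsub, hokx, hoky, hself, hd, hf, hz, hu, hv⟩ := H
  have hN : 0 < N := Nat.pos_of_ne_zero fun h => by rw [h, mul_zero] at hem; omega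
  have he : 0 < e := Nat.pos_of_ne_zero fun h => by rw [h, zero_mul] at hem; omega
  have hle : e ≤ p - 1 := hem ▸ Nat.le_mul_of_pos_right e hN
  have hmem : e ∈ [1, 2, 3, 4, 6].filter fun e => decide (e ≤ p - 1) && decide ((p - 1) % e = 0) := by
    refine List.mem_filter.2 ⟨?_, by
      simp only [Bool.and_eq_true, decide_eq_true_eq]
      exact ⟨hle, Nat.mod_eq_zero_of_dvd ⟨N, hem.symm⟩⟩⟩
    have hdv : e ∣ p - 1 := ⟨N, hem.symm⟩
    rcases hp with rfl | rfl <;> (have := Nat.le_of_dvd (by norm_num) hdv; interval_cases e <;> simp_all)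
  have hdiv : (p - 1) / e = N := by rw [← hem, Nat.mul_div_cancel_left _ he]
  simp only [blockB, List.any_eq_true, Bool.or_eq_true]
  refine ⟨e, hmem, ?_⟩
  rw [hdiv]
  have hfs : ∀ A : Multiset Mb, p ≠ 5 →
      (A.map fun a => if p = 5 then 0 else cl p r a.d * a.f).sum = (A.map fun a => cl p r a.d * a.f).sum :=
    fun A h5 => congrArg _ (Multiset.map_congr rfl fun a _ => if_neg h5)
  have hfs5 : ∀ A : Multiset Mb, p = 5 → (A.map fun a => if p = 5 then 0 else cl p r a.d * a.f).sum = 0 :=
    fun A h5 => by simp [h5]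
  simp only [bsum] at hd hf hz hu hv
  rcases hself with ⟨hxX, hx1⟩ | ⟨rfl, hx1⟩
  · left
    have hr : r = x.d % p := res_of_cl hr0 hrp hx1
    have hv5 : p = 5 → v = x.f := fun h5 => by
      have := hokx x hxX
      simp only [okX, h5, decide_not, decide_true, Bool.not_true, Bool.false_or, Bool.and_eq_true,
        decide_eq_true_eq] at this
      rw [h5] at hx1
      rw [this.2, hx1, one_mul]
    rw [okX_congr hv5] at hokx
    rw [okY_congr hv5] at hoky
    obtain ⟨X', rfl⟩ := Multiset.exists_cons_of_mem hxX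
    rw [Multiset.card_cons] at hcard
    simp only [Multiset.map_cons, Multiset.sum_cons, hx1, one_mul] at hd hf hz hu hv
    have hsub' : X' + Multiset.replicate N y ≤ ((P.erase x : List Mb) : Multiset Mb) + U := by
      rw [← Multiset.coe_erase, ← Multiset.erase_add_left_pos U (by simpa using hx)]
      have := Multiset.erase_le_erase x hsub
      rwa [Multiset.cons_add, Multiset.erase_cons_head] at this
    obtain ⟨j, AP, AU, hjm, rfl, hAP, hAU, hjU⟩ := split_block X' _ U y N hsub'
    have hjN : j ≤ N := hjm ▸ min_le_left _ _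
    have hjc : j ≤ (P.erase x).count y := hjm ▸ min_le_right _ _
    have hokU : ∀ a ∈ AU, okX p r x.f a = true := fun a ha => hokx a (by simp [ha])
    have hokP : ∀ a ∈ AP, okX p r x.f a = true := fun a ha => hokx a (by simp [ha])
    obtain ⟨hk, -, -, -⟩ := further_part (p := p) (r := r) (v := x.f) F hAU hokU
    have hu0 : (AU.map fun a => cl p r a.d * s11 a.d).sum = 0 := Multiset.sum_eq_zero fun w hw => by
      obtain ⟨a, ha, rfl⟩ := Multiset.mem_map.1 hw
      rw [(hk a ha).1, mul_zero]
    have hv0 : (AU.map fun a => cl p r a.d * tw a.d).sum = 0 := Multiset.sum_eq_zero fun w hw => by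
      obtain ⟨a, ha, rfl⟩ := Multiset.mem_map.1 hw
      rw [(hk a ha).2.1, mul_zero]
    simp only [Multiset.map_add, Multiset.sum_add, hu0, hv0, add_zero, Multiset.card_add] at hd hf hz hu hv hcard
    simp only [roleX, ← hr, hx1, decide_true, Bool.true_and, Bool.or_eq_true, List.any_eq_true, force5_eq, forceP_eq]
    rcases Nat.eq_zero_or_pos j with rfl | hj
    · left
      obtain ⟨hy253, -⟩ := F.kind y (hjU hN)
      rw [s11_zero hy253, mul_zero, add_zero] at hu
      rw [tw_zero hy253, mul_zero, add_zero] at hv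
      refine search_sound AP (by simpa using le_filter_diff hAP hokP) (by omega) ?_ ?_ ?_
      · rw [addM_ctr]; simpa [ctr, one_mul] using hu
      · rw [addM_ctr]; simpa [ctr, one_mul] using hv
      · rw [show e - 1 - AP.card = AU.card by omega, addM_ctr]
        refine closeY_sound F hN (by simpa using hAU) hokU hoky ?_ (fun h5 => ?_) (fun h5 => ?_) ?_
        · simp only [ctr, one_mul]; linarith
        · simp only [ctr, if_neg h5, one_mul, hfs _ h5]; linarith [hf h5]
        · simp only [ctr, if_pos h5]; simp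
        · simp only [ctr, one_mul]; linarith
    · right
      have hym : y ∈ P.erase x := List.count_pos_iff.1 (by omega)
      refine ⟨_, grp_mem (List.mem_filter.2 ⟨hym, hoky⟩), j, ?_, ?_⟩
      · simp only [copies, List.mem_filter, List.mem_range, Bool.and_eq_true, Bool.or_eq_true, decide_eq_true_eq]
        refine ⟨?_, hj, ?_⟩
        · rw [List.count_filter hoky]; omega
        · rcases hjN.lt_or_eq with h | h
          · exact Or.inr (F.kind y (hjU h)).1
          · exact Or.inl h
      · refine search_sound AP (le_filter_diff hAP hokP) (by omega) ?_ ?_ ?_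
        · rw [addM_ctr]; simp only [addN, ctr, one_mul, Nat.cast_one]; linarith
        · rw [addM_ctr]; simp only [addN, ctr, one_mul, Nat.cast_one]; linarith
        · rw [show e - 1 - AP.card = AU.card by omega, addM_ctr]
          refine closeW_sound F hAU hokU ?_ ?_ ?_
          · simp only [addN, ctr, one_mul, Nat.cast_one]; linarith
          · by_cases h5 : p = 5
            · simp [addN, ctr, h5]
            · simp only [addN, ctr, if_neg h5, one_mul, Nat.cast_one, hfs _ h5]; linarith [hf h5]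
          · simp only [addN, ctr, one_mul, Nat.cast_one]; linarith
  · right
    have hv5 : p = 5 → v = (N : ℤ) * x.f := fun h5 => by
      have := hoky
      simp only [okY, h5, decide_not, decide_true, Bool.not_true, Bool.false_or, Bool.and_eq_true,
        decide_eq_true_eq] at this
      rw [h5] at hx1
      rw [this.2, hx1, one_mul]
    rw [okX_congr hv5] at hokx
    simp only [hx1, one_mul] at hd hf hz hu hv
    obtain ⟨j, AP, AU, hjm, rfl, hAP, hAU, hjU⟩ := split_block X P U x N hsub
    have hjN : j ≤ N := hjm ▸ min_le_left _ _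
    have hjc : j ≤ P.count x := hjm ▸ min_le_right _ _
    simp only [roleY, forceP_eq, List.any_eq_true, List.mem_filter, List.mem_range, Bool.and_eq_true, decide_eq_true_eq]
    have hokU : ∀ a ∈ AU, okX p r ((N : ℤ) * x.f) a = true := fun a ha => hokx a (by simp [ha])
    have hokP : ∀ a ∈ AP, okX p r ((N : ℤ) * x.f) a = true := fun a ha => hokx a (by simp [ha])
    obtain ⟨hk, -, -, -⟩ := further_part (p := p) (r := r) (v := (N : ℤ) * x.f) F hAU hokU
    have hu0 : (AU.map fun a => cl p r a.d * s11 a.d).sum = 0 := Multiset.sum_eq_zero fun w hw => by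
      obtain ⟨a, ha, rfl⟩ := Multiset.mem_map.1 hw
      rw [(hk a ha).1, mul_zero]
    have hv0 : (AU.map fun a => cl p r a.d * tw a.d).sum = 0 := Multiset.sum_eq_zero fun w hw => by
      obtain ⟨a, ha, rfl⟩ := Multiset.mem_map.1 hw
      rw [(hk a ha).2.1, mul_zero]
    simp only [Multiset.map_add, Multiset.sum_add, hu0, hv0, add_zero, Multiset.card_add] at hd hf hz hu hv hcard
    -- at least one copy is known
    have hj : 0 < j := by rw [hjm]; exact lt_min hN (List.count_pos_iff.2 hx)
    refine ⟨r, ⟨hrp, hr0, hx1⟩, j, ?_, ?_⟩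
    · simp only [copies, List.mem_filter, List.mem_range, Bool.and_eq_true, Bool.or_eq_true, decide_eq_true_eq]
      refine ⟨by omega, hj, ?_⟩
      rcases hjN.lt_or_eq with h | h
      · exact Or.inr (F.kind x (hjU h)).1
      · exact Or.inl h
    · refine search_sound AP (le_filter_diff hAP hokP) (by omega) ?_ ?_ ?_
      · rw [addM_ctr]; simp only [ctr, one_mul]; linarith
      · rw [addM_ctr]; simp only [ctr, one_mul]; linarith
      · rw [show e - AP.card = AU.card by omega, addM_ctr]
        refine closeW_sound F hAU hokU ?_ ?_ ?_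
        · simp only [ctr, one_mul]; linarith
        · by_cases h5 : p = 5
          · simp [ctr, h5]
          · simp only [ctr, if_neg h5, one_mul, hfs _ h5]; linarith [hf h5]
        · simp only [ctr, one_mul]; linarith

end Cfsg.Agent.MTwentyFour.ByOrder.RowA
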