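import Cfsg.Agent.Lib.Spor.MTwentyFourOrder.RowA.Facts

/-!
A simple group of the order of the Mathieu group of degree twenty-four, centraliser of order sixty with the first row:
the sums over all characters and the blocks at five and seven, as multisets of column data.
-/

set_option autoImplicit false
set_option linter.unusedSectionVars false
set_option maxRecDepth 100000
set_option maxHeartbeats 2000000

namespace Cfsg.Agent.MTwentyFour.ByOrder.RowA

open Cfsg Cfsg.Agent.Char Cfsg.Agent.Small.Order459648 Cfsg.Agent.Char.PrimeSylowCount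
open Cfsg.Agent.MTwelve.OrderFront (val_one)
open Cfsg.Agent.MTwentyFour.ByOrder.Ten (TCol w11 w23)
open Cfsg.Agent.MTwentyFour.ByOrder.FiveColumn (FCol)
open Cfsg.Agent.MTwentyFour.ByOrder.ThreeCase (s11 nd ordM deg_pos' int_form weighted_deg w11_eq)
open scoped _root_.Classical

universe u

variable {G : Type u} [Group G] [Fintype G] [IsSimpleGroup G]

local instance fact_fiveBlocks : Fact (Nat.Prime 5) := ⟨by norm_num⟩
local instance fact_sevenBlocks : Fact (Nat.Prime 7) := ⟨by norm_num⟩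
local instance fact_elevenBlocks : Fact (Nat.Prime 11) := ⟨by norm_num⟩

variable {P : Sylow 11 G} {g : G} {z : IrrCharacter G → ℤ} {C : ℕ} {Q : Sylow 5 G} {M : Ideal AlgInt}
  {c : Fin 4 → IrrCharacter G} {φ : IrrCharacter G → ℤ}

theorem cl_val {p r d : ℕ} {s : ℤ} (hp : p = 5 ∨ p = 7) (hr : 0 < r) (hrp : r < p) (hs : s = 1 ∨ s = -1)
    (h : (s * (d : ℤ) - r) % (p : ℤ) = 0) : cl p r d = s := by
  rcases hs with rfl | rfl <;> rcases hp with rfl | rfl <;> simp only [cl] <;> split_ifs <;> omega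

theorem ry_lt {p e r : ℕ} (hp : 0 < p) : ry p e r < p := Nat.mod_lt _ hp

theorem ry_mod {p e r : ℕ} (hp : 0 < p) : ((ry p e r : ℤ) + (e * r : ℕ)) % (p : ℤ) = 0 := by
  have h2 : e * r % p < p := Nat.mod_lt _ hp
  have h3 : ((ry p e r + e * r) % p : ℕ) = 0 := by
    simp only [ry, Nat.mod_add_mod]
    have h4 : p - e * r % p + e * r = p + p * (e * r / p) := by
      have := Nat.mod_add_div (e * r) p
      omega
    rw [h4, show p + p * (e * r / p) = p * (1 + e * r / p) by ring, Nat.mul_mod_right]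
  have : (((ry p e r + e * r) % p : ℕ) : ℤ) = ((0 : ℕ) : ℤ) := by rw [h3]
  push_cast at this ⊢
  exact this

namespace Setting

/-- The sums over all characters. -/
theorem whole (S : Setting P g z C Q M c φ) : Whole C (Finset.univ.val.map (mb φ z)) := by
  have hG := S.T.order
  have e : ∀ h : Mb → ℤ, msum h (Finset.univ.val.map (mb φ z)) = ∑ χ, h (mb φ z χ) := fun h => by
    rw [msum, Multiset.map_map]; rfl
  obtain ⟨w1, w2, w3, -, w5⟩ := weighted_deg (G := G) hG S.T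
  obtain ⟨n, hn⟩ := S.F.quad_eleven
  obtain ⟨n', hn'⟩ := S.F.mixed_eleven
  have q1 : ∑ χ : IrrCharacter G, w11 (charDegree (χ : G → ℂ)) * nd (charDegree (χ : G → ℂ)) * (φ χ * φ χ) = 3600 * (n : ℤ) := by
    have h := int_form (G := G) hG (fun χ : IrrCharacter G => w11 (charDegree (χ : G → ℂ))) fun χ => φ χ * φ χ
    have h' : ((∑ χ : IrrCharacter G, w11 (charDegree (χ : G → ℂ)) * nd (charDegree (χ : G → ℂ)) * (φ χ * φ χ) : ℤ) : ℂ) =
        ((3600 * (n : ℤ) : ℤ) : ℂ) := by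
      rw [h]
      simp only [Int.cast_mul, pow_two, mul_assoc] at hn ⊢
      rw [hn]
      push_cast
      ring
    exact_mod_cast h'
  have q2 : ∑ χ : IrrCharacter G, w11 (charDegree (χ : G → ℂ)) * nd (charDegree (χ : G → ℂ)) * (φ χ * z χ) =
      ((60 * C : ℕ) : ℤ) * (n' : ℤ) := by
    have h := int_form (G := G) hG (fun χ : IrrCharacter G => w11 (charDegree (χ : G → ℂ))) fun χ => φ χ * z χ
    have h' : ((∑ χ : IrrCharacter G, w11 (charDegree (χ : G → ℂ)) * nd (charDegree (χ : G → ℂ)) * (φ χ * z χ) : ℤ) : ℂ) =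
        ((((60 * C : ℕ) : ℤ) * (n' : ℤ) : ℤ) : ℂ) := by
      rw [h]
      simp only [Int.cast_mul, mul_assoc] at hn' ⊢
      rw [hn']
      push_cast
      ring
    exact_mod_cast h'
  have q3 : ∑ χ : IrrCharacter G, w11 (charDegree (χ : G → ℂ)) * nd (charDegree (χ : G → ℂ)) * (z χ * z χ) =
      11 * (C : ℤ) * (C : ℤ) := by
    have h := int_form (G := G) hG (fun χ : IrrCharacter G => w11 (charDegree (χ : G → ℂ))) fun χ => z χ * z χ
    have h' : ((∑ χ : IrrCharacter G, w11 (charDegree (χ : G → ℂ)) * nd (charDegree (χ : G → ℂ)) * (z χ * z χ) : ℤ) : ℂ) =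
        ((11 * (C : ℤ) * (C : ℤ) : ℤ) : ℂ) := by
      rw [h]
      have hn2 := S.T.quad_eleven
      simp only [Int.cast_mul, pow_two, mul_assoc] at hn2 ⊢
      rw [hn2]
      push_cast
      ring
    exact_mod_cast h'
  constructor <;> simp only [e, mb, ← w11_eq]
  · rw [w1]; simp [ordM]
  · exact w3
  · exact w2
  · exact S.F.lin_eleven
  · exact S.T.lin_eleven
  · exact S.F.orth_one
  · exact w5
  · rw [S.F.square]; norm_num
  · exact S.F.orth_invol
  · exact S.T.square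
  · rw [q1]
    exact ⟨Int.mul_emod_right _ _, by positivity⟩
  · exact q3
  · rw [q2]
    exact ⟨Int.mul_emod_right _ _, by positivity⟩

/-- The signed sums of a block in the column data. -/
theorem bsum_eq {p e r : ℕ} {X : Finset (IrrCharacter G)} {y : IrrCharacter G} {σ : IrrCharacter G → ℤ}
    (hX : ∀ χ ∈ X, cl p r (charDegree (χ : G → ℂ)) = σ χ) (hy : cl p (ry p e r) (charDegree (y : G → ℂ)) = σ y)
    (h : Mb → ℤ) :
    bsum p e r (X.val.map (mb φ z)) (mb φ z y) h = ∑ χ ∈ X, σ χ * h (mb φ z χ) + σ y * h (mb φ z y) := by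
  simp only [bsum, Multiset.map_map, Function.comp_def]
  rw [show (mb φ z y).d = charDegree (y : G → ℂ) from rfl, hy]
  congr 1
  exact Finset.sum_congr rfl fun χ hχ => by rw [show (mb φ z χ).d = charDegree (χ : G → ℂ) from rfl, hX χ hχ]

/-- The relation at the regular elements gives the sums over the block. -/
theorem blk_sums (S : Setting P g z C Q M c φ) {p : ℕ} (hp : p = 5 ∨ p = 7) {X : Finset (IrrCharacter G)}
    {y : IrrCharacter G} {σ : IrrCharacter G → ℤ}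
    (hrel : ∀ x : G, ¬ p ∣ orderOf x → ∑ χ ∈ X, (σ χ : ℂ) * (χ : G → ℂ) x + (σ y : ℂ) * (y : G → ℂ) x = 0) :
    (∑ χ ∈ X, σ χ * (charDegree (χ : G → ℂ) : ℤ) + σ y * (charDegree (y : G → ℂ) : ℤ) = 0) ∧
    (p ≠ 5 → ∑ χ ∈ X, σ χ * φ χ + σ y * φ y = 0) ∧
    (∑ χ ∈ X, σ χ * z χ + σ y * z y = 0) ∧
    (∑ χ ∈ X, σ χ * s11 (charDegree (χ : G → ℂ)) + σ y * s11 (charDegree (y : G → ℂ)) = 0) ∧
    (∑ χ ∈ X, σ χ * tw (charDegree (χ : G → ℂ)) + σ y * tw (charDegree (y : G → ℂ)) = 0) := by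
  obtain ⟨w, hw⟩ := Ten.exists_y P S.T.card
  have hw1 : (w : G) ≠ 1 := mem_nonOne.1 hw
  obtain ⟨v, hv, hval⟩ := val_twentythree (G := G) S.T.order
  refine ⟨?_, fun h5 => ?_, ?_, ?_, ?_⟩
  · have h := hrel 1 (by rcases hp with rfl | rfl <;> simp)
    simp only [val_one] at h
    exact_mod_cast h
  · obtain rfl := hp.resolve_left h5
    have h := hrel (g ^ 2) (by rw [orderOf_pow, S.T.ord]; norm_num)
    simp only [S.F.val] at h
    exact_mod_cast h
  · have h := hrel (g ^ 5) (by rw [orderOf_pow, S.T.ord]; rcases hp with rfl | rfl <;> norm_num)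
    simp only [S.T.val] at h
    exact_mod_cast h
  · have h := hrel (w : G) (by rw [Sections.order_eq S.T.card w.2 hw1]; rcases hp with rfl | rfl <;> norm_num)
    simp only [S.T.val_eleven _ _ w.2 hw1] at h
    simp only [← w11_eq]
    exact_mod_cast h
  · have h1 := hrel v (by rw [hv]; rcases hp with rfl | rfl <;> norm_num)
    have h2 := hrel v⁻¹ (by rw [orderOf_inv, hv]; rcases hp with rfl | rfl <;> norm_num)
    have h : ∑ χ ∈ X, (σ χ : ℂ) * ((χ : G → ℂ) v + (χ : G → ℂ) v⁻¹) +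
        (σ y : ℂ) * ((y : G → ℂ) v + (y : G → ℂ) v⁻¹) = 0 := by
      simp only [mul_add, Finset.sum_add_distrib]
      linear_combination h1 + h2
    simp only [hval] at h
    exact_mod_cast h

/-- A block of five. -/
theorem blk_five (S : Setting P g z C Q M c φ) (χ0 : IrrCharacter G) (h0 : ¬ 5 ∣ charDegree (χ0 : G → ℂ)) :
    HasBlk 5 (Finset.univ.val.map (mb φ z)) (mb φ z χ0) := by
  obtain ⟨e, N, X, Y, y, σ, v, ⟨hem, hXc, hYc, hdisj, h0m, hy, hmem, hYt, -⟩, -, -, hσ, hσX, hσY, hv0, hXv, hNy,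
    hrel⟩ := five_full S.T S.D S.F (t := fun χ => (charDegree (χ : G → ℂ), φ χ)) (fun _ => rfl) χ0 h0
  set r : ℕ := (v % 5).toNat with hr
  obtain ⟨χ1, hχ1⟩ : X.Nonempty := Finset.card_pos.1 (by
    rw [hXc]; exact Nat.pos_of_ne_zero fun h => by simp [h] at hem)
  have hmod : ∀ χ ∈ X, (5 : ℤ) ∣ σ χ * (charDegree (χ : G → ℂ) : ℤ) - v := fun χ hχ => by
    rw [← hXv χ hχ, ← mul_sub]; exact dvd_mul_of_dvd_right (S.F.congr χ) _
  have hr0 : 0 < r := by
    have h1 := hmod χ1 hχ1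
    have h5 : ¬ (5 : ℤ) ∣ (charDegree (χ1 : G → ℂ) : ℤ) := fun h =>
      (hmem χ1 (Finset.mem_union_left _ hχ1)).1 (by exact_mod_cast h)
    rcases hσ χ1 with e' | e' <;> rw [e'] at h1 <;> omega
  have hclX : ∀ χ ∈ X, cl 5 r (charDegree (χ : G → ℂ)) = σ χ := fun χ hχ =>
    cl_val (Or.inl rfl) hr0 (by omega) (hσ χ) (by
      have := hmod χ hχ
      push_cast
      omega)
  have he : e ≤ 4 := Nat.le_of_dvd (by norm_num) ⟨N, hem.symm⟩
  have hN : N ≤ 4 := Nat.le_of_dvd (by norm_num) ⟨e, by rw [mul_comm]; exact hem.symm⟩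
  have hcly : cl 5 (ry 5 e r) (charDegree (y : G → ℂ)) = σ y := by
    have h1 : (5 : ℤ) ∣ σ y * ((charDegree (y : G → ℂ) : ℤ) - φ y) := dvd_mul_of_dvd_right (S.F.congr y) _
    have hσ2 : σ y * σ y = 1 := by rcases hσ y with e' | e' <;> simp [e']
    have h2 : (N : ℤ) * (σ y * φ y) = v := by linear_combination σ y * hNy + v * hσ2
    have h3 := ry_mod (p := 5) (e := e) (r := r) (by norm_num)
    push_cast at h3
    rw [mul_sub] at h1
    generalize hT : σ y * φ y = T at h1 h2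
    generalize hA : σ y * (charDegree (y : G → ℂ) : ℤ) = A at h1
    have hNe : e = 4 ∧ N = 1 ∨ e = 2 ∧ N = 2 ∨ e = 1 ∧ N = 4 := by interval_cases e <;> omega
    refine cl_val (Or.inl rfl) ?_ (ry_lt (by norm_num)) (hσ y) ?_
    · rcases hNe with ⟨rfl, rfl⟩ | ⟨rfl, rfl⟩ | ⟨rfl, rfl⟩ <;> push_cast at h2 h3 <;> omega
    · rw [hA]
      rcases hNe with ⟨rfl, rfl⟩ | ⟨rfl, rfl⟩ | ⟨rfl, rfl⟩ <;> push_cast at h2 h3 ⊢ <;> omega
  obtain ⟨s1, s2, s3, s4, s5⟩ := S.blk_sums (Or.inl rfl) hrel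
  have hX0 : ∀ χ ∈ X, σ χ ≠ 0 := fun χ _ => by rcases hσ χ with e' | e' <;> simp [e']
  have hd' : ∀ χ, (mb φ z χ).d = charDegree (χ : G → ℂ) := fun _ => rfl
  refine ⟨e, N, r, v, X.val.map (mb φ z), mb φ z y, hem, hr0, by omega, by rw [Multiset.card_map]; exact hXc, ?_,
    fun a ha => ?_, ?_, ?_, ?_, fun h => absurd rfl h, ?_, ?_, ?_⟩
  · have hYmap : Y.val.map (mb φ z) = Multiset.replicate N (mb φ z y) := by
      rw [Multiset.map_congr rfl (g := fun _ => mb φ z y) fun y' hy' => ?_, Multiset.map_const', Finset.card_val, hYc]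
      obtain ⟨h1, h2⟩ := hYt y' hy'
      rw [Prod.mk.injEq] at h1
      simp only [mb, h1.1, h1.2, h2]
    rw [← hYmap, ← Multiset.map_add, ← Finset.disjUnion_val X Y hdisj]
    simp only [Multiset.coe_nil, zero_add]
    exact Multiset.map_le_map (Finset.val_le_iff.2 (Finset.subset_univ _))
  · obtain ⟨χ, hχ, rfl⟩ := Multiset.mem_map.1 ha
    simp only [okX, hd', hclX χ hχ, Bool.and_eq_true, Bool.or_eq_true, decide_eq_true_eq]
    refine ⟨hX0 χ hχ, Or.inr ?_⟩
    rw [← hXv χ hχ, ← mul_assoc, show σ χ * σ χ = 1 by rcases hσ χ with e' | e' <;> simp [e'], one_mul]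
    rfl
  · simp only [okY, hd', hcly, Bool.and_eq_true, Bool.or_eq_true, decide_eq_true_eq]
    refine ⟨by rcases hσ y with e' | e' <;> simp [e'], Or.inr ?_⟩
    rw [show (mb φ z y).f = φ y from rfl, hNy, mul_comm]
  · rcases Finset.mem_union.1 h0m with h | h
    · exact Or.inl ⟨Multiset.mem_map_of_mem _ h, by rw [hd', hclX χ0 h, hσX h]⟩
    · obtain ⟨h1, h2⟩ := hYt χ0 h
      rw [Prod.mk.injEq] at h1
      exact Or.inr ⟨by simp only [mb, h1.1, h1.2, h2], by rw [hd', h1.1, hcly, hσY h]⟩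
  all_goals rw [bsum_eq hclX hcly]
  exacts [s1, s3, s4, s5]

/-- A block of seven. -/
theorem blk_seven (S : Setting P g z C Q M c φ) (χ0 : IrrCharacter G) (h0 : ¬ 7 ∣ charDegree (χ0 : G → ℂ)) :
    HasBlk 7 (Finset.univ.val.map (mb φ z)) (mb φ z χ0) := by
  have hG := S.T.order
  obtain ⟨M7, hM7⟩ := exists_pModular (show Nat.Prime 7 by norm_num)
  obtain ⟨Q7⟩ : Nonempty (Sylow 7 G) := inferInstance
  have hQ7 : Nat.card Q7 = 7 := by
    have hp : Nat.Prime 7 := by norm_num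
    rw [Sylow.card_eq_multiplicity, hG, show Nat.factorization 244823040 7 = 1 from le_antisymm
      (not_lt.mp fun h => absurd ((hp.pow_dvd_iff_le_factorization (n := 244823040) (k := 2) (by norm_num)).mpr h)
        (by norm_num))
      ((hp.dvd_iff_one_le_factorization (n := 244823040) (by norm_num)).mp (by norm_num)), pow_one]
  obtain ⟨e, N, X, Y, δ, r0, hem, -, hXc, hYc, hdisj, h0m, -, hr0, hδ, -, hXd, hYd, hYsame, hrel, -⟩ :=
    Cover.exists_cover Q7 hQ7 hM7 χ0 h0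
  obtain ⟨y, hy⟩ : Y.Nonempty := Finset.card_pos.1 (by
    rw [hYc]; exact Nat.pos_of_ne_zero fun h => by simp [h] at hem)
  set τ : ℤ := δ χ0 with hτ
  set r : ℕ := (τ * r0 % 7).toNat with hr
  have hτ0 : τ = 1 ∨ τ = -1 := hδ χ0
  have hr1 : 0 < r ∧ r < 7 := by rcases hτ0 with e' | e' <;> simp only [hr, e'] <;> omega
  have hσ : ∀ χ, τ * δ χ = 1 ∨ τ * δ χ = -1 := fun χ => by
    rcases hδ χ with e' | e' <;> rcases hτ0 with e'' | e'' <;> simp [e', e'']
  have hclX : ∀ χ ∈ X, cl 7 r (charDegree (χ : G → ℂ)) = τ * δ χ := fun χ hχ =>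
    cl_val (Or.inr rfl) hr1.1 hr1.2 (hσ χ) (by
      have h1 := Int.ModEq.mul_left τ (hXd χ hχ)
      rw [← mul_assoc] at h1
      generalize τ * δ χ * (charDegree (χ : G → ℂ) : ℤ) = A at h1 ⊢
      have h2 := h1.eq
      push_cast at h2 ⊢
      omega)
  have he : e ≤ 6 := Nat.le_of_dvd (by norm_num) ⟨N, hem.symm⟩
  have hcly : cl 7 (ry 7 e r) (charDegree (y : G → ℂ)) = τ * δ y := by
    have h3 := ry_mod (p := 7) (e := e) (r := r) (by norm_num)
    have h1 := Int.ModEq.mul_left τ (hYd y hy)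
    rw [← mul_assoc] at h1
    refine cl_val (Or.inr rfl) ?_ (ry_lt (by norm_num)) (hσ y) ?_
    · have h4 : ¬ 7 ∣ e * r := fun h => by
        rcases (Nat.Prime.dvd_mul (by norm_num)).1 h with h' | h'
        · have := Nat.le_of_dvd (Nat.pos_of_ne_zero fun h => by simp [h] at hem) h'
          omega
        · have := Nat.le_of_dvd hr1.1 h'
          omega
      simp only [ry]
      omega
    · generalize τ * δ y * (charDegree (y : G → ℂ) : ℤ) = A at h1 ⊢
      have h4 : ((e * r : ℕ) : ℤ) % 7 = ((e : ℤ) * (τ * r0)) % 7 := by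
        push_cast
        rw [Int.mul_emod, show ((r : ℤ)) % 7 = τ * r0 % 7 by omega, ← Int.mul_emod]
      have h2 := h1.eq
      rw [show τ * -((e : ℤ) * r0) = -((e : ℤ) * (τ * r0)) by ring] at h2
      push_cast at h2 h3 h4 ⊢
      generalize (e : ℤ) * (τ * r0) = B at h2 h4
      generalize (e : ℤ) * (r : ℤ) = E at h3 h4
      omega
  have hrel' : ∀ x : G, ¬ 7 ∣ orderOf x →
      ∑ χ ∈ X, ((τ * δ χ : ℤ) : ℂ) * (χ : G → ℂ) x + ((τ * δ y : ℤ) : ℂ) * (y : G → ℂ) x = 0 := fun x hx => by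
    have h := hrel x hx y hy
    rw [show (∑ χ ∈ X, ((τ * δ χ : ℤ) : ℂ) * (χ : G → ℂ) x) = (τ : ℂ) * ∑ χ ∈ X, (δ χ : ℂ) * (χ : G → ℂ) x by
      rw [Finset.mul_sum]; exact Finset.sum_congr rfl fun χ _ => by push_cast; ring]
    push_cast
    linear_combination (τ : ℂ) * h
  obtain ⟨s1, s2, s3, s4, s5⟩ := S.blk_sums (Or.inr rfl) (σ := fun χ => τ * δ χ) hrel'
  have hd' : ∀ χ, (mb φ z χ).d = charDegree (χ : G → ℂ) := fun _ => rfl
  have hYmb : ∀ y' ∈ Y, mb φ z y' = mb φ z y := fun y' hy' => by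
    obtain ⟨-, h1, h2⟩ := hYsame y' hy' y hy
    have h3 := h2 (g ^ 2) (by rw [orderOf_pow, S.T.ord]; norm_num)
    have h4 := h2 (g ^ 5) (by rw [orderOf_pow, S.T.ord]; norm_num)
    rw [S.F.val, S.F.val, Int.cast_inj] at h3
    rw [S.T.val, S.T.val, Int.cast_inj] at h4
    simp only [mb, h1, h3, h4]
  have hne : ∀ χ, τ * δ χ ≠ 0 := fun χ => by rcases hσ χ with e' | e' <;> omega
  refine ⟨e, N, r, 0, X.val.map (mb φ z), mb φ z y, hem, hr1.1, hr1.2, by rw [Multiset.card_map]; exact hXc, ?_,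
    fun a ha => ?_, ?_, ?_, ?_, fun h => ?_, ?_, ?_, ?_⟩
  · have hYmap : Y.val.map (mb φ z) = Multiset.replicate N (mb φ z y) := by
      rw [Multiset.map_congr rfl (g := fun _ => mb φ z y) hYmb, Multiset.map_const', Finset.card_val, hYc]
    rw [← hYmap, ← Multiset.map_add, ← Finset.disjUnion_val X Y hdisj]
    simp only [Multiset.coe_nil, zero_add]
    exact Multiset.map_le_map (Finset.val_le_iff.2 (Finset.subset_univ _))
  · obtain ⟨χ, hχ, rfl⟩ := Multiset.mem_map.1 ha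
    simp only [okX, hd', hclX χ hχ, Bool.and_eq_true, Bool.or_eq_true, decide_eq_true_eq]
    exact ⟨hne χ, Or.inl (by norm_num)⟩
  · simp only [okY, hd', hcly, Bool.and_eq_true, Bool.or_eq_true, decide_eq_true_eq]
    exact ⟨hne y, Or.inl (by norm_num)⟩
  · have hττ : τ * τ = 1 := by rcases hτ0 with e' | e' <;> simp [e']
    rcases Finset.mem_union.1 h0m with h | h
    · exact Or.inl ⟨Multiset.mem_map_of_mem _ h, by rw [hd', hclX χ0 h]; exact hττ⟩
    · refine Or.inr ⟨hYmb χ0 h, ?_⟩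
      have h1 : δ χ0 = δ y := (hYsame χ0 h y hy).1
      rw [hd', show charDegree (χ0 : G → ℂ) = charDegree (y : G → ℂ) from congrArg Mb.d (hYmb χ0 h), hcly, ← h1]
      exact hττ
  all_goals rw [bsum_eq (σ := fun χ => τ * δ χ) hclX hcly]
  exacts [s1, s2 h, s3, s4, s5]

end Setting

end Cfsg.Agent.MTwentyFour.ByOrder.RowA
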