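import Cfsg.Agent.Lib.Spor.MTwentyFourOrder.RowA.CheckSound

/-!
A case of the table for a centraliser of order sixty with the first row admits no column.
-/

set_option autoImplicit false
set_option maxRecDepth 100000
set_option maxHeartbeats 2000000

namespace Cfsg.Agent.MTwentyFour.ByOrder.RowA

open Cfsg.Agent.MTwentyFour.ByOrder.ThreeCase (s11 c23 nd ordM arrange)
open Cfsg.Agent.MTwentyFour.ByOrder.FiveSide (Pr)

/-- the degree and the value at the element of order five -/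
def Mb.pr (a : Mb) : Pr := (a.d, a.f)

theorem cauchy {α : Type} (S : Multiset α) (a b : α → ℤ) :
    (S.map fun x => a x * b x).sum * (S.map fun x => a x * b x).sum ≤
      (S.map fun x => a x * a x).sum * (S.map fun x => b x * b x).sum := by
  have key : ∀ p q : ℤ, 0 ≤ p * p * (S.map fun x => a x * a x).sum + 2 * p * q * (S.map fun x => a x * b x).sum +
      q * q * (S.map fun x => b x * b x).sum := fun p q => by
    rw [← Multiset.sum_map_mul_left, ← Multiset.sum_map_mul_left, ← Multiset.sum_map_mul_left,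
      ← Multiset.sum_map_add, ← Multiset.sum_map_add]
    refine Multiset.sum_nonneg fun v hv => ?_
    obtain ⟨x, -, rfl⟩ := Multiset.mem_map.1 hv
    nlinarith [mul_self_nonneg (p * a x + q * b x)]
  generalize (S.map fun x => a x * b x).sum = T at key ⊢
  generalize (S.map fun x => a x * a x).sum = A at key ⊢
  generalize (S.map fun x => b x * b x).sum = B at key ⊢
  by_contra hlt
  have h1 : 0 ≤ B := by simpa using key 0 1
  have h2 : 0 ≤ A := by simpa using key 1 0
  rcases h1.eq_or_lt with rfl | hB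
  · have := key 1 (-((A + 1) * T))
    rcases eq_or_ne T 0 with rfl | hT
    · simp at hlt
    · have : (1 : ℤ) ≤ T * T := mul_self_pos.2 hT
      nlinarith
  · have := key B (-T)
    have : B * (A * B - T * T) = B * B * A + 2 * B * (-T) * T + -T * -T * B := by ring
    nlinarith

theorem y_kind_table : (∀ d ∈ yZero, d % 5 = 0 ∧ d % 23 = 0 ∧ d % 253 ≠ 0 ∧ 0 < d) ∧
    (∀ q ∈ yFive, q.1 % 5 ≠ 0 ∧ q.1 % 23 = 0 ∧ 0 < q.1 ∧ -64 ≤ q.2.1 ∧ q.2.1 < 64) ∧ yOrd.Nodup ∧
    (∀ d ∈ yZero, encP (d, 0) ∈ yOrd) ∧ (∀ q ∈ yFive, encP (q.1, q.2.1) ∈ yOrd) := by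
  decide +kernel

theorem yKind_small {a : Pr} (h : yKind a) : a.1 % 23 = 0 ∧ 0 < a.1 ∧ -64 ≤ a.2 ∧ a.2 < 64 ∧ encP a ∈ yOrd := by
  obtain ⟨h1, h2, -, h4, h5⟩ := y_kind_table
  rcases h with ⟨q, hq, rfl⟩ | ⟨hd, hf⟩
  · exact ⟨(h2 q hq).2.1, (h2 q hq).2.2.1, (h2 q hq).2.2.2.1, (h2 q hq).2.2.2.2, h5 q hq⟩
  · refine ⟨(h1 _ hd).2.1, (h1 _ hd).2.2.2, by omega, by omega, ?_⟩
    rw [show a = (a.1, (0 : ℤ)) from Prod.ext rfl hf]
    exact h4 _ hd

theorem encP_inj {a b : Pr} (ha : 0 < a.1 ∧ -64 ≤ a.2 ∧ a.2 < 64) (hb : 0 < b.1 ∧ -64 ≤ b.2 ∧ b.2 < 64)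
    (h : encP a = encP b) : a = b := by
  obtain ⟨d, f⟩ := a
  obtain ⟨d', f'⟩ := b
  simp only [encP] at ha hb h
  have : d = d' ∧ f = f' := by omega
  obtain ⟨rfl, rfl⟩ := this
  rfl

/-- the members outside the block of twenty-three, by their kinds -/
theorem split_kinds (Y : Multiset Pr) (h : ∀ a ∈ Y, yKind a) :
    ∃ (M5 : Multiset Y5) (M0 : Multiset ℕ), (∀ a ∈ M5, a ∈ yFiveP) ∧ (∀ a ∈ M0, a ∈ yZero) ∧
      Y = M5.map Y5.a + M0.map fun d => (d, (0 : ℤ)) := by
  induction Y using Multiset.induction with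
  | empty => exact ⟨0, 0, by simp, by simp, by simp⟩
  | cons a Y ih =>
    obtain ⟨M5, M0, h5, h0, rfl⟩ := ih fun b hb => h b (Multiset.mem_cons_of_mem hb)
    rcases h a (Multiset.mem_cons_self _ _) with ⟨q, hq, rfl⟩ | ⟨hd, hf⟩
    · obtain ⟨y, hy, hya⟩ : ∃ y ∈ yFiveP, y.a = (q.1, q.2.1) := ⟨_, List.mem_map_of_mem hq, rfl⟩
      refine ⟨y ::ₘ M5, M0, fun b hb => ?_, h0, by rw [Multiset.map_cons, hya, Multiset.cons_add]⟩
      rcases Multiset.mem_cons.1 hb with rfl | hb
      exacts [hy, h5 b hb]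
    · refine ⟨M5, a.1 ::ₘ M0, h5, fun b hb => ?_, ?_⟩
      · rcases Multiset.mem_cons.1 hb with rfl | hb
        exacts [hd, h0 b hb]
      · rw [Multiset.map_cons, show (a.1, (0 : ℤ)) = a from Prod.ext rfl hf.symm, Multiset.add_cons]

theorem filter_sum (h : Pr → ℤ) (hh : ∀ a, a.1 % 11 = 0 → h a = 0) : ∀ l : List Pr,
    ((l.filter fun a => a.1 % 11 != 0).map h).sum = (l.map h).sum
  | [] => rfl
  | a :: l => by
    by_cases h0 : a.1 % 11 = 0
    · simp [List.filter_cons, h0, hh a h0, filter_sum h hh l]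
    · simp [List.filter_cons, h0, filter_sum h hh l]

theorem knownY_sum (g : Pr) (xs : List Pr) (h : Pr → ℤ) (hh : ∀ a, a.1 % 11 = 0 → h a = 0) :
    ((knownY g xs).map h).sum = sumOn (fun a => h a.pr) (known0 ++ blockMbs g xs) := by
  rw [sumOn_eq, msum, Multiset.map_coe, Multiset.sum_coe]
  have e1 : h (1771, 1) = 0 := hh _ (by norm_num)
  have e2 : h (2024, -1) = 0 := hh _ (by norm_num)
  have e3 : h (5544, -1) = 0 := hh _ (by norm_num)
  simp only [knownY, known0, blockMbs, List.map_append, List.map_cons, List.map_nil, List.sum_append, List.sum_cons,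
    List.sum_nil, List.map_map, Mb.pr, filter_sum h hh, e1, e2, e3, Function.comp_def]
  by_cases hg : g.1 % 11 = 0
  · simp [hg, hh g hg]
  · simp [hg]; ring

/-- the members without values at the involution, in order -/
theorem killY_sound {c : Case} (hk : killY c = true) {Y : Multiset Pr} {U : Multiset Mb}
    (hY : ∀ a ∈ Y, yKind a) (hcard : (knownY c.g c.xs).length + Y.card = 11)
    (hW : Whole 0 (((known0 ++ blockMbs c.g c.xs : List Mb) : Multiset Mb) +
      Y.map (fun a => (⟨a.1, a.2, 0⟩ : Mb)) + U))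
    (hU : ∀ a ∈ U, a.d % 253 = 0 ∧ (a.d, a.f) ∈ wTypes)
    (h5 : ∀ x ∈ ((blockMbs c.g c.xs : List Mb) : Multiset Mb) + Y.map (fun a => (⟨a.1, a.2, 0⟩ : Mb)),
      x.d % 5 ≠ 0 → HasBlk 5 (((known0 ++ blockMbs c.g c.xs : List Mb) : Multiset Mb) +
        Y.map (fun a => (⟨a.1, a.2, 0⟩ : Mb)) + U) x)
    (h7 : ∀ x ∈ ((known0 ++ blockMbs c.g c.xs : List Mb) : Multiset Mb) +
      Y.map (fun a => (⟨a.1, a.2, 0⟩ : Mb)), x.d % 7 ≠ 0 →
        HasBlk 7 (((known0 ++ blockMbs c.g c.xs : List Mb) : Multiset Mb) +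
          Y.map (fun a => (⟨a.1, a.2, 0⟩ : Mb)) + U) x) :
    ∃ yy ∈ c.tab, (yy : Multiset Pr) = Y := by
  set base := known0 ++ blockMbs c.g c.xs with hbase
  obtain ⟨M5, M0, h5m, h0m, rfl⟩ := split_kinds Y hY
  simp only [killY, yAll, forceI_eq, Bool.or_eq_true, decide_eq_true_eq, ← hbase] at hk
  rcases hk with hk | hk
  · exact absurd hk (by omega)
  rw [Multiset.card_add, Multiset.card_map, Multiset.card_map] at hcard
  -- the sums
  have hm0 : ∀ a ∈ M0, a % 5 = 0 ∧ a % 23 = 0 ∧ a % 253 ≠ 0 ∧ 0 < a := fun a ha => y_kind_table.1 a (h0m a ha)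
  have hff := fun a ha => yFive_table.1 a (h5m a ha)
  have hdef : ∀ a ∈ M5, a.cf = s11 a.a.1 * a.a.2 ∧ a.qq = s11 a.a.1 * nd a.a.1 * (a.a.2 * a.a.2) ∧
      a.ff = a.a.2 * a.a.2 := fun a ha => by
    obtain ⟨q, -, rfl⟩ := List.mem_map.1 (h5m a ha)
    exact ⟨rfl, rfl, rfl⟩
  have key : ∀ g : Mb → ℤ, msum g ((base : Multiset Mb) +
      (M5.map Y5.a + M0.map fun d => (d, (0 : ℤ))).map (fun a => (⟨a.1, a.2, 0⟩ : Mb)) + U) =
      sumOn g base + (M5.map fun a => g ⟨a.a.1, a.a.2, 0⟩).sum + (M0.map fun d => g ⟨d, 0, 0⟩).sum + msum g U := by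
    intro g
    rw [msum_add, msum_add, ← sumOn_eq, Multiset.map_add, msum_add]
    simp only [msum, Multiset.map_map, Function.comp_def]
    ring
  have hW' := hW
  obtain ⟨wsd, wud, -, wuf, -, wdf, -, wff, -, -, wqf, -, -⟩ := hW'
  rw [key] at wsd wud wuf wdf wff wqf
  have hUs : ∀ a ∈ U, s11 a.d = 0 := fun a ha => s11_zero (hU a ha).1
  have u1 : msum (fun a => s11 a.d * a.d) U = 0 := msum_zero fun a ha => by rw [hUs a ha, zero_mul]
  have u2 : msum (fun a => s11 a.d * a.f) U = 0 := msum_zero fun a ha => by rw [hUs a ha, zero_mul]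
  have u3 : msum (fun a => s11 a.d * nd a.d * (a.f * a.f)) U = 0 := msum_zero fun a ha => by
    rw [hUs a ha, zero_mul, zero_mul]
  have u4 := msum_sq_nonneg (fun a => a.f) U
  have u5 := msum_sq_nonneg (fun a => (a.d : ℤ)) U
  rw [u1, add_zero] at wud
  rw [u2, add_zero] at wuf
  rw [u3, add_zero] at wqf
  simp only [mul_zero, Multiset.map_const', Multiset.sum_replicate, smul_zero, add_zero] at wuf wqf wff wdf
  have k1 := knownY_sum c.g c.xs (fun a => s11 a.1 * a.2) fun a h => by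
    simp [s11, show a.1 % 11 ≠ 1 ∧ a.1 % 11 ≠ 10 by omega]
  have k2 := knownY_sum c.g c.xs (fun a => s11 a.1 * nd a.1 * (a.2 * a.2)) fun a h => by
    simp [s11, show a.1 % 11 ≠ 1 ∧ a.1 % 11 ≠ 10 by omega]
  have k3 := knownY_sum c.g c.xs (fun a => s11 a.1 * (a.1 : ℤ)) fun a h => by
    simp [s11, show a.1 % 11 ≠ 1 ∧ a.1 % 11 ≠ 10 by omega]
  rw [← hbase] at k1 k2 k3
  simp only [Mb.pr] at k1 k2 k3
  have s1 : (M5.map Y5.cf).sum = (M5.map fun a => s11 a.a.1 * a.a.2).sum :=
    congrArg _ (Multiset.map_congr rfl fun a ha => (hdef a ha).1)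
  have s2 : (M5.map Y5.qq).sum = (M5.map fun a => s11 a.a.1 * nd a.a.1 * (a.a.2 * a.a.2)).sum :=
    congrArg _ (Multiset.map_congr rfl fun a ha => (hdef a ha).2.1)
  have s3 : (M5.map Y5.ff).sum = (M5.map fun a => a.a.2 * a.a.2).sum :=
    congrArg _ (Multiset.map_congr rfl fun a ha => (hdef a ha).2.2)
  obtain ⟨p5, hp5, hgo⟩ := y5Go_sound _ yFiveP _ _ _ [] _ M5 (List.suffix_refl _) h5m (by omega)
    (by rw [k1, s1]; linarith) (by rw [k2, s2]; exact wqf.2) (by rw [k2, s2]; exact wqf.1) (by rw [s3]; linarith) hk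
  rw [Multiset.coe_nil, add_zero] at hp5
  have hsum5 : ∀ h : Pr → ℤ, (p5.map h).sum = (M5.map fun a => h a.a).sum := fun h => by
    rw [← Multiset.sum_coe, ← Multiset.map_coe, hp5, Multiset.map_map]
    rfl
  obtain ⟨yy, hyy, hgo'⟩ := y0Go_sound yZero _ _ p5 _ M0 (11 - (knownY c.g c.xs).length - M5.card)
    (List.suffix_refl _) h0m (by omega) (by rw [hsum5, k3]; linarith)
    (by rw [hsum5]; linarith) hgo
  rw [hp5, add_comm] at hyy
  have hsumY : ∀ h : Pr → ℤ, (yy.map h).sum = (M5.map fun a => h a.a).sum + (M0.map fun d => h (d, 0)).sum := fun h => by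
    rw [← Multiset.sum_coe, ← Multiset.map_coe, hyy, Multiset.map_add, Multiset.sum_add, Multiset.map_map,
      Multiset.map_map]
    rfl
  have e253 : ∀ h : Mb → ℤ,
      msum (fun a => (a.d : ℤ) * h a) U = 253 * msum (fun a => ((a.d / 253 : ℕ) : ℤ) * h a) U := by
    intro h
    rw [msum, msum, ← Multiset.sum_map_mul_left]
    exact congrArg _ (Multiset.map_congr rfl fun a ha => by
      have h0 := (hU a ha).1
      rw [show (a.d : ℤ) = 253 * ((a.d / 253 : ℕ) : ℤ) by omega]; ring_nf)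
  have hdd : msum (fun a => (a.d : ℤ) * a.d) U =
      64009 * msum (fun a => ((a.d / 253 : ℕ) : ℤ) * ((a.d / 253 : ℕ) : ℤ)) U := by
    have sym : msum (fun a => ((a.d / 253 : ℕ) : ℤ) * (a.d : ℤ)) U = msum (fun a => (a.d : ℤ) * ((a.d / 253 : ℕ) : ℤ)) U :=
      congrArg _ (Multiset.map_congr rfl fun a _ => mul_comm _ _)
    rw [e253, sym, e253]; ring
  rw [e253] at wdf
  rw [hdd] at wsd
  simp only [Bool.or_eq_true, Bool.not_eq_true', Bool.and_eq_false_iff, decide_eq_false_iff_not] at hgo'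
  set r0 := (ordM : ℤ) - sumOn (fun a => (a.d : ℤ) * a.d) base - (yy.map fun a => (a.1 : ℤ) * (a.1 : ℤ)).sum
  set d0 := sumOn (fun a => (a.d : ℤ) * a.f) base + (yy.map fun a => (a.1 : ℤ) * a.2).sum
  have hr0 : r0 = 64009 * msum (fun a => ((a.d / 253 : ℕ) : ℤ) * ((a.d / 253 : ℕ) : ℤ)) U := by
    simp only [r0, hsumY]; linarith
  have hd0 : d0 = -(253 * msum (fun a => ((a.d / 253 : ℕ) : ℤ) * a.f) U) := by
    simp only [d0, hsumY, mul_zero, Multiset.map_const', Multiset.sum_replicate, smul_zero, add_zero]; linarith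
  have hcs := cauchy U (fun a => ((a.d / 253 : ℕ) : ℤ)) fun a => a.f
  have hff0 : 60 - sumOn (fun a => a.f * a.f) base - (yy.map fun a => a.2 * a.2).sum = msum (fun a => a.f * a.f) U := by
    simp only [hsumY, mul_zero, Multiset.map_const', Multiset.sum_replicate, smul_zero, add_zero]; linarith
  rcases hgo' with hneg | hdead
  · exfalso
    have h0 := msum_sq_nonneg (fun a => ((a.d / 253 : ℕ) : ℤ)) U
    rcases hneg with ((h | h) | h) | h
    · exact h (by rw [hr0]; linarith)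
    · exact h (by rw [hr0]; omega)
    · exact h (by rw [hd0]; omega)
    · refine h ?_
      rw [hff0, rem_div 64009 (by norm_num) hr0,
        rem_div 253 (by norm_num) (show d0 = 253 * -(msum (fun a => ((a.d / 253 : ℕ) : ℤ) * a.f) U) by linarith),
        neg_mul_neg]
      exact hcs
  · rcases hdead with hdead | hc
    · exfalso
      have hS : ((base ++ yMbs yy : List Mb) : Multiset Mb) = (base : Multiset Mb) +
          (M5.map Y5.a + M0.map fun d => (d, (0 : ℤ))).map (fun a => (⟨a.1, a.2, 0⟩ : Mb)) := by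
        rw [← Multiset.coe_add, yMbs, ← Multiset.map_coe, hyy, add_comm (M5.map Y5.a)]
      have hS' : ((blockMbs c.g c.xs ++ yMbs yy : List Mb) : Multiset Mb) = (blockMbs c.g c.xs : Multiset Mb) +
          (M5.map Y5.a + M0.map fun d => (d, (0 : ℤ))).map (fun a => (⟨a.1, a.2, 0⟩ : Mb)) := by
        rw [← Multiset.coe_add, yMbs, ← Multiset.map_coe, hyy, add_comm (M5.map Y5.a)]
      refine Bool.eq_false_iff.1 (situDead_false (U := U) ?_ ?_ ?_ ?_) hdead
      · refine further_of ?_ ?_ ?_ hU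
        · rw [hS, key]; simp only [mul_zero]; linarith
        · rw [hS, key]; simp only [mul_zero, Multiset.map_const', Multiset.sum_replicate, smul_zero]; linarith
        · rw [hS]
          exact le_of_eq (by rw [← hW.zz])
      · intro x hx
        simp only [hbase, List.mem_append] at hx ⊢
        rcases hx with hx | hx
        exacts [Or.inl (Or.inr hx), Or.inr hx]
      · intro x hx hx5
        rw [hS]
        exact h5 x (by rw [← hS']; simpa using hx) hx5
      · intro x hx hx7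
        rw [hS]
        exact h7 x (by rw [← hS]; simpa using hx) hx7
    · exact ⟨yy, List.contains_iff_mem.1 hc, by rw [hyy, add_comm]⟩

/-- the places outside the block of twenty-three with their values -/
def yPairs (C : ℕ) (bud : ℤ) (all : List Pr) : ℕ → List (Pr × ℤ) → List (Raw × ℤ)
  | _, [] => []
  | prev, (a, x) :: l =>
    (⟨yOpts C bud a (all.count a), s11 a.1, s11 a.1 * nd a.1, s11 a.1 * nd a.1 * a.2, 1, decide (prev = encP a)⟩, x) ::
      yPairs C bud all (encP a) l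

theorem yPairs_fst (C : ℕ) (bud : ℤ) (all : List Pr) : ∀ (prev : ℕ) (l : List (Pr × ℤ)),
    (yPairs C bud all prev l).map Prod.fst = yRaws C bud all prev (l.map Prod.fst)
  | _, [] => rfl
  | _, (a, x) :: l => by simp [yPairs, yRaws, yPairs_fst C bud all (encP a) l]

theorem yPairs_snd (C : ℕ) (bud : ℤ) (all : List Pr) : ∀ (prev : ℕ) (l : List (Pr × ℤ)),
    (yPairs C bud all prev l).map Prod.snd = l.map Prod.snd
  | _, [] => rfl
  | _, (a, x) :: l => by simp [yPairs, yPairs_snd C bud all (encP a) l]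

theorem yPairs_sorted (C : ℕ) (bud : ℤ) (all : List Pr) : ∀ (prev : ℕ) (v : ℤ) (l : List (Pr × ℤ)),
    (∀ a ∈ l, prev = encP a.1 → v ≤ a.2) → (l.Pairwise fun a b => encP a.1 = encP b.1 → a.2 ≤ b.2) →
      sorted v (yPairs C bud all prev l)
  | _, _, [], _, _ => trivial
  | _, _, (a, x) :: l, h1, h2 => by
    obtain ⟨h2a, h2b⟩ := List.pairwise_cons.1 h2
    exact ⟨fun h => h1 (a, x) (by simp) (of_decide_eq_true h),
      yPairs_sorted C bud all (encP a) x l (fun b hb => h2a b hb) h2b⟩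

theorem yPairs_sums (C : ℕ) (bud : ℤ) (all : List Pr) : ∀ (prev : ℕ) (l : List (Pr × ℤ)),
    sumL (yPairs C bud all prev l) = (l.map fun a => s11 a.1.1 * a.2).sum ∧
    sumQ (yPairs C bud all prev l) = (l.map fun a => s11 a.1.1 * nd a.1.1 * (a.2 * a.2)).sum ∧
    sumB (yPairs C bud all prev l) = (l.map fun a => a.2 * a.2).sum ∧
    sumE (yPairs C bud all prev l) = (l.map fun a => s11 a.1.1 * nd a.1.1 * a.1.2 * a.2).sum
  | _, [] => ⟨rfl, rfl, rfl, rfl⟩
  | _, (a, x) :: l => by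
    obtain ⟨h1, h2, h3, h4⟩ := yPairs_sums C bud all (encP a) l
    simp only [yPairs, sumL, sumQ, sumB, sumE, List.map_cons, List.sum_cons, one_mul] at h1 h2 h3 h4 ⊢
    exact ⟨by rw [h1], by rw [h2], by rw [h3], by rw [h4]⟩

theorem yPairs_ok (C : ℕ) (bud : ℤ) (all : List Pr) : ∀ (prev : ℕ) (l : List (Pr × ℤ)),
    (∀ a ∈ l, a.2 ∈ yOpts C bud a.1 (all.count a.1)) → ∀ b ∈ yPairs C bud all prev l, b.2 ∈ b.1.opts ∧ 0 ≤ b.1.w
  | _, [], _, b, hb => absurd hb List.not_mem_nil
  | _, (a, x) :: l, h, b, hb => by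
    rcases List.mem_cons.1 hb with rfl | hb
    · exact ⟨h (a, x) (by simp), zero_le_one⟩
    · exact yPairs_ok C bud all (encP a) l (fun c hc => h c (List.mem_cons_of_mem _ hc)) b hb

theorem drop_whole {C : ℕ} {S : Multiset Mb} (W : Whole C S) : Whole 0 (S.map drop0) := by
  obtain ⟨w1, w2, w3, w4, -, w6, -, w8, -, -, w11, -, -⟩ := W
  have e : ∀ g : Mb → ℤ, msum g (S.map drop0) = msum (fun a => g (drop0 a)) S := fun g => by
    simp [msum, Multiset.map_map, Function.comp_def]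
  have z : ∀ g : Mb → ℤ, (∀ a, g (drop0 a) = 0) → msum g (S.map drop0) = 0 := fun g h => by
    rw [e]; exact msum_zero fun a _ => h a
  refine ⟨by rw [e]; exact w1, by rw [e]; exact w2, by rw [e]; exact w3, by rw [e]; exact w4,
    z _ fun a => by simp [drop0], by rw [e]; exact w6, z _ fun a => by simp [drop0], by rw [e]; exact w8,
    z _ fun a => by simp [drop0], by rw [z _ fun a => by simp [drop0]]; simp,
    by rw [e]; exact w11, by rw [z _ fun a => by simp [drop0]]; simp, by rw [z _ fun a => by simp [drop0]]; simp⟩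

/-- A column over a case of the table is impossible. -/
theorem case_false {c : Case} (hok : KillOK c) {t : ℕ × List ℤ} (ht : t ∈ tuples) {S : Multiset (Ent × ℤ)} {s : List Ent}
    (hs : s ∈ shapesOf c.g c.xs) (hSs : S.map Prod.fst = (s : Multiset Ent)) (hX : XData t S)
    (hXB : ((S.map mbs).sum).map drop0 = (blockMbs c.g c.xs : Multiset Mb))
    {Y U : Multiset Mb} (hW : Whole t.1 ((known t.2 : Multiset Mb) + (S.map mbs).sum + Y + U))
    (hY : ∀ a ∈ Y, yKind a.pr ∧ a.z ∈ zget t.1 a.d ∧ (a.d % 5 = 0 ∨ ∃ n : ℕ, n ∈ [1, 2, 4] ∧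
      n ≤ (Y.map Mb.pr).count a.pr ∧ (a.z % 5).toNat ∈ rget resTab a.f n))
    (hcard : (knownY c.g c.xs).length + Y.card = 11) (hU : ∀ a ∈ U, a.d % 253 = 0 ∧ (a.d, a.f) ∈ wTypes)
    (h5 : ∀ x ∈ (S.map mbs).sum + Y, x.d % 5 ≠ 0 →
      HasBlk 5 ((known t.2 : Multiset Mb) + (S.map mbs).sum + Y + U) x)
    (h7 : ∀ x ∈ (known t.2 : Multiset Mb) + (S.map mbs).sum + Y, x.d % 7 ≠ 0 →
      HasBlk 7 ((known t.2 : Multiset Mb) + (S.map mbs).sum + Y + U) x) : False := by
  have hYU : ∀ a ∈ Y + U, a.d % 23 = 0 := fun a ha => by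
    rcases Multiset.mem_add.1 ha with ha | ha
    · exact (yKind_small (hY a ha).1).1
    · have := (hU a ha).1
      omega
  rcases hok with hx | ⟨hy, hx⟩
  · obtain ⟨P0, -, hk⟩ := xMeet_sound (List.all_eq_true.1 (List.all_eq_true.1 hx s hs) t ht) hSs hX (U := Y + U)
      (by rwa [← add_assoc]) hYU
    exact Bool.noConfusion hk
  -- the completion without values
  have hk0 : ((known t.2 : List Mb) : Multiset Mb).map drop0 = (known0 : Multiset Mb) := by
    simp [known, known0, drop0]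
  have hY0 : Y.map drop0 = (Y.map Mb.pr).map (fun a => (⟨a.1, a.2, 0⟩ : Mb)) := by
    rw [Multiset.map_map]; rfl
  have hall : ((known t.2 : Multiset Mb) + (S.map mbs).sum + Y + U).map drop0 =
      ((known0 ++ blockMbs c.g c.xs : List Mb) : Multiset Mb) +
        (Y.map Mb.pr).map (fun a => (⟨a.1, a.2, 0⟩ : Mb)) + U.map drop0 := by
    rw [Multiset.map_add, Multiset.map_add, Multiset.map_add, hk0, hXB, hY0, ← Multiset.coe_add]
  obtain ⟨yy, hyt, hyy⟩ := killY_sound hy (Y := Y.map Mb.pr) (U := U.map drop0)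
    (fun a ha => by obtain ⟨b, hb, rfl⟩ := Multiset.mem_map.1 ha; exact (hY b hb).1)
    (by rw [Multiset.card_map]; exact hcard) (by rw [← hall]; exact drop_whole hW)
    (fun a ha => by obtain ⟨b, hb, rfl⟩ := Multiset.mem_map.1 ha; exact hU b hb)
    (fun x hx hx5 => by
      rw [← hXB, ← hY0, ← Multiset.map_add] at hx
      obtain ⟨b, hb, rfl⟩ := Multiset.mem_map.1 hx
      rw [← hall]
      exact hasBlk_drop (h5 b hb hx5))
    (fun x hx hx7 => by
      rw [← Multiset.coe_add, ← hk0, ← hXB, ← hY0, ← Multiset.map_add, ← Multiset.map_add] at hx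
      obtain ⟨b, hb, rfl⟩ := Multiset.mem_map.1 hx
      rw [← hall]
      exact hasBlk_drop (h7 b hb hx7))
  -- the completion with values
  obtain ⟨l, hyl, hl⟩ := hx yy hyt
  obtain ⟨P0, hP0, hk⟩ := xMeet_sound (List.all_eq_true.1 (List.all_eq_true.1 hl s hs) t ht) hSs hX (U := Y + U)
    (by rwa [← add_assoc]) hYU
  have hmeet := List.all_eq_true.1 hk yy hyl
  set P := known t.2 ++ P0 with hP
  have hPm : (P : Multiset Mb) = (known t.2 : Multiset Mb) + (S.map mbs).sum := by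
    rw [hP, ← Multiset.coe_add, hP0]
  simp only [yMeet, forceI_eq] at hmeet
  set es := arrange encP yOrd yy with hes
  have hsmall : ∀ a ∈ yy, a.1 % 23 = 0 ∧ 0 < a.1 ∧ -64 ≤ a.2 ∧ a.2 < 64 ∧ encP a ∈ yOrd := fun a ha => by
    have : a ∈ Y.map Mb.pr := hyy ▸ (by simpa using ha)
    obtain ⟨b, hb, rfl⟩ := Multiset.mem_map.1 this
    exact yKind_small (hY b hb).1
  obtain ⟨T, hT, hTf, hTp⟩ := exists_arranged encP yOrd y_kind_table.2.2.1 (Y.map fun a => (a.pr, a.z)) yy
    (by rw [Multiset.map_map]; exact hyy.symm) (fun a ha => (hsmall a ha).2.2.2.2)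
    fun a ha b hb => encP_inj ⟨(hsmall a ha).2.1, (hsmall a ha).2.2.1, (hsmall a ha).2.2.2.1⟩
      ⟨(hsmall b hb).2.1, (hsmall b hb).2.2.1, (hsmall b hb).2.2.2.1⟩
  have hperm : es.Perm yy :=
    ThreeCase.arrange_perm _ _ _ y_kind_table.2.2.1 fun a ha => (hsmall a ha).2.2.2.2
  set bud := (t.1 : ℤ) - sumOn (fun a => a.z * a.z) P with hbud
  obtain ⟨e1, e2, e3, e4⟩ := yPairs_sums t.1 bud es 0 T
  have hsum : ∀ f : Pr × ℤ → ℤ, (T.map f).sum = (Y.map fun a => f (a.pr, a.z)).sum := fun f => by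
    rw [← Multiset.sum_coe, ← Multiset.map_coe, hT, Multiset.map_map]; rfl
  rw [hsum] at e1 e2 e3 e4
  have hW' := hW
  obtain ⟨-, -, -, -, wuz, -, -, -, -, wzz, -, wqz, wmz⟩ := hW'
  have hUs : ∀ a ∈ U, s11 a.d = 0 := fun a ha => s11_zero (hU a ha).1
  have key : ∀ g : Mb → ℤ, msum g ((known t.2 : Multiset Mb) + (S.map mbs).sum + Y + U) =
      sumOn g P + (Y.map g).sum + msum g U := fun g => by
    rw [msum_add, msum_add, ← hPm, ← sumOn_eq]; rfl
  rw [key] at wuz wzz wqz wmz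
  rw [msum_zero (fun a ha => by rw [hUs a ha, zero_mul]), add_zero] at wuz
  rw [msum_zero (fun a ha => by rw [hUs a ha, zero_mul, zero_mul]), add_zero] at wqz
  rw [msum_zero (fun a ha => by rw [hUs a ha, zero_mul, zero_mul]), add_zero] at wmz
  have hu0 := msum_sq_nonneg (fun a => a.z) U
  have hme : (Y.map fun a => s11 a.pr.1 * nd a.pr.1 * a.pr.2 * a.z).sum =
      (Y.map fun a => s11 a.d * nd a.d * (a.f * a.z)).sum :=
    congrArg _ (Multiset.map_congr rfl fun a _ => mul_assoc _ _ _)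
  have hres := meet_sound ((60 * t.1 : ℕ) : ℤ) bud (yPairs t.1 bud es 0 T) (sumOn (fun a => s11 a.d * a.z) P)
    (sumOn (fun a => s11 a.d * nd a.d * (a.z * a.z)) P - 11 * (t.1 : ℤ) * (t.1 : ℤ))
    (sumOn (fun a => s11 a.d * nd a.d * (a.f * a.z)) P) _
    (yPairs_ok t.1 bud es 0 T fun a ha => ?_)
    (yPairs_sorted t.1 bud es 0 0 T (fun a ha h0 => ?_) hTp)
    (by rw [e1]; simp only [Mb.pr]; linarith) (by rw [e2]; simp only [Mb.pr]; linarith)
    (by rw [e3]; linarith) (by rw [e4, hme]; exact wmz.2) (by rw [e4, hme]; exact wmz.1)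
    (by rw [yPairs_fst, hTf]; exact hmeet)
  · rw [yPairs_snd] at hres
    simp only [Bool.or_eq_true, Bool.not_eq_true'] at hres
    set ys := (es.zip (T.map Prod.snd)).map fun a => (⟨a.1.1, a.1.2, a.2⟩ : Mb)
    have hys : (ys : Multiset Mb) = Y := by
      simp only [ys]
      rw [hes, ← hTf, show (T.map Prod.fst).zip (T.map Prod.snd) = T by rw [List.zip_map']; simp,
        ← Multiset.map_coe, hT, Multiset.map_map]
      exact Multiset.map_id' Y
    have hPy : ((P ++ ys : List Mb) : Multiset Mb) + U =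
        (known t.2 : Multiset Mb) + (S.map mbs).sum + Y + U := by
      rw [← Multiset.coe_add, hPm, hys]
    rcases hres with hg | hsd
    · rw [gramThree_psd (U := U) (by rw [hPy]; exact hW) fun a ha => (hU a ha).1] at hg
      exact Bool.noConfusion hg
    · refine Bool.eq_false_iff.1 (situDead_false (U := U) ?_ ?_ ?_ ?_) hsd
      · exact further_of (by rw [hPy]; exact hW.sd) (by rw [hPy]; exact hW.ff) (by rw [hPy]; exact hW.zz.le) hU
      · intro x hx
        rcases List.mem_append.1 hx with hx | hx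
        exacts [List.mem_append_left _ (List.mem_of_mem_drop hx), List.mem_append_right _ hx]
      · intro x hx hx5
        rw [hPy]
        refine h5 x ?_ hx5
        have hd : P.drop 5 = P0 := by rw [hP, show (5 : ℕ) = (known t.2).length from rfl, List.drop_left]
        rw [hd, ← Multiset.mem_coe, ← Multiset.coe_add, hP0, hys] at hx
        exact hx
      · intro x hx hx7
        rw [hPy]
        refine h7 x ?_ hx7
        rw [← Multiset.mem_coe, ← Multiset.coe_add, hPm, hys] at hx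
        exact hx
  · have hTY : (a : Pr × ℤ) ∈ Y.map fun a => (a.pr, a.z) := hT ▸ (by simpa using ha)
    obtain ⟨b, hb, rfl⟩ := Multiset.mem_map.1 hTY
    obtain ⟨-, hz, hres⟩ := hY b hb
    simp only [yOpts, List.mem_filter, Bool.and_eq_true, Bool.or_eq_true, decide_eq_true_eq, List.any_eq_true,
      List.contains_iff_mem]
    refine ⟨hz, ?_, hres.imp id ?_⟩
    · have h1 := Multiset.single_le_sum (fun v hv => by
        obtain ⟨c', -, rfl⟩ := Multiset.mem_map.1 hv
        exact mul_self_nonneg _) _ (Multiset.mem_map_of_mem (fun a : Mb => a.z * a.z) hb)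
      linarith
    · rintro ⟨n, hn, hle, hr⟩
      refine ⟨n, hn, ?_, hr⟩
      rw [← hyy, ← Multiset.coe_eq_coe.2 hperm, Multiset.coe_count] at hle
      convert hle
  · have hTY : (a : Pr × ℤ) ∈ Y.map fun a => (a.pr, a.z) := hT ▸ (by simpa using ha)
    obtain ⟨b, hb, rfl⟩ := Multiset.mem_map.1 hTY
    have := (yKind_small (hY b hb).1).2.1
    simp only [encP] at h0
    omega

end Cfsg.Agent.MTwentyFour.ByOrder.RowA
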