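import Cfsg.Agent.Lib.Spor.MTwentyFourOrder.RowA.Check

/-!
Cases for a centraliser of order sixty with the first row, each impossible.
-/

set_option autoImplicit false
set_option Elab.async false
set_option maxRecDepth 100000
set_option maxHeartbeats 4000000

namespace Cfsg.Agent.MTwentyFour.ByOrder.RowA

/-- case 121 -/
def case121 : Case :=
  ⟨(2772, 2),
    [(22, 2), (45, 0), (990, 0), (1540, 0), (1540, 0), (1540, 0), (1540, 0), (1540, 0), (1540, 0)], 2,
    [23057, 2839057, 46592, 1014272, 1577472],
    [[(1035, 0), (1035, 0), (1035, 0), (483, (-2)), (736, 1), (736, 1), (1288, (-2)), (3312, 2)],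
     [(230, 0), (1035, 0), (1035, 0), (1035, 0), (1035, 0), (736, 1), (736, 1), (3312, 2)]]⟩

theorem case121_y : killY case121 = true := by
  decide +kernel

theorem case121_x0 : xPart case121 ((case121.tab.drop 0).take 1) = true := by
  decide +kernel

theorem case121_x1 : xPart case121 ((case121.tab.drop 1).take 1) = true := by
  decide +kernel

theorem case121_ok : KillOK case121 := by
  refine Or.inr ⟨case121_y, fun yy hy => ?_⟩
  rw [show case121.tab =
      ((case121.tab.drop 0).take 1) ++
      ((case121.tab.drop 1).take 1) by decide +kernel] at hy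
  simp only [List.mem_append] at hy
  rcases hy with hy | hy
  exacts [⟨_, hy, case121_x0⟩,
    ⟨_, hy, case121_x1⟩]

/-- the cases of this file -/
def casesB : List Case :=
  [case121]

/-- they are impossible -/
theorem runB : ∀ c ∈ casesB, KillOK c := by
  intro c hc
  simp only [casesB, List.mem_cons, List.not_mem_nil, or_false] at hc
  rcases hc with rfl
  exacts [case121_ok]

end Cfsg.Agent.MTwentyFour.ByOrder.RowA
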