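import Cfsg.Agent.Lib.Spor.MTwentyFourOrder.RowA.Check

/-!
Cases for a centraliser of order sixty with the first row, each impossible.
-/

set_option autoImplicit false
set_option Elab.async false
set_option maxRecDepth 100000
set_option maxHeartbeats 4000000

namespace Cfsg.Agent.MTwentyFour.ByOrder.RowA

/-- case 3 -/
def case3 : Case :=
  ⟨(495, 0),
    [(252, (-3)), (252, 2), (22, 2), (528, (-2)), (528, (-2)), (528, 3), (45, 0), (45, 0), (3840, 0)], 1,
    [],
    []⟩

theorem case3_ok : KillOK case3 := killOK_of (by decide +kernel)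

/-- case 17 -/
def case17 : Case :=
  ⟨(770, 0),
    [(252, (-3)), (252, 2), (528, 3), (231, 1), (231, 1), (45, 0), (3520, 0), (3840, 0), (3840, 0)], 1,
    [],
    []⟩

theorem case17_ok : KillOK case17 := killOK_of (by decide +kernel)

/-- case 20 -/
def case20 : Case :=
  ⟨(12, 2),
    [(252, 2), (45, 0), (45, 0), (990, 0), (990, 0), (3520, 0), (3520, 0), (3840, 0), (10395, 0)], 0,
    [12817, 258577, 46592, 1014272, 3604992, 3932672, 10644992],
    []⟩

theorem case20_ok : KillOK case20 := killOK_of (by decide +kernel)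

/-- case 35 -/
def case35 : Case :=
  ⟨(495, 0),
    [(252, 2), (22, 2), (22, 2), (528, (-2)), (528, (-2)), (528, (-2)), (3520, 0), (3840, 0), (3840, 0)], 0,
    [258577, 507392, 541169, 541170, 3932672, 23057, 23058, 3604992],
    []⟩

theorem case35_ok : KillOK case35 := killOK_of (by decide +kernel)

/-- case 41 -/
def case41 : Case :=
  ⟨(495, 0),
    [(252, 2), (22, 2), (528, (-2)), (231, 1), (231, 1), (1540, 0), (3520, 0), (3840, 0), (3840, 0)], 0,
    [3932672, 258577, 507392, 541169, 237066, 23057, 3604992, 1577472],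
    []⟩

theorem case41_ok : KillOK case41 := killOK_of (by decide +kernel)

/-- case 55 -/
def case55 : Case :=
  ⟨(1760, 0),
    [(252, 2), (22, 2), (528, (-2)), (528, (-2)), (45, 0), (45, 0), (990, 0), (3520, 0), (10395, 0)], 0,
    [46592, 10644992, 23057, 258577, 1802752, 3604992, 1014272, 541169],
    []⟩

theorem case55_ok : KillOK case55 := killOK_of (by decide +kernel)

/-- case 58 -/
def case58 : Case :=
  ⟨(264, 4),
    [(252, 2), (22, 2), (528, (-2)), (528, (-2)), (528, (-2)), (231, 1), (231, 1), (45, 0), (3840, 0)], 1,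
    [],
    []⟩

theorem case58_ok : KillOK case58 := killOK_of (by decide +kernel)

/-- case 88 -/
def case88 : Case :=
  ⟨(770, 0),
    [(252, 2), (528, (-2)), (45, 0), (990, 0), (990, 0), (990, 0), (1540, 0), (1540, 0), (3840, 0)], 0,
    [46592, 258577, 541169, 1014272, 3932672, 788992, 1577472],
    []⟩

theorem case88_ok : KillOK case88 := killOK_of (by decide +kernel)

/-- case 93 -/
def case93 : Case :=
  ⟨(1760, 0),
    [(252, 2), (528, (-2)), (45, 0), (990, 0), (990, 0), (1540, 0), (1540, 0), (1540, 0), (3840, 0)], 2,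
    [46592, 258577, 541169, 1014272, 3932672, 1577472, 1802752],
    [[(1035, 0), (4830, 0), (483, (-2)), (736, 1), (3312, 2), (5796, 1)],
     [(4830, 0), (276, 1), (276, 1), (736, 1), (3312, 2), (5796, 1)],
     [(4830, 0), (276, (-4)), (276, 1), (736, (-4)), (3312, 2), (5796, 1)],
     [(1035, 0), (1035, 0), (1288, (-2)), (1288, (-2)), (3312, 2), (5796, (-4))],
     [(4830, 0), (276, (-4)), (276, 1), (736, 1), (3312, 2), (5796, (-4))],
     [(230, 0), (1035, 0), (276, 1), (276, 1), (483, 3), (1288, 3)],
     [(230, 0), (1035, 0), (483, (-2)), (736, (-4)), (1288, (-2)), (1288, (-2))],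
     [(230, 0), (276, 1), (276, 1), (736, (-4)), (1288, (-2)), (1288, (-2))],
     [(1035, 0), (483, (-2)), (483, (-2)), (483, (-2)), (1288, (-2)), (1288, (-2))],
     [(230, 0), (1035, 0), (1035, 0), (483, (-2)), (483, (-2)), (1288, (-2))],
     [(230, 0), (1035, 0), (276, 1), (276, 1), (483, (-2)), (1288, (-2))],
     [(230, 0), (4830, 0), (483, (-2)), (483, (-2)), (736, 1), (736, 1)],
     [(1035, 0), (1035, 0), (1035, 0), (276, 1), (483, (-2)), (736, 1)],
     [(2760, 0), (4830, 0), (276, 1), (276, 1), (276, 1), (736, 1)],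
     [(1035, 0), (1035, 0), (276, 1), (276, 1), (276, 1), (736, 1)],
     [(1035, 0), (1035, 0), (1035, 0), (276, (-4)), (483, (-2)), (736, (-4))],
     [(1035, 0), (1035, 0), (276, (-4)), (276, 1), (276, 1), (736, (-4))],
     [(230, 0), (1035, 0), (2760, 0), (2760, 0), (7360, 0), (483, (-2))],
     [(230, 0), (230, 0), (1035, 0), (2760, 0), (4830, 0), (483, (-2))],
     [(230, 0), (230, 0), (1035, 0), (1035, 0), (1035, 0), (483, (-2))],
     [(230, 0), (230, 0), (1035, 0), (1035, 0), (276, 1), (276, 1)]]⟩

theorem case93_y : killY case93 = true := by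
  decide +kernel

theorem case93_x0 : xPart case93 ((case93.tab.drop 0).take 7) = true := by
  decide +kernel

theorem case93_x7 : xPart case93 ((case93.tab.drop 7).take 7) = true := by
  decide +kernel

theorem case93_x14 : xPart case93 ((case93.tab.drop 14).take 7) = true := by
  decide +kernel

theorem case93_ok : KillOK case93 := by
  refine Or.inr ⟨case93_y, fun yy hy => ?_⟩
  rw [show case93.tab =
      ((case93.tab.drop 0).take 7) ++
      ((case93.tab.drop 7).take 7) ++
      ((case93.tab.drop 14).take 7) by decide +kernel] at hy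
  simp only [List.mem_append] at hy
  rcases hy with (hy | hy) | hy
  exacts [⟨_, hy, case93_x0⟩,
    ⟨_, hy, case93_x7⟩,
    ⟨_, hy, case93_x14⟩]

/-- case 109 -/
def case109 : Case :=
  ⟨(264, 4),
    [(252, 2), (528, (-2)), (528, (-2)), (528, (-2)), (45, 0), (45, 0), (3520, 0), (3520, 0), (10395, 0)], 0,
    [46592, 10644992, 258577, 3604992, 270881, 541169, 541170],
    []⟩

theorem case109_ok : KillOK case109 := killOK_of (by decide +kernel)

/-- case 120 -/
def case120 : Case :=
  ⟨(2772, 2),
    [(22, 2), (990, 0), (990, 0), (990, 0), (990, 0), (990, 0), (990, 0), (3840, 0), (10395, 0)], 0,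
    [23057, 2839057, 1014272, 3932672, 10644992],
    []⟩

theorem case120_ok : KillOK case120 := killOK_of (by decide +kernel)

/-- case 152 -/
def case152 : Case :=
  ⟨(495, 0),
    [(5544, 4), (252, 2), (252, 2), (1540, 0), (1540, 0), (3520, 0), (3840, 0), (3840, 0), (3840, 0)], 1,
    [],
    []⟩

theorem case152_ok : KillOK case152 := killOK_of (by decide +kernel)

/-- case 157 -/
def case157 : Case :=
  ⟨(770, 0),
    [(5544, 4), (252, 2), (252, 2), (45, 0), (45, 0), (990, 0), (3520, 0), (3840, 0), (10395, 0)], 1,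
    [],
    []⟩

theorem case157_ok : KillOK case157 := killOK_of (by decide +kernel)

/-- the cases of this file -/
def casesC : List Case :=
  [case3, case17, case20, case35, case41, case55, case58, case88, case93, case109, case120, case152, case157]

/-- they are impossible -/
theorem runC : ∀ c ∈ casesC, KillOK c := by
  intro c hc
  simp only [casesC, List.mem_cons, List.not_mem_nil, or_false] at hc
  rcases hc with rfl | rfl | rfl | rfl | rfl | rfl | rfl | rfl | rfl | rfl | rfl | rfl | rfl
  exacts [case3_ok,
    case17_ok,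
    case20_ok,
    case35_ok,
    case41_ok,
    case55_ok,
    case58_ok,
    case88_ok,
    case93_ok,
    case109_ok,
    case120_ok,
    case152_ok,
    case157_ok]

end Cfsg.Agent.MTwentyFour.ByOrder.RowA
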