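import Cfsg.Agent.Lib.Spor.MTwentyFourOrder.RowA.Check

/-!
Cases for a centraliser of order sixty with the first row, each impossible.
-/

set_option autoImplicit false
set_option Elab.async false
set_option maxRecDepth 100000
set_option maxHeartbeats 4000000

namespace Cfsg.Agent.MTwentyFour.ByOrder.RowA

/-- case 9 -/
def case9 : Case :=
  ⟨(540, 0),
    [(252, (-3)), (252, 2), (528, (-2)), (528, 3), (45, 0), (1540, 0), (1540, 0), (3520, 0), (3840, 0)], 1,
    [],
    []⟩

theorem case9_ok : KillOK case9 := killOK_of (by decide +kernel)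

/-- case 15 -/
def case15 : Case :=
  ⟨(495, 0),
    [(252, (-3)), (252, 2), (528, 3), (231, 1), (231, 1), (45, 0), (45, 0), (1540, 0), (3840, 0)], 1,
    [],
    []⟩

theorem case15_ok : KillOK case15 := killOK_of (by decide +kernel)

/-- case 29 -/
def case29 : Case :=
  ⟨(12, 2),
    [(252, 2), (22, 2), (528, (-2)), (45, 0), (990, 0), (1540, 0), (3520, 0), (3840, 0), (3840, 0)], 1,
    [],
    []⟩

theorem case29_ok : KillOK case29 := killOK_of (by decide +kernel)

/-- case 40 -/
def case40 : Case :=
  ⟨(770, 0),
    [(252, 2), (22, 2), (231, 1), (231, 1), (231, 1), (231, 1), (45, 0), (1540, 0), (3840, 0)], 0,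
    [46592, 3932672, 23057, 258577, 788992, 237066, 1577472],
    []⟩

theorem case40_ok : KillOK case40 := killOK_of (by decide +kernel)

/-- case 42 -/
def case42 : Case :=
  ⟨(495, 0),
    [(252, 2), (22, 2), (528, (-2)), (231, 1), (231, 1), (990, 0), (990, 0), (3840, 0), (3840, 0)], 0,
    [258577, 237066, 541169, 1014272, 3932672, 23057, 507392],
    []⟩

theorem case42_ok : KillOK case42 := killOK_of (by decide +kernel)

/-- case 61 -/
def case61 : Case :=
  ⟨(495, 0),
    [(252, 2), (231, 1), (231, 1), (45, 0), (990, 0), (3520, 0), (3520, 0), (3840, 0), (10395, 0)], 0,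
    [46592, 3932672, 10644992, 507392, 258577, 3604992, 1014272, 237066],
    []⟩

theorem case61_ok : KillOK case61 := killOK_of (by decide +kernel)

/-- case 68 -/
def case68 : Case :=
  ⟨(770, 0),
    [(252, 2), (231, 1), (231, 1), (45, 0), (45, 0), (1540, 0), (3520, 0), (3520, 0), (10395, 0)], 0,
    [46592, 10644992, 258577, 3604992, 788992, 237066, 1577472],
    []⟩

theorem case68_ok : KillOK case68 := killOK_of (by decide +kernel)

/-- case 79 -/
def case79 : Case :=
  ⟨(495, 0),
    [(252, 2), (528, (-2)), (990, 0), (990, 0), (990, 0), (990, 0), (1540, 0), (3840, 0), (3840, 0)], 2,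
    [258577, 541169, 1577472, 3932672, 1014272, 507392],
    [[(1035, 0), (1035, 0), (483, (-2)), (736, 1), (3312, 2), (5796, 1)],
     [(1035, 0), (276, 1), (276, 1), (736, 1), (3312, 2), (5796, 1)],
     [(1035, 0), (276, (-4)), (276, 1), (736, (-4)), (3312, 2), (5796, 1)],
     [(230, 0), (230, 0), (1035, 0), (276, 1), (3312, 2), (5796, 1)],
     [(1035, 0), (276, (-4)), (276, 1), (736, 1), (3312, 2), (5796, (-4))],
     [(230, 0), (230, 0), (1035, 0), (276, (-4)), (3312, 2), (5796, (-4))],
     [(483, (-2)), (483, (-2)), (483, (-2)), (736, 1), (736, 1), (1288, (-2))],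
     [(230, 0), (1035, 0), (483, (-2)), (483, (-2)), (736, 1), (736, 1)],
     [(230, 0), (276, 1), (276, 1), (483, (-2)), (736, 1), (736, 1)],
     [(230, 0), (276, (-4)), (276, 1), (483, (-2)), (736, (-4)), (736, 1)],
     [(276, (-4)), (276, 1), (483, (-2)), (483, (-2)), (483, (-2)), (736, 1)],
     [(2760, 0), (2760, 0), (4830, 0), (276, 1), (483, (-2)), (736, 1)],
     [(230, 0), (230, 0), (230, 0), (276, 1), (483, (-2)), (736, 1)],
     [(1035, 0), (2760, 0), (276, 1), (276, 1), (276, 1), (736, 1)],
     [(2760, 0), (2760, 0), (4830, 0), (276, (-4)), (483, (-2)), (736, (-4))],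
     [(230, 0), (230, 0), (230, 0), (276, (-4)), (483, (-2)), (736, (-4))],
     [(230, 0), (230, 0), (1035, 0), (1035, 0), (2760, 0), (483, (-2))],
     [(230, 0), (230, 0), (1035, 0), (2760, 0), (276, 1), (276, 1)]]⟩

theorem case79_y : killY case79 = true := by
  decide +kernel

theorem case79_x0 : xPart case79 ((case79.tab.drop 0).take 6) = true := by
  decide +kernel

theorem case79_x6 : xPart case79 ((case79.tab.drop 6).take 6) = true := by
  decide +kernel

theorem case79_x12 : xPart case79 ((case79.tab.drop 12).take 6) = true := by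
  decide +kernel

theorem case79_ok : KillOK case79 := by
  refine Or.inr ⟨case79_y, fun yy hy => ?_⟩
  rw [show case79.tab =
      ((case79.tab.drop 0).take 6) ++
      ((case79.tab.drop 6).take 6) ++
      ((case79.tab.drop 12).take 6) by decide +kernel] at hy
  simp only [List.mem_append] at hy
  rcases hy with (hy | hy) | hy
  exacts [⟨_, hy, case79_x0⟩,
    ⟨_, hy, case79_x6⟩,
    ⟨_, hy, case79_x12⟩]

/-- case 106 -/
def case106 : Case :=
  ⟨(770, 0),
    [(252, 2), (528, (-2)), (528, (-2)), (528, (-2)), (231, (-4)), (45, 0), (45, 0), (1540, 0), (1540, 0)], 0,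
    [46592, 258577, 788992, 1577472, 237025, 541169, 541170],
    []⟩

theorem case106_ok : KillOK case106 := killOK_of (by decide +kernel)

/-- case 111 -/
def case111 : Case :=
  ⟨(264, 4),
    [(252, 2), (528, (-2)), (528, (-2)), (528, (-2)), (45, 0), (990, 0), (990, 0), (1540, 0), (3840, 0)], 0,
    [46592, 3932672, 258577, 1577472, 1014272, 541170, 541169, 270881],
    []⟩

theorem case111_ok : KillOK case111 := killOK_of (by decide +kernel)

/-- case 142 -/
def case142 : Case :=
  ⟨(540, 0),
    [(5544, (-1)), (252, 2), (252, 2), (528, (-2)), (528, (-2)), (231, 1), (1540, 0), (3840, 0), (3840, 0)], 1,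
    [],
    []⟩

theorem case142_ok : KillOK case142 := killOK_of (by decide +kernel)

/-- case 149 -/
def case149 : Case :=
  ⟨(540, 0),
    [(5544, 4), (252, (-3)), (252, 2), (252, 2), (528, 3), (45, 0), (1540, 0), (3840, 0), (3840, 0)], 1,
    [],
    []⟩

theorem case149_ok : KillOK case149 := killOK_of (by decide +kernel)

/-- case 160 -/
def case160 : Case :=
  ⟨(1760, 0),
    [(5544, 4), (252, 2), (252, 2), (45, 0), (1540, 0), (1540, 0), (1540, 0), (3840, 0), (3840, 0)], 1,
    [],
    []⟩

theorem case160_ok : KillOK case160 := killOK_of (by decide +kernel)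

/-- the cases of this file -/
def casesD : List Case :=
  [case9, case15, case29, case40, case42, case61, case68, case79, case106, case111, case142, case149, case160]

/-- they are impossible -/
theorem runD : ∀ c ∈ casesD, KillOK c := by
  intro c hc
  simp only [casesD, List.mem_cons, List.not_mem_nil, or_false] at hc
  rcases hc with rfl | rfl | rfl | rfl | rfl | rfl | rfl | rfl | rfl | rfl | rfl | rfl | rfl
  exacts [case9_ok,
    case15_ok,
    case29_ok,
    case40_ok,
    case42_ok,
    case61_ok,
    case68_ok,
    case79_ok,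
    case106_ok,
    case111_ok,
    case142_ok,
    case149_ok,
    case160_ok]

end Cfsg.Agent.MTwentyFour.ByOrder.RowA
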