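import Cfsg.Agent.Lib.Spor.MTwentyFourOrder.RowA.Check

/-!
Cases for a centraliser of order sixty with the first row, each impossible.
-/

set_option autoImplicit false
set_option Elab.async false
set_option maxRecDepth 100000
set_option maxHeartbeats 4000000

namespace Cfsg.Agent.MTwentyFour.ByOrder.RowA

/-- case 5 -/
def case5 : Case :=
  ⟨(540, 0),
    [(252, (-3)), (252, 2), (22, 2), (528, (-2)), (528, 3), (231, 1), (231, 1), (45, 0), (3840, 0)], 1,
    [],
    []⟩

theorem case5_ok : KillOK case5 := killOK_of (by decide +kernel)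

/-- case 6 -/
def case6 : Case :=
  ⟨(495, 0),
    [(252, (-3)), (252, 2), (528, (-2)), (528, 3), (3520, 0), (3520, 0), (3840, 0), (3840, 0), (3840, 0)], 1,
    [],
    []⟩

theorem case6_ok : KillOK case6 := killOK_of (by decide +kernel)

/-- case 11 -/
def case11 : Case :=
  ⟨(770, 0),
    [(252, (-3)), (252, 2), (528, (-2)), (528, 3), (45, 0), (990, 0), (3520, 0), (3840, 0), (3840, 0)], 1,
    [],
    []⟩

theorem case11_ok : KillOK case11 := killOK_of (by decide +kernel)

/-- case 89 -/
def case89 : Case :=
  ⟨(1760, 0),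
    [(252, 2), (528, (-2)), (45, 0), (45, 0), (1540, 0), (1540, 0), (3520, 0), (3520, 0), (10395, 0)], 0,
    [46592, 258577, 541169, 10644992, 1577472, 1802752, 3604992],
    []⟩

theorem case89_ok : KillOK case89 := killOK_of (by decide +kernel)

/-- case 91 -/
def case91 : Case :=
  ⟨(1760, 0),
    [(252, 2), (528, (-2)), (45, 0), (45, 0), (990, 0), (990, 0), (990, 0), (990, 0), (10395, 0)], 0,
    [46592, 10644992, 258577, 1802752, 1014272, 541169],
    []⟩

theorem case91_ok : KillOK case91 := killOK_of (by decide +kernel)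

/-- case 103 -/
def case103 : Case :=
  ⟨(540, 0),
    [(252, 2), (528, (-2)), (528, (-2)), (528, (-2)), (231, (-4)), (1540, 0), (1540, 0), (3520, 0), (3840, 0)], 2,
    [553472, 3932672, 258577, 1577472, 237025, 3604992, 541169, 541170],
    [[(1035, 0), (1035, 0), (276, 1), (483, (-2)), (736, 1)],
     [(1035, 0), (276, 1), (276, 1), (276, 1), (736, 1)],
     [(230, 0), (230, 0), (1035, 0), (1035, 0), (483, (-2))],
     [(230, 0), (230, 0), (1035, 0), (276, 1), (276, 1)]]⟩

theorem case103_ok : KillOK case103 := killOK_of (by decide +kernel)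

/-- case 108 -/
def case108 : Case :=
  ⟨(1760, 0),
    [(252, 2), (528, (-2)), (528, (-2)), (528, (-2)), (231, (-4)), (990, 0), (990, 0), (3840, 0), (3840, 0)], 0,
    [3932672, 258577, 237025, 1014272, 1802752, 541169, 541170],
    []⟩

theorem case108_ok : KillOK case108 := killOK_of (by decide +kernel)

/-- case 115 -/
def case115 : Case :=
  ⟨(2772, (-3)),
    [(252, (-3)), (252, 2), (528, (-2)), (45, 0), (45, 0), (3520, 0), (3520, 0), (3840, 0), (10395, 0)], 1,
    [],
    []⟩

theorem case115_ok : KillOK case115 := killOK_of (by decide +kernel)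

/-- case 117 -/
def case117 : Case :=
  ⟨(2772, (-3)),
    [(252, (-3)), (252, 2), (528, (-2)), (45, 0), (990, 0), (990, 0), (1540, 0), (3840, 0), (3840, 0)], 1,
    [],
    []⟩

theorem case117_ok : KillOK case117 := killOK_of (by decide +kernel)

/-- case 138 -/
def case138 : Case :=
  ⟨(2772, 2),
    [(252, (-3)), (22, 2), (528, 3), (45, 0), (45, 0), (990, 0), (990, 0), (990, 0), (10395, 0)], 1,
    [],
    []⟩

theorem case138_ok : KillOK case138 := killOK_of (by decide +kernel)

/-- case 144 -/
def case144 : Case :=
  ⟨(264, (-1)),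
    [(5544, (-1)), (252, 2), (252, 2), (528, (-2)), (528, (-2)), (45, 0), (1540, 0), (3840, 0), (3840, 0)], 1,
    [],
    []⟩

theorem case144_ok : KillOK case144 := killOK_of (by decide +kernel)

/-- case 163 -/
def case163 : Case :=
  ⟨(495, 0),
    [(5544, 4), (252, 2), (252, 2), (22, 2), (528, (-2)), (45, 0), (45, 0), (45, 0), (10395, 0)], 1,
    [],
    []⟩

theorem case163_ok : KillOK case163 := killOK_of (by decide +kernel)

/-- case 165 -/
def case165 : Case :=
  ⟨(540, 0),
    [(5544, 4), (252, 2), (252, 2), (22, 2), (528, (-2)), (45, 0), (45, 0), (990, 0), (10395, 0)], 1,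
    [],
    []⟩

theorem case165_ok : KillOK case165 := killOK_of (by decide +kernel)

/-- the cases of this file -/
def casesE : List Case :=
  [case5, case6, case11, case89, case91, case103, case108, case115, case117, case138, case144, case163, case165]

/-- they are impossible -/
theorem runE : ∀ c ∈ casesE, KillOK c := by
  intro c hc
  simp only [casesE, List.mem_cons, List.not_mem_nil, or_false] at hc
  rcases hc with rfl | rfl | rfl | rfl | rfl | rfl | rfl | rfl | rfl | rfl | rfl | rfl | rfl
  exacts [case5_ok,
    case6_ok,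
    case11_ok,
    case89_ok,
    case91_ok,
    case103_ok,
    case108_ok,
    case115_ok,
    case117_ok,
    case138_ok,
    case144_ok,
    case163_ok,
    case165_ok]

end Cfsg.Agent.MTwentyFour.ByOrder.RowA
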