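import Cfsg.Agent.Lib.Spor.MTwentyFourOrder.RowA.Check

/-!
Cases for a centraliser of order sixty with the first row, each impossible.
-/

set_option autoImplicit false
set_option Elab.async false
set_option maxRecDepth 100000
set_option maxHeartbeats 4000000

namespace Cfsg.Agent.MTwentyFour.ByOrder.RowA

/-- case 10 -/
def case10 : Case :=
  ⟨(540, 0),
    [(252, (-3)), (252, 2), (528, (-2)), (528, 3), (45, 0), (990, 0), (990, 0), (1540, 0), (3840, 0)], 1,
    [],
    []⟩

theorem case10_ok : KillOK case10 := killOK_of (by decide +kernel)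

/-- case 12 -/
def case12 : Case :=
  ⟨(770, 0),
    [(252, (-3)), (252, 2), (528, (-2)), (528, 3), (45, 0), (45, 0), (45, 0), (1540, 0), (1540, 0)], 0,
    [46592, 788992, 1577472, 258577, 258537, 541169, 541209],
    []⟩

theorem case12_ok : KillOK case12 := killOK_of (by decide +kernel)

/-- case 18 -/
def case18 : Case :=
  ⟨(1760, 0),
    [(252, (-3)), (252, 2), (528, 3), (231, 1), (231, 1), (45, 0), (990, 0), (3840, 0), (3840, 0)], 1,
    [],
    []⟩

theorem case18_ok : KillOK case18 := killOK_of (by decide +kernel)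

/-- case 24 -/
def case24 : Case :=
  ⟨(12, 2),
    [(252, 2), (45, 0), (45, 0), (45, 0), (990, 0), (1540, 0), (1540, 0), (1540, 0), (1540, 0)], 0,
    [12817, 258577, 46592, 1014272, 1577472],
    []⟩

theorem case24_ok : KillOK case24 := killOK_of (by decide +kernel)

/-- case 54 -/
def case54 : Case :=
  ⟨(770, 0),
    [(252, 2), (22, 2), (528, (-2)), (528, (-2)), (45, 0), (990, 0), (990, 0), (1540, 0), (3840, 0)], 0,
    [3932672, 46592, 258577, 541169, 23057, 1014272, 788992, 1577472],
    []⟩

theorem case54_ok : KillOK case54 := killOK_of (by decide +kernel)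

/-- case 65 -/
def case65 : Case :=
  ⟨(540, 0),
    [(252, 2), (231, 1), (231, 1), (1540, 0), (3520, 0), (3520, 0), (3520, 0), (3840, 0), (10395, 0)], 2,
    [553472, 3932672, 10644992, 258577, 3604992, 237066, 1577472],
    [[(230, 0), (1035, 0), (483, (-2)), (483, 3), (1288, 3)],
     [(230, 0), (1035, 0), (483, (-2)), (483, (-2)), (1288, (-2))],
     [(1035, 0), (1035, 0), (276, 1), (483, (-2)), (736, 1)],
     [(1035, 0), (1035, 0), (276, (-4)), (483, (-2)), (736, (-4))],
     [(230, 0), (230, 0), (1035, 0), (1035, 0), (483, (-2))]]⟩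

theorem case65_ok : KillOK case65 := killOK_of (by decide +kernel)

/-- case 66 -/
def case66 : Case :=
  ⟨(540, 0),
    [(252, 2), (231, 1), (231, 1), (990, 0), (990, 0), (3520, 0), (3520, 0), (3840, 0), (10395, 0)], 0,
    [553472, 3932672, 10644992, 258577, 3604992, 1014272, 237066],
    []⟩

theorem case66_ok : KillOK case66 := killOK_of (by decide +kernel)

/-- case 71 -/
def case71 : Case :=
  ⟨(770, 0),
    [(252, 2), (231, 1), (231, 1), (45, 0), (990, 0), (990, 0), (1540, 0), (1540, 0), (3840, 0)], 2,
    [46592, 3932672, 258577, 1014272, 788992, 237066, 1577472],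
    [[(230, 0), (230, 0), (1035, 0), (483, (-2)), (1242, (-3)), (3312, (-3))],
     [(1035, 0), (483, (-2)), (483, 3), (483, 3), (1288, 3), (1288, 3)],
     [(230, 0), (1035, 0), (1035, 0), (483, (-2)), (483, 3), (1288, 3)],
     [(230, 0), (1035, 0), (483, (-2)), (736, (-4)), (1288, (-2)), (1288, (-2))],
     [(1035, 0), (483, (-2)), (483, (-2)), (483, (-2)), (1288, (-2)), (1288, (-2))],
     [(230, 0), (1035, 0), (1035, 0), (483, (-2)), (483, (-2)), (1288, (-2))],
     [(230, 0), (1035, 0), (276, 1), (276, 1), (483, (-2)), (1288, (-2))],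
     [(230, 0), (4830, 0), (483, (-2)), (483, (-2)), (736, 1), (736, 1)],
     [(1035, 0), (1035, 0), (1035, 0), (276, 1), (483, (-2)), (736, 1)],
     [(1035, 0), (1035, 0), (1035, 0), (276, (-4)), (483, (-2)), (736, (-4))],
     [(230, 0), (230, 0), (1035, 0), (2760, 0), (4830, 0), (483, (-2))],
     [(230, 0), (230, 0), (1035, 0), (1035, 0), (1035, 0), (483, (-2))]]⟩

theorem case71_y : killY case71 = true := by
  decide +kernel

theorem case71_x0 : xPart case71 ((case71.tab.drop 0).take 12) = true := by
  decide +kernel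

theorem case71_ok : KillOK case71 := by
  refine Or.inr ⟨case71_y, fun yy hy => ?_⟩
  rw [show case71.tab =
      ((case71.tab.drop 0).take 12) by decide +kernel] at hy
  exacts [⟨_, hy, case71_x0⟩]

/-- case 75 -/
def case75 : Case :=
  ⟨(495, 0),
    [(252, 2), (528, (-2)), (45, 0), (1540, 0), (3520, 0), (3520, 0), (3520, 0), (3840, 0), (10395, 0)], 0,
    [258577, 541169, 46592, 507392, 1577472, 3604992, 3932672, 10644992],
    []⟩

theorem case75_ok : KillOK case75 := killOK_of (by decide +kernel)

/-- case 118 -/
def case118 : Case :=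
  ⟨(2772, 2),
    [(22, 2), (990, 0), (990, 0), (1540, 0), (1540, 0), (3520, 0), (3520, 0), (3840, 0), (10395, 0)], 0,
    [23057, 2839057, 1014272, 1577472, 3604992, 3932672, 10644992],
    []⟩

theorem case118_ok : KillOK case118 := killOK_of (by decide +kernel)

/-- case 126 -/
def case126 : Case :=
  ⟨(2772, 2),
    [(22, 2), (22, 2), (528, (-2)), (990, 0), (990, 0), (990, 0), (3520, 0), (3840, 0), (10395, 0)], 0,
    [10644992, 2839057, 3604992, 23057, 3932672, 541169, 1014272],
    []⟩

theorem case126_ok : KillOK case126 := killOK_of (by decide +kernel)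

/-- case 153 -/
def case153 : Case :=
  ⟨(495, 0),
    [(5544, 4), (252, 2), (252, 2), (990, 0), (990, 0), (1540, 0), (3840, 0), (3840, 0), (3840, 0)], 1,
    [],
    []⟩

theorem case153_ok : KillOK case153 := killOK_of (by decide +kernel)

/-- case 161 -/
def case161 : Case :=
  ⟨(495, 0),
    [(5544, 4), (252, 2), (252, 2), (22, 2), (231, 1), (231, 1), (3840, 0), (3840, 0), (3840, 0)], 1,
    [],
    []⟩

theorem case161_ok : KillOK case161 := killOK_of (by decide +kernel)

/-- case 169 -/
def case169 : Case :=
  ⟨(2772, (-3)),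
    [(5544, 4), (252, (-3)), (252, 2), (252, 2), (45, 0), (1540, 0), (3840, 0), (3840, 0), (3840, 0)], 1,
    [],
    []⟩

theorem case169_ok : KillOK case169 := killOK_of (by decide +kernel)

/-- the cases of this file -/
def casesF : List Case :=
  [case10, case12, case18, case24, case54, case65, case66, case71, case75, case118, case126, case153, case161,
   case169]

/-- they are impossible -/
theorem runF : ∀ c ∈ casesF, KillOK c := by
  intro c hc
  simp only [casesF, List.mem_cons, List.not_mem_nil, or_false] at hc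
  rcases hc with rfl | rfl | rfl | rfl | rfl | rfl | rfl | rfl | rfl | rfl | rfl | rfl | rfl | rfl
  exacts [case10_ok,
    case12_ok,
    case18_ok,
    case24_ok,
    case54_ok,
    case65_ok,
    case66_ok,
    case71_ok,
    case75_ok,
    case118_ok,
    case126_ok,
    case153_ok,
    case161_ok,
    case169_ok]

end Cfsg.Agent.MTwentyFour.ByOrder.RowA
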