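import Cfsg.Agent.Lib.Spor.MTwentyFourOrder.RowA.Check

/-!
Cases for a centraliser of order sixty with the first row, each impossible.
-/

set_option autoImplicit false
set_option Elab.async false
set_option maxRecDepth 100000
set_option maxHeartbeats 4000000

namespace Cfsg.Agent.MTwentyFour.ByOrder.RowA

/-- case 2 -/
def case2 : Case :=
  ⟨(12, 2),
    [(252, (-3)), (252, 2), (22, 2), (528, (-2)), (528, 3), (45, 0), (45, 0), (45, 0), (3840, 0)], 1,
    [],
    []⟩

theorem case2_ok : KillOK case2 := killOK_of (by decide +kernel)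

/-- case 43 -/
def case43 : Case :=
  ⟨(540, 0),
    [(252, 2), (22, 2), (528, (-2)), (231, 1), (231, 1), (45, 0), (1540, 0), (1540, 0), (1540, 0)], 0,
    [46592, 553472, 23057, 258577, 237066, 1577472, 541169],
    []⟩

theorem case43_ok : KillOK case43 := killOK_of (by decide +kernel)

/-- case 52 -/
def case52 : Case :=
  ⟨(770, 0),
    [(252, 2), (22, 2), (528, (-2)), (528, (-2)), (45, 0), (45, 0), (3520, 0), (3520, 0), (10395, 0)], 0,
    [46592, 258577, 541169, 10644992, 23057, 788992, 3604992],
    []⟩

theorem case52_ok : KillOK case52 := killOK_of (by decide +kernel)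

/-- case 57 -/
def case57 : Case :=
  ⟨(540, 0),
    [(252, 2), (22, 2), (528, (-2)), (528, (-2)), (528, (-2)), (231, (-4)), (231, 1), (231, 1), (3840, 0)], 1,
    [],
    []⟩

theorem case57_ok : KillOK case57 := killOK_of (by decide +kernel)

/-- case 63 -/
def case63 : Case :=
  ⟨(495, 0),
    [(252, 2), (231, 1), (231, 1), (990, 0), (990, 0), (990, 0), (1540, 0), (3840, 0), (3840, 0)], 0,
    [3932672, 507392, 258577, 1014272, 237066, 1577472],
    []⟩

theorem case63_ok : KillOK case63 := killOK_of (by decide +kernel)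

/-- case 74 -/
def case74 : Case :=
  ⟨(1760, 0),
    [(252, 2), (231, 1), (231, 1), (45, 0), (990, 0), (1540, 0), (1540, 0), (1540, 0), (3840, 0)], 1,
    [],
    []⟩

theorem case74_ok : KillOK case74 := killOK_of (by decide +kernel)

/-- case 92 -/
def case92 : Case :=
  ⟨(1760, 0),
    [(252, 2), (528, (-2)), (45, 0), (1540, 0), (1540, 0), (1540, 0), (1540, 0), (3520, 0), (3840, 0)], 0,
    [46592, 258577, 541169, 3932672, 1577472, 1802752, 3604992],
    []⟩

theorem case92_ok : KillOK case92 := killOK_of (by decide +kernel)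

/-- case 95 -/
def case95 : Case :=
  ⟨(1760, 0),
    [(252, 2), (528, (-2)), (231, (-4)), (231, 1), (231, 1), (231, 1), (231, 1), (3840, 0), (3840, 0)], 1,
    [],
    []⟩

theorem case95_ok : KillOK case95 := killOK_of (by decide +kernel)

/-- case 99 -/
def case99 : Case :=
  ⟨(1760, 0),
    [(252, 2), (528, (-2)), (528, (-2)), (231, (-4)), (231, 1), (231, 1), (990, 0), (3840, 0), (3840, 0)], 0,
    [3932672, 258577, 541170, 1014272, 1802752, 237066, 237025],
    []⟩

theorem case99_ok : KillOK case99 := killOK_of (by decide +kernel)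

/-- case 114 -/
def case114 : Case :=
  ⟨(2772, (-3)),
    [(252, (-3)), (252, 2), (231, 1), (231, 1), (45, 0), (990, 0), (1540, 0), (3840, 0), (3840, 0)], 1,
    [],
    []⟩

theorem case114_ok : KillOK case114 := killOK_of (by decide +kernel)

/-- case 125 -/
def case125 : Case :=
  ⟨(2772, 2),
    [(22, 2), (22, 2), (528, (-2)), (990, 0), (1540, 0), (3520, 0), (3520, 0), (3840, 0), (10395, 0)], 0,
    [3932672, 3604992, 2839057, 10644992, 1577472, 1014272, 23057, 541169],
    []⟩

theorem case125_ok : KillOK case125 := killOK_of (by decide +kernel)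

/-- case 143 -/
def case143 : Case :=
  ⟨(1760, 0),
    [(5544, (-1)), (252, 2), (252, 2), (528, (-2)), (528, (-2)), (231, 1), (3840, 0), (3840, 0), (3840, 0)], 1,
    [],
    []⟩

theorem case143_ok : KillOK case143 := killOK_of (by decide +kernel)

/-- case 150 -/
def case150 : Case :=
  ⟨(1760, 0),
    [(5544, 4), (252, (-3)), (252, 2), (252, 2), (528, 3), (45, 0), (3840, 0), (3840, 0), (3840, 0)], 1,
    [],
    []⟩

theorem case150_ok : KillOK case150 := killOK_of (by decide +kernel)

/-- case 159 -/
def case159 : Case :=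
  ⟨(1760, 0),
    [(5544, 4), (252, 2), (252, 2), (45, 0), (45, 0), (990, 0), (990, 0), (3840, 0), (10395, 0)], 1,
    [],
    []⟩

theorem case159_ok : KillOK case159 := killOK_of (by decide +kernel)

/-- case 172 -/
def case172 : Case :=
  ⟨(2772, 2),
    [(5544, 4), (252, 2), (231, (-4)), (1540, 0), (1540, 0), (1540, 0), (1540, 0), (3840, 0), (3840, 0)], 1,
    [],
    []⟩

theorem case172_ok : KillOK case172 := killOK_of (by decide +kernel)

/-- the cases of this file -/
def casesG : List Case :=
  [case2, case43, case52, case57, case63, case74, case92, case95, case99, case114, case125, case143, case150,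
   case159, case172]

/-- they are impossible -/
theorem runG : ∀ c ∈ casesG, KillOK c := by
  intro c hc
  simp only [casesG, List.mem_cons, List.not_mem_nil, or_false] at hc
  rcases hc with rfl | rfl | rfl | rfl | rfl | rfl | rfl | rfl | rfl | rfl | rfl | rfl | rfl | rfl | rfl
  exacts [case2_ok,
    case43_ok,
    case52_ok,
    case57_ok,
    case63_ok,
    case74_ok,
    case92_ok,
    case95_ok,
    case99_ok,
    case114_ok,
    case125_ok,
    case143_ok,
    case150_ok,
    case159_ok,
    case172_ok]

end Cfsg.Agent.MTwentyFour.ByOrder.RowA
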