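import Cfsg.Agent.Lib.Spor.MTwentyFourOrder.RowA.Check

/-!
Cases for a centraliser of order sixty with the first row, each impossible.
-/

set_option autoImplicit false
set_option Elab.async false
set_option maxRecDepth 100000
set_option maxHeartbeats 4000000

namespace Cfsg.Agent.MTwentyFour.ByOrder.RowA

/-- case 1 -/
def case1 : Case :=
  ⟨(12, 2),
    [(252, (-3)), (252, 2), (528, 3), (45, 0), (45, 0), (45, 0), (990, 0), (1540, 0), (3840, 0)], 1,
    [],
    []⟩

theorem case1_ok : KillOK case1 := killOK_of (by decide +kernel)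

/-- case 28 -/
def case28 : Case :=
  ⟨(12, 2),
    [(252, 2), (22, 2), (231, 1), (231, 1), (45, 0), (990, 0), (990, 0), (3840, 0), (3840, 0)], 0,
    [46592, 12817, 3932672, 23057, 258577, 1014272, 237066],
    []⟩

theorem case28_ok : KillOK case28 := killOK_of (by decide +kernel)

/-- case 30 -/
def case30 : Case :=
  ⟨(12, 2),
    [(252, 2), (22, 2), (528, (-2)), (45, 0), (990, 0), (990, 0), (990, 0), (3840, 0), (3840, 0)], 0,
    [12817, 23057, 258577, 541169, 46592, 1014272, 3932672],
    []⟩

theorem case30_ok : KillOK case30 := killOK_of (by decide +kernel)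

/-- case 34 -/
def case34 : Case :=
  ⟨(770, 0),
    [(252, 2), (22, 2), (22, 2), (528, (-2)), (528, (-2)), (231, 1), (231, 1), (45, 0), (3840, 0)], 0,
    [46592, 3932672, 23057, 23058, 258577, 788992, 237066, 541169, 541170],
    []⟩

theorem case34_ok : KillOK case34 := killOK_of (by decide +kernel)

/-- case 37 -/
def case37 : Case :=
  ⟨(770, 0),
    [(252, 2), (22, 2), (22, 2), (528, (-2)), (528, (-2)), (528, (-2)), (45, 0), (990, 0), (3840, 0)], 0,
    [258577, 788992, 46592, 1014272, 3932672, 23057, 541169, 23058, 541170],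
    []⟩

theorem case37_ok : KillOK case37 := killOK_of (by decide +kernel)

/-- case 53 -/
def case53 : Case :=
  ⟨(770, 0),
    [(252, 2), (22, 2), (528, (-2)), (528, (-2)), (45, 0), (1540, 0), (1540, 0), (3520, 0), (3840, 0)], 0,
    [46592, 258577, 541169, 3932672, 23057, 788992, 1577472, 3604992],
    []⟩

theorem case53_ok : KillOK case53 := killOK_of (by decide +kernel)

/-- case 56 -/
def case56 : Case :=
  ⟨(1760, 0),
    [(252, 2), (22, 2), (528, (-2)), (528, (-2)), (45, 0), (990, 0), (1540, 0), (1540, 0), (3840, 0)], 0,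
    [46592, 1802752, 3932672, 258577, 541169, 23057, 1014272, 1577472],
    []⟩

theorem case56_ok : KillOK case56 := killOK_of (by decide +kernel)

/-- case 70 -/
def case70 : Case :=
  ⟨(770, 0),
    [(252, 2), (231, 1), (231, 1), (45, 0), (1540, 0), (1540, 0), (1540, 0), (3520, 0), (3840, 0)], 0,
    [46592, 3932672, 258577, 3604992, 788992, 237066, 1577472],
    []⟩

theorem case70_ok : KillOK case70 := killOK_of (by decide +kernel)

/-- case 77 -/
def case77 : Case :=
  ⟨(495, 0),
    [(252, 2), (528, (-2)), (1540, 0), (1540, 0), (1540, 0), (3520, 0), (3520, 0), (3840, 0), (3840, 0)], 1,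
    [],
    []⟩

theorem case77_ok : KillOK case77 := killOK_of (by decide +kernel)

/-- case 105 -/
def case105 : Case :=
  ⟨(770, 0),
    [(252, 2), (528, (-2)), (528, (-2)), (528, (-2)), (231, (-4)), (990, 0), (3520, 0), (3840, 0), (3840, 0)], 0,
    [3932672, 258577, 788992, 237025, 3604992, 1014272, 541169, 541170],
    []⟩

theorem case105_ok : KillOK case105 := killOK_of (by decide +kernel)

/-- case 112 -/
def case112 : Case :=
  ⟨(2772, (-3)),
    [(252, (-3)), (252, 2), (22, 2), (528, (-2)), (231, 1), (231, 1), (45, 0), (3840, 0), (3840, 0)], 1,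
    [],
    []⟩

theorem case112_ok : KillOK case112 := killOK_of (by decide +kernel)

/-- case 119 -/
def case119 : Case :=
  ⟨(2772, 2),
    [(22, 2), (990, 0), (990, 0), (990, 0), (990, 0), (1540, 0), (3520, 0), (3840, 0), (10395, 0)], 0,
    [23057, 2839057, 1014272, 1577472, 3604992, 3932672, 10644992],
    []⟩

theorem case119_ok : KillOK case119 := killOK_of (by decide +kernel)

/-- case 135 -/
def case135 : Case :=
  ⟨(2772, 2),
    [(252, (-3)), (22, 2), (22, 2), (528, (-2)), (528, 3), (45, 0), (1540, 0), (1540, 0), (3840, 0)], 1,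
    [],
    []⟩

theorem case135_ok : KillOK case135 := killOK_of (by decide +kernel)

/-- case 166 -/
def case166 : Case :=
  ⟨(770, 0),
    [(5544, 4), (252, 2), (252, 2), (22, 2), (528, (-2)), (45, 0), (1540, 0), (3840, 0), (3840, 0)], 0,
    [46592, 3932672, 541169, 5677601, 258578, 23057, 788992, 1577472],
    []⟩

theorem case166_ok : KillOK case166 := killOK_of (by decide +kernel)

/-- case 168 -/
def case168 : Case :=
  ⟨(1760, 0),
    [(5544, 4), (252, 2), (252, 2), (528, (-2)), (528, (-2)), (231, (-4)), (3840, 0), (3840, 0), (3840, 0)], 1,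
    [],
    []⟩

theorem case168_ok : KillOK case168 := killOK_of (by decide +kernel)

/-- the cases of this file -/
def casesH : List Case :=
  [case1, case28, case30, case34, case37, case53, case56, case70, case77, case105, case112, case119, case135,
   case166, case168]

/-- they are impossible -/
theorem runH : ∀ c ∈ casesH, KillOK c := by
  intro c hc
  simp only [casesH, List.mem_cons, List.not_mem_nil, or_false] at hc
  rcases hc with rfl | rfl | rfl | rfl | rfl | rfl | rfl | rfl | rfl | rfl | rfl | rfl | rfl | rfl | rfl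
  exacts [case1_ok,
    case28_ok,
    case30_ok,
    case34_ok,
    case37_ok,
    case53_ok,
    case56_ok,
    case70_ok,
    case77_ok,
    case105_ok,
    case112_ok,
    case119_ok,
    case135_ok,
    case166_ok,
    case168_ok]

end Cfsg.Agent.MTwentyFour.ByOrder.RowA
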