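import Cfsg.Agent.Lib.Spor.MTwentyFourOrder.RowA.Check

/-!
Cases for a centraliser of order sixty with the first row, each impossible.
-/

set_option autoImplicit false
set_option Elab.async false
set_option maxRecDepth 100000
set_option maxHeartbeats 4000000

namespace Cfsg.Agent.MTwentyFour.ByOrder.RowA

/-- case 13 -/
def case13 : Case :=
  ⟨(1760, 0),
    [(252, (-3)), (252, 2), (528, (-2)), (528, 3), (45, 0), (1540, 0), (3520, 0), (3840, 0), (3840, 0)], 1,
    [],
    []⟩

theorem case13_ok : KillOK case13 := killOK_of (by decide +kernel)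

/-- case 31 -/
def case31 : Case :=
  ⟨(12, 2),
    [(252, 2), (22, 2), (528, (-2)), (45, 0), (45, 0), (45, 0), (1540, 0), (1540, 0), (1540, 0)], 0,
    [46592, 12817, 23057, 258577, 1577472, 541169],
    []⟩

theorem case31_ok : KillOK case31 := killOK_of (by decide +kernel)

/-- case 49 -/
def case49 : Case :=
  ⟨(495, 0),
    [(252, 2), (22, 2), (528, (-2)), (528, (-2)), (45, 0), (45, 0), (1540, 0), (1540, 0), (1540, 0)], 1,
    [],
    []⟩

theorem case49_ok : KillOK case49 := killOK_of (by decide +kernel)

/-- case 62 -/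
def case62 : Case :=
  ⟨(495, 0),
    [(252, 2), (231, 1), (231, 1), (990, 0), (1540, 0), (1540, 0), (3520, 0), (3840, 0), (3840, 0)], 0,
    [237066, 258577, 507392, 1014272, 3932672, 1577472, 3604992],
    []⟩

theorem case62_ok : KillOK case62 := killOK_of (by decide +kernel)

/-- case 64 -/
def case64 : Case :=
  ⟨(495, 0),
    [(252, 2), (231, 1), (231, 1), (45, 0), (45, 0), (1540, 0), (1540, 0), (1540, 0), (1540, 0)], 0,
    [46592, 507392, 258577, 237066, 1577472],
    []⟩

theorem case64_ok : KillOK case64 := killOK_of (by decide +kernel)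

/-- case 67 -/
def case67 : Case :=
  ⟨(540, 0),
    [(252, 2), (231, 1), (231, 1), (45, 0), (990, 0), (1540, 0), (1540, 0), (1540, 0), (1540, 0)], 1,
    [],
    []⟩

theorem case67_ok : KillOK case67 := killOK_of (by decide +kernel)

/-- case 72 -/
def case72 : Case :=
  ⟨(1760, 0),
    [(252, 2), (231, 1), (231, 1), (45, 0), (45, 0), (990, 0), (1540, 0), (3520, 0), (10395, 0)], 0,
    [46592, 10644992, 258577, 1802752, 3604992, 1014272, 237066, 1577472],
    []⟩

theorem case72_ok : KillOK case72 := killOK_of (by decide +kernel)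

/-- case 85 -/
def case85 : Case :=
  ⟨(770, 0),
    [(252, 2), (528, (-2)), (45, 0), (45, 0), (990, 0), (1540, 0), (3520, 0), (3520, 0), (10395, 0)], 0,
    [46592, 258577, 541169, 1014272, 10644992, 788992, 1577472, 3604992],
    []⟩

theorem case85_ok : KillOK case85 := killOK_of (by decide +kernel)

/-- case 90 -/
def case90 : Case :=
  ⟨(1760, 0),
    [(252, 2), (528, (-2)), (45, 0), (45, 0), (990, 0), (990, 0), (1540, 0), (3520, 0), (10395, 0)], 0,
    [46592, 258577, 541169, 1014272, 10644992, 1577472, 1802752, 3604992],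
    []⟩

theorem case90_ok : KillOK case90 := killOK_of (by decide +kernel)

/-- case 101 -/
def case101 : Case :=
  ⟨(495, 0),
    [(252, 2), (528, (-2)), (528, (-2)), (528, (-2)), (231, (-4)), (45, 0), (990, 0), (1540, 0), (3840, 0)], 1,
    [],
    []⟩

theorem case101_ok : KillOK case101 := killOK_of (by decide +kernel)

/-- case 110 -/
def case110 : Case :=
  ⟨(264, 4),
    [(252, 2), (528, (-2)), (528, (-2)), (528, (-2)), (45, 0), (1540, 0), (1540, 0), (3520, 0), (3840, 0)], 0,
    [46592, 3932672, 258577, 3604992, 1577472, 270881, 541169, 541170],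
    []⟩

theorem case110_ok : KillOK case110 := killOK_of (by decide +kernel)

/-- case 127 -/
def case127 : Case :=
  ⟨(2772, 2),
    [(22, 2), (22, 2), (528, (-2)), (45, 0), (1540, 0), (1540, 0), (1540, 0), (1540, 0), (1540, 0)], 0,
    [46592, 541169, 2839057, 23057, 1577472],
    []⟩

theorem case127_ok : KillOK case127 := killOK_of (by decide +kernel)

/-- case 140 -/
def case140 : Case :=
  ⟨(2772, 2),
    [(252, (-3)), (22, 2), (528, 3), (528, 3), (231, 1), (231, 1), (231, 1), (3840, 0), (3840, 0)], 0,
    [3932672],
    []⟩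

theorem case140_ok : KillOK case140 := killOK_of (by decide +kernel)

/-- case 151 -/
def case151 : Case :=
  ⟨(495, 0),
    [(5544, 4), (252, 2), (252, 2), (45, 0), (45, 0), (45, 0), (990, 0), (1540, 0), (10395, 0)], 1,
    [],
    []⟩

theorem case151_ok : KillOK case151 := killOK_of (by decide +kernel)

/-- case 171 -/
def case171 : Case :=
  ⟨(2772, 2),
    [(5544, 4), (252, 2), (22, 2), (528, (-2)), (231, (-4)), (45, 0), (990, 0), (3840, 0), (10395, 0)], 1,
    [],
    []⟩

theorem case171_ok : KillOK case171 := killOK_of (by decide +kernel)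

/-- the cases of this file -/
def casesI : List Case :=
  [case13, case31, case49, case62, case64, case67, case72, case85, case90, case101, case110, case127, case140,
   case151, case171]

/-- they are impossible -/
theorem runI : ∀ c ∈ casesI, KillOK c := by
  intro c hc
  simp only [casesI, List.mem_cons, List.not_mem_nil, or_false] at hc
  rcases hc with rfl | rfl | rfl | rfl | rfl | rfl | rfl | rfl | rfl | rfl | rfl | rfl | rfl | rfl | rfl
  exacts [case13_ok,
    case31_ok,
    case49_ok,
    case62_ok,
    case64_ok,
    case67_ok,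
    case72_ok,
    case85_ok,
    case90_ok,
    case101_ok,
    case110_ok,
    case127_ok,
    case140_ok,
    case151_ok,
    case171_ok]

end Cfsg.Agent.MTwentyFour.ByOrder.RowA
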