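import Cfsg.Agent.Lib.Spor.MTwentyFourOrder.RowA.Check

/-!
Cases for a centraliser of order sixty with the first row, each impossible.
-/

set_option autoImplicit false
set_option Elab.async false
set_option maxRecDepth 100000
set_option maxHeartbeats 4000000

namespace Cfsg.Agent.MTwentyFour.ByOrder.RowA

/-- case 21 -/
def case21 : Case :=
  ⟨(12, 2),
    [(252, 2), (45, 0), (1540, 0), (1540, 0), (1540, 0), (3520, 0), (3520, 0), (3840, 0), (3840, 0)], 0,
    [12817, 258577, 46592, 1577472, 3604992, 3932672],
    []⟩

theorem case21_ok : KillOK case21 := killOK_of (by decide +kernel)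

/-- case 46 -/
def case46 : Case :=
  ⟨(1760, 0),
    [(252, 2), (22, 2), (528, (-2)), (231, 1), (231, 1), (45, 0), (1540, 0), (1540, 0), (3840, 0)], 0,
    [46592, 3932672, 23057, 258577, 1802752, 237066, 1577472, 541169],
    []⟩

theorem case46_ok : KillOK case46 := killOK_of (by decide +kernel)

/-- case 51 -/
def case51 : Case :=
  ⟨(540, 0),
    [(252, 2), (22, 2), (528, (-2)), (528, (-2)), (45, 0), (990, 0), (1540, 0), (1540, 0), (1540, 0)], 0,
    [553472, 46592, 258577, 541169, 23057, 1014272, 1577472],
    []⟩

theorem case51_ok : KillOK case51 := killOK_of (by decide +kernel)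

/-- case 80 -/
def case80 : Case :=
  ⟨(495, 0),
    [(252, 2), (528, (-2)), (45, 0), (45, 0), (990, 0), (1540, 0), (1540, 0), (1540, 0), (1540, 0)], 0,
    [258577, 541169, 46592, 507392, 1014272, 1577472],
    []⟩

theorem case80_ok : KillOK case80 := killOK_of (by decide +kernel)

/-- case 81 -/
def case81 : Case :=
  ⟨(540, 0),
    [(252, 2), (528, (-2)), (990, 0), (1540, 0), (3520, 0), (3520, 0), (3520, 0), (3840, 0), (10395, 0)], 0,
    [258577, 541169, 553472, 1014272, 3932672, 10644992, 1577472, 3604992],
    []⟩

theorem case81_ok : KillOK case81 := killOK_of (by decide +kernel)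

/-- case 84 -/
def case84 : Case :=
  ⟨(540, 0),
    [(252, 2), (528, (-2)), (45, 0), (990, 0), (990, 0), (1540, 0), (1540, 0), (1540, 0), (1540, 0)], 1,
    [],
    []⟩

theorem case84_ok : KillOK case84 := killOK_of (by decide +kernel)

/-- case 102 -/
def case102 : Case :=
  ⟨(540, 0),
    [(252, 2), (528, (-2)), (528, (-2)), (528, (-2)), (231, (-4)), (45, 0), (3520, 0), (3520, 0), (10395, 0)], 0,
    [46592, 553472, 10644992, 258577, 3604992, 237025, 541169, 541170],
    []⟩

theorem case102_ok : KillOK case102 := killOK_of (by decide +kernel)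

/-- case 107 -/
def case107 : Case :=
  ⟨(1760, 0),
    [(252, 2), (528, (-2)), (528, (-2)), (528, (-2)), (231, (-4)), (1540, 0), (3520, 0), (3840, 0), (3840, 0)], 0,
    [3932672, 3604992, 258577, 1577472, 237025, 1802752, 541169, 541170],
    []⟩

theorem case107_ok : KillOK case107 := killOK_of (by decide +kernel)

/-- case 124 -/
def case124 : Case :=
  ⟨(2772, 2),
    [(22, 2), (22, 2), (231, 1), (231, 1), (990, 0), (990, 0), (3520, 0), (3840, 0), (10395, 0)], 0,
    [23057, 237066, 2839057, 1014272, 3604992, 3932672, 10644992],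
    []⟩

theorem case124_ok : KillOK case124 := killOK_of (by decide +kernel)

/-- case 129 -/
def case129 : Case :=
  ⟨(2772, 2),
    [(22, 2), (22, 2), (528, (-2)), (528, (-2)), (528, (-2)), (231, (-4)), (1540, 0), (1540, 0), (3840, 0)], 1,
    [],
    []⟩

theorem case129_ok : KillOK case129 := killOK_of (by decide +kernel)

/-- case 134 -/
def case134 : Case :=
  ⟨(2772, 2),
    [(252, (-3)), (22, 2), (22, 2), (528, (-2)), (528, 3), (45, 0), (45, 0), (3520, 0), (10395, 0)], 1,
    [],
    []⟩

theorem case134_ok : KillOK case134 := killOK_of (by decide +kernel)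

/-- case 136 -/
def case136 : Case :=
  ⟨(2772, 2),
    [(252, (-3)), (22, 2), (528, (-2)), (528, (-2)), (528, 3), (231, (-4)), (990, 0), (3840, 0), (3840, 0)], 1,
    [],
    []⟩

theorem case136_ok : KillOK case136 := killOK_of (by decide +kernel)

/-- case 139 -/
def case139 : Case :=
  ⟨(2772, 2),
    [(252, (-3)), (22, 2), (528, 3), (45, 0), (990, 0), (1540, 0), (1540, 0), (1540, 0), (3840, 0)], 1,
    [],
    []⟩

theorem case139_ok : KillOK case139 := killOK_of (by decide +kernel)

/-- case 145 -/
def case145 : Case :=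
  ⟨(2772, 2),
    [(5544, (-1)), (252, (-3)), (252, 2), (528, 3), (231, 1), (1540, 0), (3840, 0), (3840, 0), (3840, 0)], 1,
    [],
    []⟩

theorem case145_ok : KillOK case145 := killOK_of (by decide +kernel)

/-- case 170 -/
def case170 : Case :=
  ⟨(2772, 2),
    [(5544, 4), (252, 2), (22, 2), (231, (-4)), (231, 1), (231, 1), (45, 0), (3840, 0), (10395, 0)], 1,
    [],
    []⟩

theorem case170_ok : KillOK case170 := killOK_of (by decide +kernel)

/-- the cases of this file -/
def casesK : List Case :=
  [case21, case46, case51, case80, case81, case84, case102, case107, case124, case129, case134, case136,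
   case139, case145, case170]

/-- they are impossible -/
theorem runK : ∀ c ∈ casesK, KillOK c := by
  intro c hc
  simp only [casesK, List.mem_cons, List.not_mem_nil, or_false] at hc
  rcases hc with rfl | rfl | rfl | rfl | rfl | rfl | rfl | rfl | rfl | rfl | rfl | rfl | rfl | rfl | rfl
  exacts [case21_ok,
    case46_ok,
    case51_ok,
    case80_ok,
    case81_ok,
    case84_ok,
    case102_ok,
    case107_ok,
    case124_ok,
    case129_ok,
    case134_ok,
    case136_ok,
    case139_ok,
    case145_ok,
    case170_ok]

end Cfsg.Agent.MTwentyFour.ByOrder.RowA
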