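import Cfsg.Agent.Lib.Spor.MTwentyFourOrder.RowA.Check

/-!
Cases for a centraliser of order sixty with the first row, each impossible.
-/

set_option autoImplicit false
set_option Elab.async false
set_option maxRecDepth 100000
set_option maxHeartbeats 4000000

namespace Cfsg.Agent.MTwentyFour.ByOrder.RowA

/-- case 22 -/
def case22 : Case :=
  ⟨(12, 2),
    [(252, 2), (45, 0), (990, 0), (990, 0), (1540, 0), (1540, 0), (3520, 0), (3840, 0), (3840, 0)], 0,
    [12817, 46592, 3604992, 3932672, 258577, 1577472, 1014272],
    []⟩

theorem case22_ok : KillOK case22 := killOK_of (by decide +kernel)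

/-- case 23 -/
def case23 : Case :=
  ⟨(12, 2),
    [(252, 2), (45, 0), (990, 0), (990, 0), (990, 0), (990, 0), (1540, 0), (3840, 0), (3840, 0)], 0,
    [12817, 46592, 3932672, 258577, 1577472, 1014272],
    []⟩

theorem case23_ok : KillOK case23 := killOK_of (by decide +kernel)

/-- case 50 -/
def case50 : Case :=
  ⟨(540, 0),
    [(252, 2), (22, 2), (528, (-2)), (528, (-2)), (3520, 0), (3520, 0), (3520, 0), (3840, 0), (10395, 0)], 0,
    [553472, 3932672, 10644992, 23057, 258577, 3604992, 541169],
    []⟩

theorem case50_ok : KillOK case50 := killOK_of (by decide +kernel)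

/-- case 73 -/
def case73 : Case :=
  ⟨(1760, 0),
    [(252, 2), (231, 1), (231, 1), (45, 0), (45, 0), (990, 0), (990, 0), (990, 0), (10395, 0)], 0,
    [46592, 10644992, 258577, 1802752, 1014272, 237066],
    []⟩

theorem case73_ok : KillOK case73 := killOK_of (by decide +kernel)

/-- case 78 -/
def case78 : Case :=
  ⟨(495, 0),
    [(252, 2), (528, (-2)), (990, 0), (990, 0), (1540, 0), (1540, 0), (3520, 0), (3840, 0), (3840, 0)], 0,
    [258577, 541169, 3604992, 1577472, 3932672, 1014272, 507392],
    []⟩

theorem case78_ok : KillOK case78 := killOK_of (by decide +kernel)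

/-- case 96 -/
def case96 : Case :=
  ⟨(495, 0),
    [(252, 2), (528, (-2)), (528, (-2)), (231, (-4)), (231, 1), (231, 1), (45, 0), (1540, 0), (3840, 0)], 0,
    [46592, 3932672, 507392, 258577, 237066, 1577472, 237025, 541170],
    []⟩

theorem case96_ok : KillOK case96 := killOK_of (by decide +kernel)

/-- case 122 -/
def case122 : Case :=
  ⟨(2772, 2),
    [(22, 2), (22, 2), (22, 2), (528, (-2)), (528, (-2)), (3520, 0), (3520, 0), (3840, 0), (10395, 0)], 0,
    [2839058, 2839057, 10644992, 3604992, 541169, 3932672, 23057, 23058, 541170],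
    []⟩

theorem case122_ok : KillOK case122 := killOK_of (by decide +kernel)

/-- case 128 -/
def case128 : Case :=
  ⟨(2772, 2),
    [(22, 2), (22, 2), (528, (-2)), (528, (-2)), (528, (-2)), (231, (-4)), (45, 0), (3520, 0), (10395, 0)], 1,
    [],
    []⟩

theorem case128_ok : KillOK case128 := killOK_of (by decide +kernel)

/-- case 130 -/
def case130 : Case :=
  ⟨(2772, 2),
    [(22, 2), (231, (-4)), (231, 1), (231, 1), (231, 1), (231, 1), (45, 0), (990, 0), (10395, 0)], 0,
    [46592, 10644992, 23057, 1014272, 2839057, 237025, 237068],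
    []⟩

theorem case130_ok : KillOK case130 := killOK_of (by decide +kernel)

/-- case 131 -/
def case131 : Case :=
  ⟨(2772, 2),
    [(22, 2), (528, (-2)), (528, (-2)), (231, (-4)), (45, 0), (990, 0), (1540, 0), (3520, 0), (10395, 0)], 1,
    [],
    []⟩

theorem case131_ok : KillOK case131 := killOK_of (by decide +kernel)

/-- case 133 -/
def case133 : Case :=
  ⟨(2772, 2),
    [(22, 2), (528, (-2)), (528, (-2)), (231, (-4)), (990, 0), (1540, 0), (1540, 0), (1540, 0), (3840, 0)], 1,
    [],
    []⟩

theorem case133_ok : KillOK case133 := killOK_of (by decide +kernel)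

/-- case 148 -/
def case148 : Case :=
  ⟨(2772, 2),
    [(5544, (-1)), (252, 2), (231, 1), (1540, 0), (1540, 0), (1540, 0), (1540, 0), (3840, 0), (3840, 0)], 1,
    [],
    []⟩

theorem case148_ok : KillOK case148 := killOK_of (by decide +kernel)

/-- case 158 -/
def case158 : Case :=
  ⟨(770, 0),
    [(5544, 4), (252, 2), (252, 2), (45, 0), (990, 0), (1540, 0), (1540, 0), (3840, 0), (3840, 0)], 1,
    [],
    []⟩

theorem case158_ok : KillOK case158 := killOK_of (by decide +kernel)

/-- case 162 -/
def case162 : Case :=
  ⟨(540, 0),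
    [(5544, 4), (252, 2), (252, 2), (22, 2), (231, 1), (231, 1), (45, 0), (45, 0), (10395, 0)], 1,
    [],
    []⟩

theorem case162_ok : KillOK case162 := killOK_of (by decide +kernel)

/-- the cases of this file -/
def casesL : List Case :=
  [case22, case23, case50, case73, case78, case96, case122, case128, case130, case131, case133, case148,
   case158, case162]

/-- they are impossible -/
theorem runL : ∀ c ∈ casesL, KillOK c := by
  intro c hc
  simp only [casesL, List.mem_cons, List.not_mem_nil, or_false] at hc
  rcases hc with rfl | rfl | rfl | rfl | rfl | rfl | rfl | rfl | rfl | rfl | rfl | rfl | rfl | rfl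
  exacts [case22_ok,
    case23_ok,
    case50_ok,
    case73_ok,
    case78_ok,
    case96_ok,
    case122_ok,
    case128_ok,
    case130_ok,
    case131_ok,
    case133_ok,
    case148_ok,
    case158_ok,
    case162_ok]

end Cfsg.Agent.MTwentyFour.ByOrder.RowA
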