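import Cfsg.Agent.Lib.Spor.MTwentyFourOrder.RowA.Check

/-!
Cases for a centraliser of order sixty with the first row, each impossible.
-/

set_option autoImplicit false
set_option Elab.async false
set_option maxRecDepth 100000
set_option maxHeartbeats 4000000

namespace Cfsg.Agent.MTwentyFour.ByOrder.RowA

/-- case 4 -/
def case4 : Case :=
  ⟨(540, 0),
    [(252, (-3)), (252, 2), (22, 2), (528, (-2)), (528, (-2)), (528, 3), (45, 0), (990, 0), (3840, 0)], 1,
    [],
    []⟩

theorem case4_ok : KillOK case4 := killOK_of (by decide +kernel)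

/-- case 19 -/
def case19 : Case :=
  ⟨(12, 2),
    [(252, 2), (45, 0), (45, 0), (1540, 0), (3520, 0), (3520, 0), (3520, 0), (3840, 0), (10395, 0)], 0,
    [12817, 46592, 258577, 3932672, 10644992, 1577472, 3604992],
    []⟩

theorem case19_ok : KillOK case19 := killOK_of (by decide +kernel)

/-- case 26 -/
def case26 : Case :=
  ⟨(12, 2),
    [(252, 2), (528, (-2)), (528, (-2)), (231, (-4)), (45, 0), (45, 0), (990, 0), (1540, 0), (3840, 0)], 0,
    [46592, 12817, 3932672, 258577, 1014272, 1577472, 237025, 541170],
    []⟩

theorem case26_ok : KillOK case26 := killOK_of (by decide +kernel)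

/-- case 27 -/
def case27 : Case :=
  ⟨(12, 2),
    [(252, 2), (22, 2), (231, 1), (231, 1), (45, 0), (1540, 0), (3520, 0), (3840, 0), (3840, 0)], 0,
    [46592, 12817, 3932672, 23057, 258577, 3604992, 237066, 1577472],
    []⟩

theorem case27_ok : KillOK case27 := killOK_of (by decide +kernel)

/-- case 36 -/
def case36 : Case :=
  ⟨(540, 0),
    [(252, 2), (22, 2), (22, 2), (528, (-2)), (528, (-2)), (528, (-2)), (45, 0), (1540, 0), (1540, 0)], 0,
    [46592, 553472, 23057, 23058, 258577, 1577472, 541169, 541170],
    []⟩

theorem case36_ok : KillOK case36 := killOK_of (by decide +kernel)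

/-- case 59 -/
def case59 : Case :=
  ⟨(495, 0),
    [(252, 2), (22, 2), (528, (-2)), (528, (-2)), (528, (-2)), (528, (-2)), (231, (-4)), (45, 0), (3840, 0)], 0,
    [46592, 3932672, 23057, 507392, 258577, 237025, 541169, 541170],
    []⟩

theorem case59_ok : KillOK case59 := killOK_of (by decide +kernel)

/-- case 60 -/
def case60 : Case :=
  ⟨(540, 0),
    [(252, 2), (22, 2), (528, (-2)), (528, (-2)), (528, (-2)), (528, (-2)), (231, (-4)), (990, 0), (3840, 0)], 1,
    [],
    []⟩

theorem case60_ok : KillOK case60 := killOK_of (by decide +kernel)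

/-- case 82 -/
def case82 : Case :=
  ⟨(540, 0),
    [(252, 2), (528, (-2)), (990, 0), (990, 0), (990, 0), (3520, 0), (3520, 0), (3840, 0), (10395, 0)], 0,
    [553472, 3932672, 10644992, 258577, 3604992, 1014272, 541169],
    []⟩

theorem case82_ok : KillOK case82 := killOK_of (by decide +kernel)

/-- case 83 -/
def case83 : Case :=
  ⟨(540, 0),
    [(252, 2), (528, (-2)), (45, 0), (1540, 0), (1540, 0), (1540, 0), (1540, 0), (1540, 0), (3520, 0)], 0,
    [46592, 553472, 258577, 3604992, 1577472, 541169],
    []⟩

theorem case83_ok : KillOK case83 := killOK_of (by decide +kernel)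

/-- case 94 -/
def case94 : Case :=
  ⟨(540, 0),
    [(252, 2), (528, (-2)), (231, (-4)), (231, 1), (231, 1), (231, 1), (231, 1), (1540, 0), (3840, 0)], 2,
    [553472, 3932672, 258577, 541169, 237068, 1577472, 237025],
    [[(1035, 0), (1035, 0), (276, 1), (483, (-2)), (736, 1)]]⟩

theorem case94_ok : KillOK case94 := killOK_of (by decide +kernel)

/-- case 100 -/
def case100 : Case :=
  ⟨(264, 4),
    [(252, 2), (528, (-2)), (528, (-2)), (231, 1), (231, 1), (45, 0), (990, 0), (1540, 0), (3840, 0)], 1,
    [],
    []⟩

theorem case100_ok : KillOK case100 := killOK_of (by decide +kernel)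

/-- case 104 -/
def case104 : Case :=
  ⟨(540, 0),
    [(252, 2), (528, (-2)), (528, (-2)), (528, (-2)), (231, (-4)), (990, 0), (990, 0), (1540, 0), (3840, 0)], 0,
    [553472, 3932672, 258577, 1014272, 1577472, 237025, 541169, 541170],
    []⟩

theorem case104_ok : KillOK case104 := killOK_of (by decide +kernel)

/-- case 132 -/
def case132 : Case :=
  ⟨(2772, 2),
    [(22, 2), (528, (-2)), (528, (-2)), (231, (-4)), (45, 0), (990, 0), (990, 0), (990, 0), (10395, 0)], 0,
    [2839057, 46592, 541170, 23057, 237025, 10644992, 1014272],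
    []⟩

theorem case132_ok : KillOK case132 := killOK_of (by decide +kernel)

/-- case 155 -/
def case155 : Case :=
  ⟨(540, 0),
    [(5544, 4), (252, 2), (252, 2), (45, 0), (45, 0), (990, 0), (990, 0), (1540, 0), (10395, 0)], 1,
    [],
    []⟩

theorem case155_ok : KillOK case155 := killOK_of (by decide +kernel)

/-- the cases of this file -/
def casesM : List Case :=
  [case4, case19, case26, case27, case36, case59, case60, case82, case83, case94, case100, case104, case132,
   case155]

/-- they are impossible -/
theorem runM : ∀ c ∈ casesM, KillOK c := by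
  intro c hc
  simp only [casesM, List.mem_cons, List.not_mem_nil, or_false] at hc
  rcases hc with rfl | rfl | rfl | rfl | rfl | rfl | rfl | rfl | rfl | rfl | rfl | rfl | rfl | rfl
  exacts [case4_ok,
    case19_ok,
    case26_ok,
    case27_ok,
    case36_ok,
    case59_ok,
    case60_ok,
    case82_ok,
    case83_ok,
    case94_ok,
    case100_ok,
    case104_ok,
    case132_ok,
    case155_ok]

end Cfsg.Agent.MTwentyFour.ByOrder.RowA
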