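import Cfsg.Agent.Lib.Spor.MTwentyFourOrder.RowA.Check

/-!
Cases for a centraliser of order sixty with the first row, each impossible.
-/

set_option autoImplicit false
set_option Elab.async false
set_option maxRecDepth 100000
set_option maxHeartbeats 4000000

namespace Cfsg.Agent.MTwentyFour.ByOrder.RowA

/-- case 0 -/
def case0 : Case :=
  ⟨(12, 2),
    [(252, (-3)), (252, 2), (528, 3), (45, 0), (3520, 0), (3520, 0), (3840, 0), (3840, 0), (3840, 0)], 1,
    [],
    []⟩

theorem case0_ok : KillOK case0 := killOK_of (by decide +kernel)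

/-- case 8 -/
def case8 : Case :=
  ⟨(540, 0),
    [(252, (-3)), (252, 2), (528, (-2)), (528, 3), (45, 0), (45, 0), (3520, 0), (3520, 0), (10395, 0)], 1,
    [],
    []⟩

theorem case8_ok : KillOK case8 := killOK_of (by decide +kernel)

/-- case 14 -/
def case14 : Case :=
  ⟨(1760, 0),
    [(252, (-3)), (252, 2), (528, (-2)), (528, 3), (45, 0), (990, 0), (990, 0), (3840, 0), (3840, 0)], 0,
    [46592, 1802752, 3932672, 258577, 258537, 1014272, 541169, 541209],
    []⟩

theorem case14_ok : KillOK case14 := killOK_of (by decide +kernel)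

/-- case 38 -/
def case38 : Case :=
  ⟨(1760, 0),
    [(252, 2), (22, 2), (22, 2), (528, (-2)), (528, (-2)), (528, (-2)), (45, 0), (1540, 0), (3840, 0)], 0,
    [46592, 258577, 541169, 541170, 3932672, 23057, 23058, 1577472, 1802752],
    []⟩

theorem case38_ok : KillOK case38 := killOK_of (by decide +kernel)

/-- case 39 -/
def case39 : Case :=
  ⟨(495, 0),
    [(252, 2), (22, 2), (231, 1), (231, 1), (231, 1), (231, 1), (990, 0), (3840, 0), (3840, 0)], 0,
    [237066, 258577, 507392, 1014272, 3932672, 23057],
    []⟩

theorem case39_ok : KillOK case39 := killOK_of (by decide +kernel)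

/-- case 44 -/
def case44 : Case :=
  ⟨(770, 0),
    [(252, 2), (22, 2), (528, (-2)), (231, 1), (231, 1), (45, 0), (990, 0), (1540, 0), (3840, 0)], 0,
    [46592, 3932672, 258577, 23057, 541169, 237066, 1014272, 788992, 1577472],
    []⟩

theorem case44_ok : KillOK case44 := killOK_of (by decide +kernel)

/-- case 48 -/
def case48 : Case :=
  ⟨(495, 0),
    [(252, 2), (22, 2), (528, (-2)), (528, (-2)), (990, 0), (990, 0), (990, 0), (3840, 0), (3840, 0)], 0,
    [23057, 258577, 541169, 507392, 1014272, 3932672],
    []⟩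

theorem case48_ok : KillOK case48 := killOK_of (by decide +kernel)

/-- case 69 -/
def case69 : Case :=
  ⟨(770, 0),
    [(252, 2), (231, 1), (231, 1), (45, 0), (45, 0), (990, 0), (990, 0), (3520, 0), (10395, 0)], 2,
    [46592, 10644992, 258577, 3604992, 1014272, 788992, 237066],
    [[(1035, 0), (483, (-2)), (483, 3), (1288, 3), (1288, 3), (3312, (-3))],
     [(230, 0), (1035, 0), (1035, 0), (483, (-2)), (1288, 3), (3312, (-3))],
     [(230, 0), (1035, 0), (4830, 0), (483, (-2)), (483, 3), (1288, 3)],
     [(230, 0), (4830, 0), (483, (-2)), (736, (-4)), (1288, (-2)), (1288, (-2))],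
     [(230, 0), (1035, 0), (4830, 0), (483, (-2)), (483, (-2)), (1288, (-2))],
     [(230, 0), (230, 0), (1035, 0), (1035, 0), (4830, 0), (483, (-2))]]⟩

theorem case69_ok : KillOK case69 := killOK_of (by decide +kernel)

/-- case 76 -/
def case76 : Case :=
  ⟨(495, 0),
    [(252, 2), (528, (-2)), (45, 0), (990, 0), (990, 0), (3520, 0), (3520, 0), (3840, 0), (10395, 0)], 0,
    [258577, 541169, 46592, 507392, 1014272, 3604992, 3932672, 10644992],
    []⟩

theorem case76_ok : KillOK case76 := killOK_of (by decide +kernel)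

/-- case 97 -/
def case97 : Case :=
  ⟨(540, 0),
    [(252, 2), (528, (-2)), (528, (-2)), (231, (-4)), (231, 1), (231, 1), (990, 0), (1540, 0), (3840, 0)], 2,
    [553472, 3932672, 258577, 1014272, 541170, 1577472, 237066, 237025],
    [[(1035, 0), (1035, 0), (276, 1), (483, (-2)), (736, 1)]]⟩

theorem case97_ok : KillOK case97 := killOK_of (by decide +kernel)

/-- case 113 -/
def case113 : Case :=
  ⟨(2772, (-3)),
    [(252, (-3)), (252, 2), (22, 2), (528, (-2)), (528, (-2)), (45, 0), (990, 0), (3840, 0), (3840, 0)], 1,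
    [],
    []⟩

theorem case113_ok : KillOK case113 := killOK_of (by decide +kernel)

/-- case 137 -/
def case137 : Case :=
  ⟨(2772, 2),
    [(252, (-3)), (22, 2), (528, 3), (45, 0), (45, 0), (990, 0), (1540, 0), (3520, 0), (10395, 0)], 1,
    [],
    []⟩

theorem case137_ok : KillOK case137 := killOK_of (by decide +kernel)

/-- case 147 -/
def case147 : Case :=
  ⟨(2772, 2),
    [(5544, (-1)), (252, 2), (22, 2), (528, (-2)), (231, 1), (45, 0), (990, 0), (3840, 0), (10395, 0)], 1,
    [],
    []⟩

theorem case147_ok : KillOK case147 := killOK_of (by decide +kernel)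

/-- case 156 -/
def case156 : Case :=
  ⟨(540, 0),
    [(5544, 4), (252, 2), (252, 2), (45, 0), (1540, 0), (1540, 0), (1540, 0), (1540, 0), (3840, 0)], 1,
    [],
    []⟩

theorem case156_ok : KillOK case156 := killOK_of (by decide +kernel)

/-- case 167 -/
def case167 : Case :=
  ⟨(540, 0),
    [(5544, 4), (252, 2), (252, 2), (528, (-2)), (528, (-2)), (231, (-4)), (1540, 0), (3840, 0), (3840, 0)], 1,
    [],
    []⟩

theorem case167_ok : KillOK case167 := killOK_of (by decide +kernel)

/-- the cases of this file -/
def casesN : List Case :=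
  [case0, case8, case14, case38, case39, case44, case48, case69, case76, case97, case113, case137, case147,
   case156, case167]

/-- they are impossible -/
theorem runN : ∀ c ∈ casesN, KillOK c := by
  intro c hc
  simp only [casesN, List.mem_cons, List.not_mem_nil, or_false] at hc
  rcases hc with rfl | rfl | rfl | rfl | rfl | rfl | rfl | rfl | rfl | rfl | rfl | rfl | rfl | rfl | rfl
  exacts [case0_ok,
    case8_ok,
    case14_ok,
    case38_ok,
    case39_ok,
    case44_ok,
    case48_ok,
    case69_ok,
    case76_ok,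
    case97_ok,
    case113_ok,
    case137_ok,
    case147_ok,
    case156_ok,
    case167_ok]

end Cfsg.Agent.MTwentyFour.ByOrder.RowA
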