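import Cfsg.Agent.Lib.Spor.MTwentyFourOrder.RowA.RunA
import Cfsg.Agent.Lib.Spor.MTwentyFourOrder.RowA.RunB
import Cfsg.Agent.Lib.Spor.MTwentyFourOrder.RowA.RunC
import Cfsg.Agent.Lib.Spor.MTwentyFourOrder.RowA.RunD
import Cfsg.Agent.Lib.Spor.MTwentyFourOrder.RowA.RunE
import Cfsg.Agent.Lib.Spor.MTwentyFourOrder.RowA.RunF
import Cfsg.Agent.Lib.Spor.MTwentyFourOrder.RowA.RunG
import Cfsg.Agent.Lib.Spor.MTwentyFourOrder.RowA.RunH
import Cfsg.Agent.Lib.Spor.MTwentyFourOrder.RowA.RunI
import Cfsg.Agent.Lib.Spor.MTwentyFourOrder.RowA.RunJ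
import Cfsg.Agent.Lib.Spor.MTwentyFourOrder.RowA.RunK
import Cfsg.Agent.Lib.Spor.MTwentyFourOrder.RowA.RunL
import Cfsg.Agent.Lib.Spor.MTwentyFourOrder.RowA.RunM
import Cfsg.Agent.Lib.Spor.MTwentyFourOrder.RowA.RunN
import Cfsg.Agent.Lib.Spor.MTwentyFourOrder.FiveSideTableTwelve

/-!
All cases for a centraliser of order sixty with the first row, impossible and covering the lists.
-/

set_option autoImplicit false
set_option maxRecDepth 100000
set_option maxHeartbeats 2000000

namespace Cfsg.Agent.MTwentyFour.ByOrder.RowA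

/-- all cases -/
def allCases : List Case :=
  casesA ++
    casesB ++
    casesC ++
    casesD ++
    casesE ++
    casesF ++
    casesG ++
    casesH ++
    casesI ++
    casesJ ++
    casesK ++
    casesL ++
    casesM ++
    casesN

theorem all_killed : ∀ c ∈ allCases, KillOK c := by
  intro c hc
  simp only [allCases, List.mem_append] at hc
  rcases hc with ((((((((((((hc | hc) | hc) | hc) | hc) | hc) | hc) | hc) | hc) | hc) | hc) | hc) | hc) | hc
  exacts [runA c hc, runB c hc, runC c hc, runD c hc, runE c hc, runF c hc, runG c hc, runH c hc, runI c hc, runJ c hc, runK c hc, runL c hc, runM c hc, runN c hc]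

theorem all_five : allCases.all (fun c => c.xs.all fun a => decide (a.1 % 5 = 0) || decide (c.xs.count a ≤ 5)) = true := by
  decide +kernel

theorem all_covered : FiveSide.survTwelve.all (listCases allCases) = true := by
  decide +kernel

end Cfsg.Agent.MTwentyFour.ByOrder.RowA
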