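import Cfsg.Agent.Lib.Spor.MTwentyFourOrder.RowA.Tables
import Cfsg.Agent.Lib.Spor.MTwentyFourOrder.FiveSideTableTwelve
import Cfsg.Agent.Lib.Spor.MTwentyFourOrder.FiveSideZedArith

/-!
The checks for a centraliser of order sixty with the first row: the orbits in the block of twenty-three, the values at
the involution there, the members outside it, and the blocks of five and seven on what results.
-/

set_option autoImplicit false
set_option maxRecDepth 100000

namespace Cfsg.Agent.MTwentyFour.ByOrder.RowA

open Cfsg.Agent.MTwentyFour.ByOrder.ThreeCase (s11 c23 nd ordM arrange wt)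
open Cfsg.Agent.MTwentyFour.ByOrder.FiveSide (Pr fills gfive pick sufAll reqOf subBag tblTwelve)

/-- the exceptional degrees at twenty-three -/
def isExc (d : ℕ) : Bool := d % 23 == 11 || d % 23 == 12

/-- members under one name: a Galois orbit of `n` members, or one member of degree divisible by five with `n` zero -/
structure Ent where
  d : ℕ
  f : ℤ
  n : ℕ
deriving DecidableEq

/-- the number of members under the name -/
def Ent.w (e : Ent) : ℕ := if isExc e.d then 2 else if e.n = 0 then 1 else e.n

/-- a number for a name -/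
def Ent.enc (e : Ent) : ℕ := e.d * 1024 + (e.f + 64).toNat * 8 + e.n

/-- the sorted lists of one, two and four with a given sum -/
def partsOf : ℕ → List (List ℕ)
  | 1 => [[1]]
  | 2 => [[1, 1], [2]]
  | 3 => [[1, 1, 1], [1, 2]]
  | 4 => [[1, 1, 1, 1], [1, 1, 2], [2, 2], [4]]
  | 5 => [[1, 1, 1, 1, 1], [1, 1, 1, 2], [1, 2, 2], [1, 4]]
  | _ => []

/-- the ways to name the ordinary members prime to five -/
def shapesX (w1 : List Pr) : List Pr → List (List Ent)
  | [] => [[]]
  | a :: as => (partsOf (w1.count a)).flatMap fun p => (shapesX w1 as).map fun s => p.map (Ent.mk a.1 a.2) ++ s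

/-- the members with the number of their conjugates -/
def tagged (s : List Ent) : List (Pr × ℕ) := s.flatMap fun e => List.replicate e.w ((e.d, e.f), e.n)

/-- every member has partners in a block of five with the numbers of conjugates that the values demand -/
def coveredT (s : List Ent) : Bool :=
  s.all fun e => decide (e.n = 0) || (reqOf tblTwelve (e.d, e.f)).any fun r =>
    subBag (((e.d, e.f), e.n) :: r.map fun y => (y, e.n * e.f.natAbs / y.2.natAbs)) (tagged s)

/-- the shapes of the block of twenty-three -/
def shapesOf (g : Pr) (xs : List Pr) : List (List Ent) :=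
  let w1 := xs.filter fun a => a.1 % 5 != 0
  let five := (xs.filter fun a => a.1 % 5 == 0).map fun a => Ent.mk a.1 a.2 0
  let gs := if g.1 % 5 = 0 then [[Ent.mk g.1 g.2 0]] else [[Ent.mk g.1 g.2 1], [Ent.mk g.1 g.2 2]]
  ((shapesX w1 w1.dedup).flatMap fun s => gs.map fun t => t ++ s ++ five).filter coveredT

/-- a table at a number, or the given value -/
def tget {β : Type} : List (ℕ × β) → ℕ → β → β
  | [], _, dflt => dflt
  | (k, v) :: t, a, dflt => if k = a then v else tget t a dflt

/-- the values at the involution -/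
def zget (C d : ℕ) : List ℤ := tget (tget zTab C []) d (ThreeCase.zopts C d)

/-- the residues allowed for a value and a number of conjugates -/
def rget : List ((ℤ × ℕ) × List ℕ) → ℤ → ℕ → List ℕ
  | [], _, _ => [0, 1, 2, 3, 4]
  | ((f', n'), l) :: t, f, n => if f' = f ∧ n' = n then l else rget t f n

/-- the values at the involution under a name -/
def entOpts (C : ℕ) (bud : ℤ) (e : Ent) : List ℤ :=
  let rs := if e.n = 0 then [0, 1, 2, 3, 4] else rget resTab e.f e.n
  (zget C e.d).filter fun x => decide ((e.w : ℤ) * (x * x) ≤ bud) && rs.contains (x % 5).toNat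

/-- the coefficient of a name at twenty-three -/
def Ent.c (e : Ent) : ℤ := if isExc e.d then c23 e.d else c23 e.d * (e.w : ℤ)

/-- the places of the block of twenty-three -/
def entRaws (C : ℕ) (bud : ℤ) : ℕ → List Ent → List Raw
  | _, [] => []
  | prev, e :: es =>
    ⟨entOpts C bud e, e.c, e.c * nd e.d, e.c * nd e.d * e.f, (e.w : ℤ), decide (prev = e.enc)⟩ ::
      entRaws C bud e.enc es

/-- the known members of the row, with the trivial character -/
def known (zs : List ℤ) : List Mb :=
  [⟨1, 1, 1⟩, ⟨1771, 1, zs.getD 0 0⟩, ⟨2024, -1, zs.getD 1 0⟩, ⟨5544, -1, zs.getD 2 0⟩, ⟨5796, 1, zs.getD 3 0⟩]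

/-- the known members with no value at the involution -/
def known0 : List Mb := [⟨1, 1, 0⟩, ⟨1771, 1, 0⟩, ⟨2024, -1, 0⟩, ⟨5544, -1, 0⟩, ⟨5796, 1, 0⟩]

/-- the members under the names -/
def expandE (es : List Ent) (zs : List ℤ) : List Mb :=
  (es.zip zs).flatMap fun a => List.replicate a.1.w ⟨a.1.d, a.1.f, a.2⟩

/-- the sum over a list -/
def sumOn (g : Mb → ℤ) (P : List Mb) : ℤ := P.foldr (fun a s => g a + s) 0

/-- what the members leave of the inner products of the columns at eleven, one, five and two -/
def gramFour (C : ℕ) (P : List Mb) : List (List ℤ) :=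
  forceI (-sumOn (fun a => s11 a.d * a.d) P / 23) fun m01 => forceI (-sumOn (fun a => s11 a.d * a.f) P) fun m02 =>
  forceI (-sumOn (fun a => s11 a.d * a.z) P) fun m03 =>
  forceI (-sumOn (fun a => (a.d : ℤ) * a.f) P / 23) fun m12 => forceI (-sumOn (fun a => (a.d : ℤ) * a.z) P / 23) fun m13 =>
  forceI (-sumOn (fun a => a.f * a.z) P) fun m23 =>
    [[11 - sumOn (fun a => s11 a.d * s11 a.d) P, m01, m02, m03],
     [m01, ((ordM : ℤ) - sumOn (fun a => (a.d : ℤ) * a.d) P) / 529, m12, m13],
     [m02, m12, 60 - sumOn (fun a => a.f * a.f) P, m23],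
     [m03, m13, m23, (C : ℤ) - sumOn (fun a => a.z * a.z) P]]

/-- the budgets of the members outside the three blocks -/
def budOf (C : ℕ) (P : List Mb) : Bud :=
  ⟨((ordM : ℤ) - sumOn (fun a => (a.d : ℤ) * a.d) P) / 64009, 60 - sumOn (fun a => a.f * a.f) P,
    (C : ℤ) - sumOn (fun a => a.z * a.z) P⟩

/-- what all three blocks leave of the inner products -/
def gramThree (C : ℕ) (P : List Mb) : List (List ℤ) :=
  forceI (-sumOn (fun a => (a.d : ℤ) * a.f) P / 253) fun m01 => forceI (-sumOn (fun a => (a.d : ℤ) * a.z) P / 253) fun m02 =>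
  forceI (-sumOn (fun a => a.f * a.z) P) fun m12 =>
    [[(budOf C P).Q, m01, m02], [m01, (budOf C P).R, m12], [m02, m12, (budOf C P).Z]]

/-- the blocks looked for -/
def checks : List (ℕ × ℕ) :=
  [(5, 252), (5, 3312), (7, 495), (5, 1288), (7, 1), (5, 1242), (7, 990), (7, 2760), (5, 736), (5, 483), (5, 5796),
    (5, 2772), (7, 45), (5, 8832), (5, 231), (5, 528), (5, 276), (5, 12), (5, 22)]

/-- some member has no block -/
def situDead (C : ℕ) (P cs : List Mb) : Bool :=
  forceP P fun P => forceP cs fun cs =>
  let B := budOf C P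
  forceI B.Q fun q => forceI B.R fun r => forceI B.Z fun z =>
    checks.any fun pd => decide (pd.2 % pd.1 ≠ 0) &&
      ((if pd.1 = 5 then cs else P).filter fun x => decide (x.d = pd.2)).dedup.any fun x =>
        !blockB pd.1 P x wTypes ⟨q, r, z⟩

/-- a case: the block of twenty-three, the kind of argument, the order of search, and the completions left -/
structure Case where
  g : Pr
  xs : List Pr
  mode : ℕ
  ord : List ℕ
  tab : List (List Pr)

/-- the members of the block of twenty-three with no value at the involution -/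
def blockMbs (g : Pr) (xs : List Pr) : List Mb := [⟨g.1, g.2, 0⟩, ⟨g.1, g.2, 0⟩] ++ xs.map fun a => ⟨a.1, a.2, 0⟩

/-- the checked first step: all values at the involution on one shape pass -/
def xMeet (ord : List ℕ) (s : List Ent) (t : ℕ × List ℤ) (k : List Mb → Bool) : Bool :=
  let es := arrange Ent.enc ord s
  let C := t.1
  let z2 := t.2.getD 2 0
  decide ord.Nodup && (s.all fun e => ord.contains e.enc) &&
    forceI ((C : ℤ) - sumOn (fun a => a.z * a.z) (known t.2)) fun bud =>
      meet ((60 * C : ℕ) : ℤ) bud (entRaws C bud 0 es) (1 + z2) ((ordM : ℤ) + nd 5544 * (z2 * z2))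
        ((ordM : ℤ) - nd 5544 * z2) fun zs =>
          !psd 4 (gramFour C (known t.2 ++ expandE es zs)) || k (known t.2 ++ expandE es zs)

/-- all shapes and all local values pass -/
def xAll (c : Case) (k : ℕ → List Mb → Bool) : Bool :=
  (shapesOf c.g c.xs).all fun s => tuples.all fun t => xMeet c.ord s t (k t.1)

/-- the members of the principal block of eleven known at the start -/
def knownY (g : Pr) (xs : List Pr) : List Pr :=
  [(1, 1), (5796, 1)] ++ (if g.1 % 11 = 0 then [] else [g, g]) ++ xs.filter fun a => a.1 % 11 != 0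

/-- the places of degree prime to five outside the block of twenty-three -/
structure Y5 where
  a : Pr
  cf : ℤ
  qq : ℤ
  ff : ℤ
  gs : ℤ

/-- the places, evaluated -/
def yFiveP : List Y5 :=
  yFive.map fun t => ⟨(t.1, t.2.1), s11 t.1 * t.2.1, s11 t.1 * nd t.1 * (t.2.1 * t.2.1), t.2.1 * t.2.1, t.2.2⟩

/-- the divisor of what is to come -/
def gsOf : List Y5 → ℤ
  | [] => 3600
  | y :: _ => y.gs

/-- all completions by members prime to five pass -/
def y5Go : ℕ → List Y5 → ℤ → ℤ → ℤ → List Pr → (ℕ → List Pr → Bool) → Bool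
  | 0, _, _, l, q, acc, k => !(decide (l = 0) && decide (0 ≤ q) && decide (q % 3600 = 0)) || k 0 acc
  | n + 1, cs, b, l, q, acc, k =>
    decide (q % gsOf cs ≠ 0) ||
      (!(decide (l = 0) && decide (0 ≤ q) && decide (q % 3600 = 0)) || k (n + 1) acc) &&
        sufAll (fun y rest => decide (b < y.ff) || decide ((n : ℤ) * (b - y.ff) < (l + y.cf) * (l + y.cf)) ||
          forceI (b - y.ff) fun b' => forceI (l + y.cf) fun l' => forceI (q + y.qq) fun q' =>
            y5Go n rest b' l' q' (y.a :: acc) k) cs

/-- all completions by members of degree divisible by five pass -/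
def y0Go : ℕ → List ℕ → ℤ → ℤ → List Pr → (List Pr → Bool) → Bool
  | 0, _, l, _, acc, k => decide (l ≠ 0) || k acc
  | n + 1, cs, l, sq, acc, k =>
    sufAll (fun d rest => forceI (l + s11 d * (d : ℤ)) fun l' => forceI (sq - (d : ℤ) * (d : ℤ)) fun sq' =>
      decide (sq' < (n : ℤ) * 52900) || decide ((n : ℤ) * 12880 < l') || decide (l' < -((n : ℤ) * 12880)) ||
        y0Go n rest l' sq' ((d, 0) :: acc) k) cs

/-- all members outside the block of twenty-three with value at eleven not zero pass -/
def yAll (g : Pr) (xs : List Pr) (k : List Pr → Bool) : Bool :=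
  let kn := knownY g xs
  let base := known0 ++ blockMbs g xs
  decide (11 < kn.length) ||
    forceI (60 - sumOn (fun a => a.f * a.f) base) fun b =>
    forceI ((kn.map fun a => s11 a.1 * a.2).sum) fun lf =>
    forceI ((kn.map fun a => s11 a.1 * nd a.1 * (a.2 * a.2)).sum) fun qf =>
    forceI ((kn.map fun a => s11 a.1 * (a.1 : ℤ)).sum) fun l0 =>
    forceI ((ordM : ℤ) - sumOn (fun a => (a.d : ℤ) * a.d) base) fun sq0 =>
    forceI (sumOn (fun a => (a.d : ℤ) * a.f) base) fun df0 =>
      y5Go (11 - kn.length) yFiveP b lf qf [] fun m p5 =>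
        forceI (l0 + (p5.map fun a => s11 a.1 * (a.1 : ℤ)).sum) fun l =>
        forceI (sq0 - (p5.map fun a => (a.1 : ℤ) * (a.1 : ℤ)).sum) fun sq =>
          y0Go m yZero l sq p5 fun yy =>
            let r := sq0 - (yy.map fun a => (a.1 : ℤ) * (a.1 : ℤ)).sum
            let dd := df0 + (yy.map fun a => (a.1 : ℤ) * a.2).sum
            !(decide (0 ≤ r) && decide (r % 64009 = 0) && decide (dd % 253 = 0) &&
              decide (dd / 253 * (dd / 253) ≤ r / 64009 * (b - (yy.map fun a => a.2 * a.2).sum))) || k yy

/-- the members as without values at the involution -/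
def yMbs (yy : List Pr) : List Mb := yy.map fun a => ⟨a.1, a.2, 0⟩

/-- a completion is impossible or among those left -/
def killY (c : Case) : Bool :=
  yAll c.g c.xs fun yy =>
    let P := known0 ++ blockMbs c.g c.xs ++ yMbs yy
    situDead 0 P (blockMbs c.g c.xs ++ yMbs yy) || c.tab.contains yy

/-- a number for a pair -/
def encP (a : Pr) : ℕ := a.1 * 128 + (a.2 + 64).toNat

/-- the order of search outside the block of twenty-three -/
def yOrd : List ℕ :=
  [1648704, 1589824, 942144, 618304, 353344, 132544, 29504, 1978438, 1978433, 1978428, 1130567, 1130557,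
    1130562, 741953, 741948, 741958, 424007, 424002, 423997, 164931, 164926, 164921, 159037, 94278, 94273,
    94268, 61891, 61886, 61881, 35398, 35393, 35388]

/-- the values at the involution of a member outside the block of twenty-three, among so many of its kind -/
def yOpts (C : ℕ) (bud : ℤ) (a : Pr) (m : ℕ) : List ℤ :=
  (zget C a.1).filter fun x => decide (x * x ≤ bud) && (decide (a.1 % 5 = 0) ||
    [1, 2, 4].any fun n : ℕ => decide (n ≤ m) && (rget resTab a.2 n).contains (x % 5).toNat)

/-- the places outside the block of twenty-three -/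
def yRaws (C : ℕ) (bud : ℤ) (all : List Pr) : ℕ → List Pr → List Raw
  | _, [] => []
  | prev, a :: as =>
    ⟨yOpts C bud a (all.count a), s11 a.1, s11 a.1 * nd a.1, s11 a.1 * nd a.1 * a.2, 1, decide (prev = encP a)⟩ ::
      yRaws C bud all (encP a) as

/-- the whole column is impossible for these members outside the block of twenty-three -/
def yMeet (yy : List Pr) (C : ℕ) (P : List Mb) : Bool :=
  let es := arrange encP yOrd yy
  forceI ((C : ℤ) - sumOn (fun a => a.z * a.z) P) fun bud =>
    meet ((60 * C : ℕ) : ℤ) bud (yRaws C bud es 0 es) (sumOn (fun a => s11 a.d * a.z) P)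
      (sumOn (fun a => s11 a.d * nd a.d * (a.z * a.z)) P - 11 * (C : ℤ) * (C : ℤ))
      (sumOn (fun a => s11 a.d * nd a.d * (a.f * a.z)) P) fun zs =>
        let ys := (es.zip zs).map fun a => (⟨a.1.1, a.1.2, a.2⟩ : Mb)
        !psd 3 (gramThree C (P ++ ys)) || situDead C (P ++ ys) (P.drop 5 ++ ys)

/-- the values at the involution are impossible with each of the given members outside the block -/
def xPart (c : Case) (l : List (List Pr)) : Bool := xAll c fun C P => l.all fun yy => yMeet yy C P

/-- the case is impossible -/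
def killCase (c : Case) : Bool :=
  if c.mode = 0 then xAll c fun _ _ => false else killY c && (c.tab.isEmpty || xPart c c.tab)

/-- what shows a case impossible -/
def KillOK (c : Case) : Prop :=
  xAll c (fun _ _ => false) = true ∨ killY c = true ∧ ∀ yy ∈ c.tab, ∃ l, yy ∈ l ∧ xPart c l = true

theorem killOK_of {c : Case} (h : killCase c = true) : KillOK c := by
  unfold killCase at h
  split_ifs at h with hm
  · exact Or.inl h
  · simp only [Bool.and_eq_true, Bool.or_eq_true, List.isEmpty_iff] at h
    refine Or.inr ⟨h.1, fun yy hy => ⟨c.tab, hy, h.2.resolve_left fun e => ?_⟩⟩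
    rw [e] at hy
    exact List.not_mem_nil hy

/-- the exceptional degree with the degrees of the members of degree divisible by five -/
def rowCase (L : List Pr) (gl fl : List ℕ) : Pr × List Pr :=
  ((L.filter fun x => decide (wt x.1 = 2)).getD 0 (gl.getD 0 0, 0),
    (L.filter fun x => decide (wt x.1 = 1)) ++ fl.map fun d => (d, 0))

/-- the conditions on the degrees -/
def degA (L : List Pr) : Bool :=
  decide (5545 + (L.map fun x => c23 x.1 * (x.1 : ℤ)).sum = 0) &&
    decide ((L.map fun x => wt x.1 * ((x.1 : ℤ) * x.1)).sum ≤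
      (ordM : ℤ) - (1 + 1771 * 1771 + 2024 * 2024 + 5544 * 5544 + 5796 * 5796))

/-- every completion of the list is a case of the table -/
def listCases (tab : List Case) (L : List Pr) : Bool :=
  (if L.any (fun x => decide (wt x.1 = 2)) then [[]] else gfive.map fun g => [g]).all fun gl =>
    pick (9 - (L.filter fun x => decide (wt x.1 = 1)).length) fills [] fun fl =>
      !degA (L ++ (gl ++ fl).map fun d => (d, (0 : ℤ))) ||
        tab.any fun c => decide (c.g = (rowCase L gl fl).1) && decide (c.xs = (rowCase L gl fl).2)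

end Cfsg.Agent.MTwentyFour.ByOrder.RowA
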