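import Cfsg.Agent.Lib.Spor.MTwentyFourOrder.RowA.Check
import Cfsg.Agent.Lib.Spor.MTwentyFourOrder.RowA.BlockSound
import Cfsg.Agent.Lib.Spor.MTwentyFourOrder.ThreeCase.Sound

/-!
The checks for a centraliser of order sixty with the first row find every column that is possible.
-/

set_option autoImplicit false
set_option maxRecDepth 100000
set_option maxHeartbeats 2000000

namespace Cfsg.Agent.MTwentyFour.ByOrder.RowA

open Cfsg.Agent.MTwentyFour.ByOrder.ThreeCase (s11 c23 nd ordM arrange arrange_perm arrange_pairwise)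
open Cfsg.Agent.MTwentyFour.ByOrder.FiveSide (Pr sufAll reqOf tblTwelve subBag subBag_of_le le_of_subBag)

/-- the sum over a multiset of members -/
def msum (g : Mb → ℤ) (S : Multiset Mb) : ℤ := (S.map g).sum

theorem sumOn_eq (g : Mb → ℤ) : ∀ P : List Mb, sumOn g P = msum g (P : Multiset Mb)
  | [] => rfl
  | a :: P => by
    have := sumOn_eq g P
    simp only [sumOn, msum, List.foldr_cons, ← Multiset.cons_coe, Multiset.map_cons, Multiset.sum_cons] at this ⊢
    rw [this]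

theorem msum_add (g : Mb → ℤ) (A B : Multiset Mb) : msum g (A + B) = msum g A + msum g B := by
  simp [msum]

theorem msum_zero {g : Mb → ℤ} {S : Multiset Mb} (h : ∀ a ∈ S, g a = 0) : msum g S = 0 :=
  Multiset.sum_eq_zero fun v hv => by obtain ⟨a, ha, rfl⟩ := Multiset.mem_map.1 hv; exact h a ha

theorem msum_sq_nonneg (g : Mb → ℤ) (S : Multiset Mb) : 0 ≤ msum (fun a => g a * g a) S :=
  Multiset.sum_nonneg fun v hv => by obtain ⟨x, -, rfl⟩ := Multiset.mem_map.1 hv; exact mul_self_nonneg _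

/-- the sums over all characters -/
structure Whole (C : ℕ) (S : Multiset Mb) : Prop where
  sd : msum (fun a => (a.d : ℤ) * a.d) S = (ordM : ℤ)
  ud : msum (fun a => s11 a.d * a.d) S = 0
  uu : msum (fun a => s11 a.d * s11 a.d) S = 11
  uf : msum (fun a => s11 a.d * a.f) S = 0
  uz : msum (fun a => s11 a.d * a.z) S = 0
  df : msum (fun a => (a.d : ℤ) * a.f) S = 0
  dz : msum (fun a => (a.d : ℤ) * a.z) S = 0
  ff : msum (fun a => a.f * a.f) S = 60
  fz : msum (fun a => a.f * a.z) S = 0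
  zz : msum (fun a => a.z * a.z) S = (C : ℤ)
  qf : msum (fun a => s11 a.d * nd a.d * (a.f * a.f)) S % 3600 = 0 ∧
    0 ≤ msum (fun a => s11 a.d * nd a.d * (a.f * a.f)) S
  qz : msum (fun a => s11 a.d * nd a.d * (a.z * a.z)) S = 11 * (C : ℤ) * (C : ℤ)
  mz : msum (fun a => s11 a.d * nd a.d * (a.f * a.z)) S % ((60 * C : ℕ) : ℤ) = 0 ∧
    0 ≤ msum (fun a => s11 a.d * nd a.d * (a.f * a.z)) S

/-- dividing what a sum leaves -/
theorem rem_div {a b : ℤ} (n : ℤ) (hn : n ≠ 0) (h : a = n * b) : a / n = b := by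
  rw [h, Int.mul_ediv_cancel_left _ hn]

theorem gramFour_psd {C : ℕ} {P : List Mb} {U : Multiset Mb} (W : Whole C ((P : Multiset Mb) + U))
    (hU : ∀ a ∈ U, a.d % 23 = 0) : psd 4 (gramFour C P) = true := by
  let g : List (Mb → ℤ) :=
    [fun a => s11 a.d, fun a => ((a.d / 23 : ℕ) : ℤ), fun a => a.f, fun a => a.z]
  have hd : ∀ a ∈ U, (a.d : ℤ) = 23 * ((a.d / 23 : ℕ) : ℤ) := fun a ha => by have := hU a ha; omega
  have e23 : ∀ h : Mb → ℤ, msum (fun a => (a.d : ℤ) * h a) U = 23 * msum (fun a => ((a.d / 23 : ℕ) : ℤ) * h a) U := by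
    intro h
    rw [msum, msum, ← Multiset.sum_map_mul_left]
    exact congrArg _ (Multiset.map_congr rfl fun a ha => by rw [hd a ha]; ring_nf)
  have sym : ∀ g h : Mb → ℤ, msum (fun a => g a * h a) U = msum (fun a => h a * g a) U := fun g h =>
    congrArg _ (Multiset.map_congr rfl fun a _ => mul_comm _ _)
  obtain ⟨w1, w2, w3, w4, w5, w6, w7, w8, w9, w10, -, -, -⟩ := W
  simp only [msum_add, ← sumOn_eq] at w1 w2 w3 w4 w5 w6 w7 w8 w9 w10
  have hdd : msum (fun a => (a.d : ℤ) * a.d) U =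
      529 * msum (fun a => ((a.d / 23 : ℕ) : ℤ) * ((a.d / 23 : ℕ) : ℤ)) U := by
    rw [e23, sym, e23]; ring
  have hud : msum (fun a => s11 a.d * a.d) U = 23 * msum (fun a => ((a.d / 23 : ℕ) : ℤ) * s11 a.d) U := by
    rw [sym, e23]
  rw [e23] at w6 w7
  rw [hdd] at w1
  rw [hud] at w2
  refine psd_sound U g 1 _ one_pos ?_
  simp only [gramFour, forceI_eq, gramOf, g, List.map_cons, List.map_nil, one_mul, List.cons.injEq, and_true]
  simp only [← show ∀ h : Mb → ℤ, msum h U = (Multiset.map h U).sum from fun _ => rfl,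
    sym (fun a => ((a.d / 23 : ℕ) : ℤ)) (fun a => s11 a.d), sym (fun a => a.f) (fun a => s11 a.d),
    sym (fun a => a.z) (fun a => s11 a.d), sym (fun a => a.f) (fun a => ((a.d / 23 : ℕ) : ℤ)),
    sym (fun a => a.z) (fun a => ((a.d / 23 : ℕ) : ℤ)), sym (fun a => a.z) (fun a => a.f)]
  rw [sym (fun a => ((a.d / 23 : ℕ) : ℤ)) (fun a => s11 a.d)] at w2
  refine ⟨⟨?_, ?_, ?_, ?_⟩, ⟨?_, ?_, ?_, ?_⟩, ⟨?_, ?_, ?_, ?_⟩, ?_, ?_, ?_, ?_⟩
  all_goals first
    | (refine rem_div _ (by norm_num) ?_; linarith)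
    | linarith

theorem gramThree_psd {C : ℕ} {P : List Mb} {U : Multiset Mb} (W : Whole C ((P : Multiset Mb) + U))
    (hU : ∀ a ∈ U, a.d % 253 = 0) : psd 3 (gramThree C P) = true := by
  let g : List (Mb → ℤ) := [fun a => ((a.d / 253 : ℕ) : ℤ), fun a => a.f, fun a => a.z]
  have hd : ∀ a ∈ U, (a.d : ℤ) = 253 * ((a.d / 253 : ℕ) : ℤ) := fun a ha => by have := hU a ha; omega
  have e253 : ∀ h : Mb → ℤ, msum (fun a => (a.d : ℤ) * h a) U = 253 * msum (fun a => ((a.d / 253 : ℕ) : ℤ) * h a) U := by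
    intro h
    rw [msum, msum, ← Multiset.sum_map_mul_left]
    exact congrArg _ (Multiset.map_congr rfl fun a ha => by rw [hd a ha]; ring_nf)
  have sym : ∀ g h : Mb → ℤ, msum (fun a => g a * h a) U = msum (fun a => h a * g a) U := fun g h =>
    congrArg _ (Multiset.map_congr rfl fun a _ => mul_comm _ _)
  obtain ⟨w1, -, -, -, -, w6, w7, w8, w9, w10, -, -, -⟩ := W
  simp only [msum_add, ← sumOn_eq] at w1 w6 w7 w8 w9 w10
  have hdd : msum (fun a => (a.d : ℤ) * a.d) U =
      64009 * msum (fun a => ((a.d / 253 : ℕ) : ℤ) * ((a.d / 253 : ℕ) : ℤ)) U := by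
    rw [e253, sym, e253]; ring
  rw [e253] at w6 w7
  rw [hdd] at w1
  refine psd_sound U g 1 _ one_pos ?_
  simp only [gramThree, budOf, forceI_eq, gramOf, g, List.map_cons, List.map_nil, one_mul, List.cons.injEq, and_true]
  simp only [← show ∀ h : Mb → ℤ, msum h U = (Multiset.map h U).sum from fun _ => rfl,
    sym (fun a => a.f) (fun a => ((a.d / 253 : ℕ) : ℤ)),
    sym (fun a => a.z) (fun a => ((a.d / 253 : ℕ) : ℤ)), sym (fun a => a.z) (fun a => a.f)]
  refine ⟨⟨?_, ?_, ?_⟩, ⟨?_, ?_, ?_⟩, ?_, ?_, ?_⟩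
  all_goals first
    | (refine rem_div _ (by norm_num) ?_; linarith)
    | linarith

/-- the column data of a member without the value at the involution -/
def drop0 (a : Mb) : Mb := ⟨a.d, a.f, 0⟩

/-- the further members fit the budgets left -/
theorem further_of {C : ℕ} {P : List Mb} {U : Multiset Mb} (h1 : msum (fun a => (a.d : ℤ) * a.d) (P + U) = (ordM : ℤ))
    (h2 : msum (fun a => a.f * a.f) (P + U) = 60) (h3 : msum (fun a => a.z * a.z) (P + U) ≤ (C : ℤ))
    (hU : ∀ a ∈ U, a.d % 253 = 0 ∧ (a.d, a.f) ∈ wTypes) : Further U wTypes (budOf C P) := by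
  simp only [msum_add, ← sumOn_eq] at h1 h2 h3
  refine ⟨hU, ?_, ?_, ?_⟩ <;> simp only [budOf]
  · have : msum (fun a => (a.d : ℤ) * a.d) U =
        64009 * msum (fun a => ((a.d / 253 : ℕ) : ℤ) * (a.d / 253 : ℕ)) U := by
      rw [msum, msum, ← Multiset.sum_map_mul_left]
      refine congrArg _ (Multiset.map_congr rfl fun a ha => ?_)
      have h0 := (hU a ha).1
      rw [show (a.d : ℤ) = 253 * ((a.d / 253 : ℕ) : ℤ) by omega]
      ring_nf
    rw [rem_div 64009 (by norm_num) (show (ordM : ℤ) - sumOn (fun a => (a.d : ℤ) * a.d) P = 64009 *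
      msum (fun a => ((a.d / 253 : ℕ) : ℤ) * (a.d / 253 : ℕ)) U by linarith)]
    exact le_rfl
  · simp only [msum] at h2; linarith
  · simp only [msum] at h3; linarith

/-- a block among all members -/
def HasBlk (p : ℕ) (S : Multiset Mb) (x : Mb) : Prop :=
  ∃ (e N r : ℕ) (v : ℤ) (X : Multiset Mb) (y : Mb), HasBlock p e N [] S x r v X y

theorem hasBlk_split {p e N r : ℕ} {v : ℤ} {X U : Multiset Mb} {x y : Mb} {P : List Mb} {S : Multiset Mb}
    (H : HasBlock p e N [] S x r v X y) (hS : S = (P : Multiset Mb) + U) : HasBlock p e N P U x r v X y := by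
  obtain ⟨h1, h2, h3, h4, h5, h6, h7, h8, h9, h10, h11, h12, h13⟩ := H
  exact ⟨h1, h2, h3, h4, by rw [← hS]; simpa using h5, h6, h7, h8, h9, h10, h11, h12, h13⟩

theorem hasBlk_drop {p : ℕ} {S : Multiset Mb} {x : Mb} (H : HasBlk p S x) : HasBlk p (S.map drop0) (drop0 x) := by
  obtain ⟨e, N, r, v, X, y, h1, h2, h3, h4, h5, h6, h7, h8, h9, h10, h11, h12, h13⟩ := H
  have hb : ∀ g : Mb → ℤ, bsum p e r (X.map drop0) (drop0 y) g = bsum p e r X y fun a => g (drop0 a) := fun g => by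
    simp [bsum, Multiset.map_map, Function.comp_def, drop0]
  refine ⟨e, N, r, v, X.map drop0, drop0 y, h1, h2, h3, by simpa using h4, ?_, fun a ha => ?_, h7, ?_, ?_, ?_, ?_, ?_,
    ?_⟩
  · rw [← Multiset.map_replicate, ← Multiset.map_add]
    simpa using Multiset.map_le_map h5
  · obtain ⟨b, hb', rfl⟩ := Multiset.mem_map.1 ha
    exact h6 b hb'
  · rcases h8 with ⟨hx, hc⟩ | ⟨rfl, hc⟩
    · exact Or.inl ⟨Multiset.mem_map_of_mem _ hx, hc⟩
    · exact Or.inr ⟨rfl, hc⟩
  · rw [hb]; exact h9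
  · intro h; rw [hb]; exact h10 h
  · rw [hb]; simp [bsum, drop0]
  · rw [hb]; exact h12
  · rw [hb]; exact h13

theorem situDead_false {C : ℕ} {P cs : List Mb} {U : Multiset Mb}
    (F : Further U wTypes (budOf C P)) (hcs : ∀ x ∈ cs, x ∈ P)
    (h5 : ∀ x ∈ cs, x.d % 5 ≠ 0 → HasBlk 5 ((P : Multiset Mb) + U) x)
    (h7 : ∀ x ∈ P, x.d % 7 ≠ 0 → HasBlk 7 ((P : Multiset Mb) + U) x) : situDead C P cs = false := by
  rw [Bool.eq_false_iff]
  intro h
  simp only [situDead, forceP_eq, forceI_eq, List.any_eq_true, Bool.and_eq_true, decide_eq_true_eq,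
    Bool.not_eq_true', List.mem_dedup, List.mem_filter] at h
  obtain ⟨⟨p, d⟩, hpd, hmod, x, ⟨hx, rfl⟩, hb⟩ := h
  have hp : p = 5 ∨ p = 7 :=
    (show ∀ q ∈ checks, q.1 = 5 ∨ q.1 = 7 by decide +kernel) _ hpd
  obtain ⟨hxP, ⟨e, N, r, v, X, y, H⟩⟩ : x ∈ P ∧ HasBlk p ((P : Multiset Mb) + U) x := by
    rcases hp with rfl | rfl
    · simp only [if_true] at hx
      exact ⟨hcs x hx, h5 x hx hmod⟩
    · rw [if_neg (by norm_num)] at hx
      exact ⟨hx, h7 x hx hmod⟩
  rw [blockB_sound hp hxP (hasBlk_split H rfl) F] at hb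
  exact Bool.noConfusion hb

/-- members arranged by a key, with the values increasing within a key -/
theorem exists_arranged {α : Type} (key : α → ℕ) (ord : List ℕ) (hord : ord.Nodup) (S : Multiset (α × ℤ)) (s : List α)
    (hs : S.map Prod.fst = (s : Multiset α)) (hmem : ∀ a ∈ s, key a ∈ ord)
    (hinj : ∀ a ∈ s, ∀ b ∈ s, key a = key b → a = b) :
    ∃ T : List (α × ℤ), (T : Multiset (α × ℤ)) = S ∧ T.map Prod.fst = arrange key ord s ∧
      T.Pairwise fun a b => key a.1 = key b.1 → a.2 ≤ b.2 := by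
  set L := S.toList.mergeSort fun a b => decide (a.2 ≤ b.2) with hL
  have hLS : (L : Multiset (α × ℤ)) = S := by
    rw [Multiset.coe_eq_coe.2 (List.mergeSort_perm _ _), Multiset.coe_toList]
  have hLs : (L.map Prod.fst).Perm s := by
    rw [← Multiset.coe_eq_coe, ← Multiset.map_coe, hLS, hs]
  refine ⟨arrange (fun a => key a.1) ord L, ?_, ?_, ?_⟩
  · rw [← hLS, Multiset.coe_eq_coe]
    exact arrange_perm _ ord L hord fun a ha => hmem _ (hLs.subset (List.mem_map_of_mem ha))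
  · simp only [arrange, List.map_flatMap]
    refine List.flatMap_congr fun d _ => ?_
    rw [show List.map Prod.fst (L.filter fun a => key a.1 == d) = (L.map Prod.fst).filter (fun a => key a == d) by
      rw [List.filter_map]; rfl]
    have hp := hLs.filter fun a => key a == d
    rcases he : s.filter (fun a => key a == d) with _ | ⟨o, os⟩
    · rw [he] at hp; exact List.perm_nil.1 hp
    · have hrep : ∀ a ∈ o :: os, a = o := fun a ha => by
        have ha' := List.mem_filter.1 (he ▸ ha)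
        have ho := List.mem_filter.1 (he ▸ List.mem_cons_self (a := o) (l := os))
        exact hinj a ha'.1 o ho.1 (by simp only [beq_iff_eq] at ha' ho; rw [ha'.2, ho.2])
      rw [he] at hp
      rw [List.eq_replicate_iff.2 ⟨rfl, fun a ha => hrep a (hp.subset ha)⟩,
        List.eq_replicate_iff.2 ⟨rfl, hrep⟩, hp.length_eq]
  · refine arrange_pairwise _ (fun a b => a.2 ≤ b.2) ord L hord ?_
    exact (List.pairwise_mergeSort (le := fun a b : α × ℤ => decide (a.2 ≤ b.2))
      (fun a b c h1 h2 => by simp only [decide_eq_true_eq] at h1 h2 ⊢; omega)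
      (fun a b => by simp only [Bool.or_eq_true, decide_eq_true_eq]; omega) S.toList).imp
        (S := fun a b : α × ℤ => key a.1 = key b.1 → a.2 ≤ b.2) fun {a b} h _ => of_decide_eq_true h

/-- the places of the block of twenty-three with their values -/
def entPairs (C : ℕ) (bud : ℤ) : ℕ → List (Ent × ℤ) → List (Raw × ℤ)
  | _, [] => []
  | prev, (e, x) :: l =>
    (⟨entOpts C bud e, e.c, e.c * nd e.d, e.c * nd e.d * e.f, (e.w : ℤ), decide (prev = e.enc)⟩, x) ::
      entPairs C bud e.enc l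

theorem entPairs_fst (C : ℕ) (bud : ℤ) : ∀ (prev : ℕ) (l : List (Ent × ℤ)),
    (entPairs C bud prev l).map Prod.fst = entRaws C bud prev (l.map Prod.fst)
  | _, [] => rfl
  | _, (e, x) :: l => by simp [entPairs, entRaws, entPairs_fst C bud e.enc l]

theorem entPairs_snd (C : ℕ) (bud : ℤ) : ∀ (prev : ℕ) (l : List (Ent × ℤ)),
    (entPairs C bud prev l).map Prod.snd = l.map Prod.snd
  | _, [] => rfl
  | _, (e, x) :: l => by simp [entPairs, entPairs_snd C bud e.enc l]

theorem entPairs_sorted (C : ℕ) (bud : ℤ) : ∀ (prev : ℕ) (v : ℤ) (l : List (Ent × ℤ)),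
    (∀ a ∈ l, prev = a.1.enc → v ≤ a.2) → (l.Pairwise fun a b => a.1.enc = b.1.enc → a.2 ≤ b.2) →
      sorted v (entPairs C bud prev l)
  | _, _, [], _, _ => trivial
  | _, _, (e, x) :: l, h1, h2 => by
    obtain ⟨h2a, h2b⟩ := List.pairwise_cons.1 h2
    refine ⟨fun h => h1 (e, x) (by simp) (of_decide_eq_true h), ?_⟩
    exact entPairs_sorted C bud e.enc x l (fun a ha => h2a a ha) h2b

theorem entPairs_sums (C : ℕ) (bud : ℤ) : ∀ (prev : ℕ) (l : List (Ent × ℤ)),
    sumL (entPairs C bud prev l) = (l.map fun a => a.1.c * a.2).sum ∧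
    sumQ (entPairs C bud prev l) = (l.map fun a => a.1.c * nd a.1.d * (a.2 * a.2)).sum ∧
    sumB (entPairs C bud prev l) = (l.map fun a => (a.1.w : ℤ) * (a.2 * a.2)).sum ∧
    sumE (entPairs C bud prev l) = (l.map fun a => a.1.c * nd a.1.d * a.1.f * a.2).sum
  | _, [] => ⟨rfl, rfl, rfl, rfl⟩
  | _, (e, x) :: l => by
    obtain ⟨h1, h2, h3, h4⟩ := entPairs_sums C bud e.enc l
    simp only [entPairs, sumL, sumQ, sumB, sumE, List.map_cons, List.sum_cons] at h1 h2 h3 h4 ⊢
    exact ⟨by rw [h1], by rw [h2], by rw [h3], by rw [h4]⟩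

theorem entPairs_ok (C : ℕ) (bud : ℤ) : ∀ (prev : ℕ) (l : List (Ent × ℤ)), (∀ a ∈ l, a.2 ∈ entOpts C bud a.1) →
    ∀ b ∈ entPairs C bud prev l, b.2 ∈ b.1.opts ∧ 0 ≤ b.1.w
  | _, [], _, b, hb => absurd hb List.not_mem_nil
  | _, (e, x) :: l, h, b, hb => by
    rcases List.mem_cons.1 hb with rfl | hb
    · exact ⟨h (e, x) (by simp), Int.natCast_nonneg _⟩
    · exact entPairs_ok C bud e.enc l (fun a ha => h a (List.mem_cons_of_mem _ ha)) b hb

/-- the names in range of their numbers -/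
def Ent.small (e : Ent) : Prop := 0 < e.d ∧ -64 ≤ e.f ∧ e.f < 64 ∧ e.n < 8

theorem Ent.enc_inj {a b : Ent} (ha : a.small) (hb : b.small) (h : a.enc = b.enc) : a = b := by
  obtain ⟨d, f, n⟩ := a
  obtain ⟨d', f', n'⟩ := b
  simp only [Ent.small, Ent.enc] at ha hb h
  have : d = d' ∧ f = f' ∧ n = n' := by omega
  obtain ⟨rfl, rfl, rfl⟩ := this
  rfl

/-- the members under one name -/
def mbs (a : Ent × ℤ) : Multiset Mb := Multiset.replicate a.1.w ⟨a.1.d, a.1.f, a.2⟩

theorem expandE_eq : ∀ T : List (Ent × ℤ),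
    ((expandE (T.map Prod.fst) (T.map Prod.snd) : List Mb) : Multiset Mb) = ((T : Multiset (Ent × ℤ)).map mbs).sum
  | [] => rfl
  | a :: T => by
    have := expandE_eq T
    simp only [expandE, List.map_cons, List.zip_cons_cons, List.flatMap_cons, ← Multiset.coe_add,
      ← Multiset.cons_coe, Multiset.map_cons, Multiset.sum_cons, mbs, ← Multiset.coe_replicate] at this ⊢
    rw [this]

/-- the values at the involution on the block of twenty-three, with the local values -/
structure XData (t : ℕ × List ℤ) (S : Multiset (Ent × ℤ)) : Prop where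
  small : ∀ a ∈ S, a.1.small
  opt : ∀ a ∈ S, a.2 ∈ zget t.1 a.1.d ∧ (a.1.n ≠ 0 → (a.2 % 5).toNat ∈ rget resTab a.1.f a.1.n)
  lin : 1 + t.2.getD 2 0 + (S.map fun a => a.1.c * a.2).sum = 0
  quad : (ordM : ℤ) + nd 5544 * (t.2.getD 2 0 * t.2.getD 2 0) + (S.map fun a => a.1.c * nd a.1.d * (a.2 * a.2)).sum = 0
  bud : (S.map fun a => (a.1.w : ℤ) * (a.2 * a.2)).sum ≤ (t.1 : ℤ) - sumOn (fun a => a.z * a.z) (known t.2)
  mix : 0 ≤ (ordM : ℤ) - nd 5544 * t.2.getD 2 0 + (S.map fun a => a.1.c * nd a.1.d * a.1.f * a.2).sum ∧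
    ((ordM : ℤ) - nd 5544 * t.2.getD 2 0 + (S.map fun a => a.1.c * nd a.1.d * a.1.f * a.2).sum) %
      ((60 * t.1 : ℕ) : ℤ) = 0

theorem xMeet_sound {ord : List ℕ} {s : List Ent} {t : ℕ × List ℤ} {k : List Mb → Bool}
    (h : xMeet ord s t k = true) {S : Multiset (Ent × ℤ)} (hs : S.map Prod.fst = (s : Multiset Ent))
    (X : XData t S) {U : Multiset Mb} (hW : Whole t.1 ((known t.2 : Multiset Mb) + (S.map mbs).sum + U))
    (hU : ∀ a ∈ U, a.d % 23 = 0) :
    ∃ P0 : List Mb, (P0 : Multiset Mb) = (S.map mbs).sum ∧ k (known t.2 ++ P0) = true := by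
  simp only [xMeet, forceI_eq, Bool.and_eq_true, decide_eq_true_eq, List.all_eq_true, List.contains_iff_mem] at h
  obtain ⟨⟨hord, hmem⟩, hgo⟩ := h
  have hsm : ∀ e ∈ s, e.small := fun e he => by
    have : e ∈ S.map Prod.fst := by rw [hs]; simpa using he
    obtain ⟨a, ha, rfl⟩ := Multiset.mem_map.1 this
    exact X.small a ha
  obtain ⟨T, hT, hTf, hTp⟩ := exists_arranged Ent.enc ord hord S s hs hmem
    fun a ha b hb => Ent.enc_inj (hsm a ha) (hsm b hb)
  set bud := (t.1 : ℤ) - sumOn (fun a => a.z * a.z) (known t.2) with hbud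
  have hTS : ∀ a ∈ T, a ∈ S := fun a ha => hT ▸ (by simpa using ha)
  have hsum : ∀ f : Ent × ℤ → ℤ, (T.map f).sum = (S.map f).sum := fun f => by
    rw [← hT, Multiset.map_coe, Multiset.sum_coe]
  obtain ⟨e1, e2, e3, e4⟩ := entPairs_sums t.1 bud 0 T
  rw [hsum] at e1 e2 e3 e4
  have hle : ∀ a ∈ S, (a.1.w : ℤ) * (a.2 * a.2) ≤ bud := fun a ha => by
    refine le_trans (Multiset.single_le_sum (fun v hv => ?_) _
      (Multiset.mem_map_of_mem (fun a : Ent × ℤ => (a.1.w : ℤ) * (a.2 * a.2)) ha)) X.bud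
    obtain ⟨b, -, rfl⟩ := Multiset.mem_map.1 hv
    exact mul_nonneg (Int.natCast_nonneg _) (mul_self_nonneg _)
  have hpos : ∀ a ∈ T, a.1.enc ≠ 0 := fun a ha => by
    obtain ⟨hd, -⟩ := X.small a (hTS a ha)
    simp only [Ent.enc]
    omega
  have := meet_sound ((60 * t.1 : ℕ) : ℤ) bud (entPairs t.1 bud 0 T) _ _ _ _
    (entPairs_ok t.1 bud 0 T fun a ha => ?_)
    (entPairs_sorted t.1 bud 0 0 T (fun a ha h0 => absurd h0.symm (hpos a ha)) hTp)
    (by rw [e1]; exact X.lin) (by rw [e2]; exact X.quad) (by rw [e3]; exact X.bud) (by rw [e4]; exact X.mix.1)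
    (by rw [e4]; exact X.mix.2) (by rw [entPairs_fst, hTf]; exact hgo)
  · rw [entPairs_snd, ← hTf, Bool.or_eq_true, Bool.not_eq_true'] at this
    have hP : ((expandE (T.map Prod.fst) (T.map Prod.snd) : List Mb) : Multiset Mb) = (S.map mbs).sum := by
      rw [expandE_eq, hT]
    rcases this with hg | hk
    · rw [gramFour_psd (U := U) (by rwa [← Multiset.coe_add, hP]) hU] at hg
      exact Bool.noConfusion hg
    · exact ⟨_, hP, hk⟩
  · obtain ⟨ho, hn⟩ := X.opt a (hTS a ha)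
    simp only [entOpts, List.mem_filter, Bool.and_eq_true, decide_eq_true_eq, List.contains_iff_mem]
    refine ⟨ho, hle a (hTS a ha), ?_⟩
    split_ifs with h0
    · have : (a.2 % 5).toNat < 5 := by omega
      simp only [List.mem_cons, List.not_mem_nil, or_false]
      omega
    · exact hn h0

/-- a kind of member outside the block of twenty-three -/
def yKind (a : Pr) : Prop := (∃ q ∈ yFive, (q.1, q.2.1) = a) ∨ a.1 ∈ yZero ∧ a.2 = 0

theorem sufAll_sound {α : Type} {g : α → List α → Bool} : ∀ {cs : List α}, sufAll g cs = true →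
    ∀ {m : Multiset α}, m ≠ 0 → (∀ a ∈ m, a ∈ cs) → ∃ a rest, a ∈ m ∧ (a :: rest) <:+ cs ∧
      (∀ b ∈ m, b ∈ a :: rest) ∧ g a (a :: rest) = true
  | [], _, m, hm, hmem => by
    obtain ⟨a, ha⟩ := Multiset.exists_mem_of_ne_zero hm
    exact absurd (hmem a ha) List.not_mem_nil
  | c :: cs, h, m, hm, hmem => by
    simp only [sufAll, Bool.and_eq_true] at h
    by_cases hc : c ∈ m
    · exact ⟨c, cs, hc, List.suffix_refl _, hmem, h.1⟩
    · obtain ⟨a, rest, h1, h2, h3, h4⟩ := sufAll_sound h.2 hm fun b hb =>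
        (List.mem_cons.1 (hmem b hb)).resolve_left fun e => hc (e ▸ hb)
      exact ⟨a, rest, h1, h2.trans (List.suffix_cons _ _), h3, h4⟩

theorem yFive_table : (∀ y ∈ yFiveP, y.cf * y.cf = y.ff ∧ 0 ≤ y.ff) ∧
    (∀ i ∈ List.range yFiveP.length, ∀ y ∈ yFiveP.drop i, gsOf (yFiveP.drop i) ∣ y.qq) ∧
    (∀ i ∈ List.range (yFiveP.length + 1), gsOf (yFiveP.drop i) ∣ 3600) ∧
    (∀ d ∈ yZero, s11 d * (d : ℤ) ≤ 12880 ∧ -12880 ≤ s11 d * (d : ℤ) ∧ 52900 ≤ (d : ℤ) * d) := by
  decide +kernel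

theorem gs_dvd {cs : List Y5} (h : cs <:+ yFiveP) : gsOf cs ∣ 3600 ∧ ∀ y ∈ cs, gsOf cs ∣ y.qq := by
  obtain ⟨-, h2, h3, -⟩ := yFive_table
  obtain ⟨pre, hp⟩ := h
  have hd : yFiveP.drop pre.length = cs := by rw [← hp, List.drop_left]
  have hl : pre.length + cs.length = yFiveP.length := by rw [← hp, List.length_append]
  refine ⟨hd ▸ h3 _ (List.mem_range.2 (by omega)), fun y hy => ?_⟩
  have hc : 0 < cs.length := List.length_pos_of_mem hy
  have := h2 _ (List.mem_range.2 (show pre.length < yFiveP.length by omega))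
  rw [hd] at this
  exact this y hy

theorem sq_split (x : ℤ) (m : Multiset Y5) (hm : ∀ a ∈ m, a.cf * a.cf = a.ff) (n : ℕ) (hn : m.card ≤ n) {b : ℤ}
    (hb : (m.map Y5.ff).sum ≤ b) (hx : x + (m.map Y5.cf).sum = 0) : x * x ≤ (n : ℤ) * b := by
  have h1 := sum_sq Y5.cf m
  rw [show x = -(m.map Y5.cf).sum by linarith, neg_mul_neg]
  rw [Multiset.map_congr rfl fun a ha => hm a ha] at h1
  have h0 : 0 ≤ (m.map Y5.ff).sum := Multiset.sum_nonneg fun v hv => by
    obtain ⟨a, ha, rfl⟩ := Multiset.mem_map.1 hv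
    rw [← hm a ha]; exact mul_self_nonneg _
  refine h1.trans (mul_le_mul (by exact_mod_cast hn) hb h0 (Int.natCast_nonneg _))

theorem y5Go_sound : ∀ (n : ℕ) (cs : List Y5) (b l q : ℤ) (acc : List Pr) (k : ℕ → List Pr → Bool) (m : Multiset Y5),
    cs <:+ yFiveP → (∀ a ∈ m, a ∈ cs) → m.card ≤ n → l + (m.map Y5.cf).sum = 0 → 0 ≤ q + (m.map Y5.qq).sum →
    (q + (m.map Y5.qq).sum) % 3600 = 0 → (m.map Y5.ff).sum ≤ b → y5Go n cs b l q acc k = true →
    ∃ p5 : List Pr, (p5 : Multiset Pr) = m.map Y5.a + (acc : Multiset Pr) ∧ k (n - m.card) p5 = true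
  | n, cs, b, l, q, acc, k, m, hcs, hmem, hn, hl, hq, hq', hb, hgo => by
    by_cases hm0 : m = 0
    · subst hm0
      simp only [Multiset.map_zero, Multiset.sum_zero, add_zero] at hl hq hq'
      refine ⟨acc, by simp, ?_⟩
      cases n with
      | zero => simpa [y5Go, hl, hq, hq'] using hgo
      | succ n =>
        have hg : q % gsOf cs = 0 :=
          Int.emod_eq_zero_of_dvd ((gs_dvd hcs).1.trans (Int.dvd_of_emod_eq_zero hq'))
        simp only [y5Go, hg, ne_eq, not_true_eq_false, decide_false, Bool.false_or, Bool.and_eq_true, hl, hq, hq',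
          decide_true] at hgo
        simpa using hgo.1
    cases n with
    | zero => exact absurd (Multiset.card_eq_zero.1 (by omega)) hm0
    | succ n =>
      obtain ⟨hg1, hg2⟩ := gs_dvd hcs
      have hg : q % gsOf cs = 0 := by
        refine Int.emod_eq_zero_of_dvd ((dvd_add_left ?_).1 (hg1.trans (Int.dvd_of_emod_eq_zero hq')))
        refine Multiset.dvd_sum fun v hv => ?_
        obtain ⟨a, ha, rfl⟩ := Multiset.mem_map.1 hv
        exact hg2 a (hmem a ha)
      simp only [y5Go, hg, ne_eq, not_true_eq_false, decide_false, Bool.false_or, Bool.and_eq_true, forceI_eq] at hgo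
      obtain ⟨a, rest, ha, hsuf, hrest, hga⟩ := sufAll_sound hgo.2 hm0 hmem
      obtain ⟨m', rfl⟩ := Multiset.exists_cons_of_mem ha
      simp only [Multiset.map_cons, Multiset.sum_cons, Multiset.card_cons] at hl hq hq' hb hn ⊢
      have hff : ∀ x ∈ a ::ₘ m', x.cf * x.cf = x.ff ∧ 0 ≤ x.ff := fun x hx =>
        yFive_table.1 x ((hsuf.trans hcs).subset (hrest x hx))
      have h0 : 0 ≤ (m'.map Y5.ff).sum := Multiset.sum_nonneg fun v hv => by
        obtain ⟨x, hx, rfl⟩ := Multiset.mem_map.1 hv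
        exact (hff x (Multiset.mem_cons_of_mem hx)).2
      have hsq := sq_split (l + a.cf) m' (fun x hx => (hff x (Multiset.mem_cons_of_mem hx)).1) n (by omega)
        (b := b - a.ff) (by linarith) (by linarith)
      simp only [Bool.or_eq_true, decide_eq_true_eq] at hga
      rcases hga with (h1 | h1) | hrec
      · exact absurd h1 (not_lt.2 (by linarith))
      · exact absurd h1 (not_lt.2 hsq)
      obtain ⟨p5, hp5, hk⟩ := y5Go_sound n (a :: rest) (b - a.ff) (l + a.cf) (q + a.qq) (a.a :: acc) k m'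
        (hsuf.trans hcs) (fun x hx => hrest x (Multiset.mem_cons_of_mem hx)) (by omega) (by linarith) (by linarith)
        (by rwa [add_assoc]) (by linarith) hrec
      refine ⟨p5, ?_, by rwa [show n + 1 - (m'.card + 1) = n - m'.card by omega]⟩
      rw [hp5, ← Multiset.cons_coe, Multiset.add_cons, Multiset.cons_add]

theorem y0Go_sound : ∀ (cs : List ℕ) (l sq : ℤ) (acc : List Pr) (k : List Pr → Bool) (m : Multiset ℕ) (n : ℕ),
    cs <:+ yZero → (∀ a ∈ m, a ∈ cs) → m.card = n → l + (m.map fun d => s11 d * (d : ℤ)).sum = 0 →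
    (m.map fun d : ℕ => (d : ℤ) * d).sum ≤ sq → y0Go n cs l sq acc k = true →
    ∃ yy : List Pr, (yy : Multiset Pr) = m.map (fun d => (d, (0 : ℤ))) + (acc : Multiset Pr) ∧ k yy = true
  | cs, l, sq, acc, k, m, 0, _, _, hn, hl, _, hgo => by
    obtain rfl := Multiset.card_eq_zero.1 hn
    simp only [Multiset.map_zero, Multiset.sum_zero, add_zero] at hl
    exact ⟨acc, by simp, by simpa [y0Go, hl] using hgo⟩
  | cs, l, sq, acc, k, m, n + 1, hcs, hmem, hn, hl, hsq, hgo => by
    simp only [y0Go, forceI_eq] at hgo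
    obtain ⟨a, rest, ha, hsuf, hrest, hga⟩ := sufAll_sound hgo (fun h => by simp [h] at hn) hmem
    obtain ⟨m', rfl⟩ := Multiset.exists_cons_of_mem ha
    simp only [Multiset.map_cons, Multiset.sum_cons, Multiset.card_cons] at hl hn hsq ⊢
    have hz : ∀ x ∈ m', s11 x * (x : ℤ) ≤ 12880 ∧ -12880 ≤ s11 x * (x : ℤ) ∧ 52900 ≤ (x : ℤ) * x := fun x hx =>
      yFive_table.2.2.2 x ((hsuf.trans hcs).subset (hrest x (Multiset.mem_cons_of_mem hx)))
    have h1 := Multiset.card_nsmul_le_sum (s := m'.map fun d : ℕ => (d : ℤ) * d) (a := 52900) fun v hv => by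
      obtain ⟨x, hx, rfl⟩ := Multiset.mem_map.1 hv
      exact (hz x hx).2.2
    have h2 := Multiset.sum_le_card_nsmul (m'.map fun d => s11 d * (d : ℤ)) 12880 fun v hv => by
      obtain ⟨x, hx, rfl⟩ := Multiset.mem_map.1 hv
      exact (hz x hx).1
    have h3 := Multiset.card_nsmul_le_sum (s := m'.map fun d => s11 d * (d : ℤ)) (a := -12880) fun v hv => by
      obtain ⟨x, hx, rfl⟩ := Multiset.mem_map.1 hv
      exact (hz x hx).2.1
    simp only [Multiset.card_map, nsmul_eq_mul, show m'.card = n by omega] at h1 h2 h3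
    simp only [Bool.or_eq_true, decide_eq_true_eq] at hga
    rcases hga with ((h | h) | h) | hrec
    · exact absurd h (not_lt.2 (by linarith))
    · exact absurd h (not_lt.2 (by linarith))
    · exact absurd h (not_lt.2 (by linarith))
    obtain ⟨yy, hyy, hk⟩ := y0Go_sound (a :: rest) _ _ ((a, 0) :: acc) k m' n (hsuf.trans hcs)
      (fun x hx => hrest x (Multiset.mem_cons_of_mem hx)) (by omega) (by linarith) (by linarith) hrec
    exact ⟨yy, by rw [hyy, ← Multiset.cons_coe, Multiset.add_cons, Multiset.cons_add], hk⟩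

end Cfsg.Agent.MTwentyFour.ByOrder.RowA
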