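import Mathlib

/-!
A bounded search for integer vectors with a linear, a quadratic and a mixed condition and a budget for the weighted
squares, with places of equal kind in increasing order; and a test for a matrix of inner products.
-/

set_option autoImplicit false

namespace Cfsg.Agent.MTwentyFour.ByOrder.RowA

/-- evaluation of an integer before it is used -/
def forceI {α : Type} (a : ℤ) (k : ℤ → α) : α :=
  match a with
  | Int.ofNat n => match n with
    | 0 => k (Int.ofNat 0)
    | m + 1 => k (Int.ofNat (m + 1))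
  | Int.negSucc n => match n with
    | 0 => k (Int.negSucc 0)
    | m + 1 => k (Int.negSucc (m + 1))

theorem forceI_eq {α : Type} (a : ℤ) (k : ℤ → α) : forceI a k = k a := by
  rcases a with (_ | m) | (_ | m) <;> rfl

/-- evaluation of a list before it is used -/
def forceL {α : Type} : List ℤ → (List ℤ → α) → α
  | [], k => k []
  | a :: l, k => forceI a fun a' => forceL l fun l' => k (a' :: l')

theorem forceL_eq {α : Type} : ∀ (l : List ℤ) (k : List ℤ → α), forceL l k = k l
  | [], _ => rfl
  | a :: l, k => by simp [forceL, forceI_eq, forceL_eq l]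

/-- a place: candidates, the coefficients of the linear, quadratic and mixed conditions, the weight, and whether it
is of the kind of the place before -/
structure Raw where
  opts : List ℤ
  c : ℤ
  qc : ℤ
  e : ℤ
  w : ℤ
  same : Bool

/-- the bounds from a place on -/
structure Bd where
  gq : ℤ
  gm : ℤ
  mn : ℤ
  up : ℤ
  dn : ℤ
  lu : ℤ

/-- a place with its bounds -/
structure Pl where
  it : Raw
  bd : Bd

/-- the least square -/
def minSq : List ℤ → ℤ
  | [] => 0
  | [a] => a * a
  | a :: b :: l => min (a * a) (minSq (b :: l))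

/-- the largest absolute value -/
def maxAbs : List ℤ → ℤ
  | [] => 0
  | a :: l => max (a.natAbs : ℤ) (maxAbs l)

theorem minSq_le : ∀ (l : List ℤ) (x : ℤ), x ∈ l → minSq l ≤ x * x
  | [], _, h => absurd h List.not_mem_nil
  | [a], x, h => by simp only [List.mem_singleton] at h; simp [minSq, h]
  | a :: b :: l, x, h => by
    rcases List.mem_cons.1 h with rfl | h
    · exact min_le_left _ _
    · exact (min_le_right _ _).trans (minSq_le (b :: l) x h)

theorem le_maxAbs : ∀ (l : List ℤ) (x : ℤ), x ∈ l → (x.natAbs : ℤ) ≤ maxAbs l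
  | [], _, h => absurd h List.not_mem_nil
  | a :: l, x, h => by
    rcases List.mem_cons.1 h with rfl | h
    · exact le_max_left _ _
    · exact (le_maxAbs l x h).trans (le_max_right _ _)

theorem maxAbs_nonneg : ∀ l : List ℤ, 0 ≤ maxAbs l
  | [] => le_rfl
  | _ :: l => (maxAbs_nonneg l).trans (le_max_right _ _)

/-- the bounds after the last place -/
def bd0 (md : ℤ) : Bd := ⟨0, md, 0, 0, 0, 0⟩

/-- the bounds, one place further -/
def bdStep (r : Raw) (b : Bd) : Bd :=
  let M := maxAbs r.opts
  ⟨(Nat.gcd r.qc.natAbs b.gq.natAbs : ℤ), (Nat.gcd r.e.natAbs b.gm.natAbs : ℤ), b.mn + minSq r.opts * r.w,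
    b.up + max 0 (r.qc * (M * M)), b.dn + max 0 (-r.qc * (M * M)), b.lu + (r.c.natAbs : ℤ) * M⟩

/-- the places with their bounds, and the bounds of all -/
def places (md : ℤ) : List Raw → List Pl × Bd
  | [] => ([], bd0 md)
  | r :: rs => let p := places md rs; (⟨r, bdStep r p.2⟩ :: p.1, bdStep r p.2)

/-- evaluation of a bound before it is used -/
def forceB {α : Type} (b : Bd) (k : Bd → α) : α :=
  forceI b.gq fun a => forceI b.gm fun m => forceI b.mn fun n => forceI b.up fun u => forceI b.dn fun d =>
    forceI b.lu fun l => k ⟨a, m, n, u, d, l⟩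

theorem forceB_eq {α : Type} (b : Bd) (k : Bd → α) : forceB b k = k b := by simp [forceB, forceI_eq]

/-- the places, evaluated -/
def prepF {α : Type} (md : ℤ) : List Raw → (List Pl → Bd → α) → α
  | [], k => k [] (bd0 md)
  | r :: rs, k => prepF md rs fun ps b =>
      forceL r.opts fun o => forceI r.c fun c => forceI r.qc fun q => forceI r.e fun e => forceI r.w fun w =>
        forceB (bdStep ⟨o, c, q, e, w, r.same⟩ b) fun b' => k (⟨⟨o, c, q, e, w, r.same⟩, b'⟩ :: ps) b'

theorem prepF_eq {α : Type} (md : ℤ) : ∀ (rs : List Raw) (k : List Pl → Bd → α),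
    prepF md rs k = k (places md rs).1 (places md rs).2
  | [], _ => rfl
  | r :: rs, k => by simp [prepF, prepF_eq md rs, forceL_eq, forceI_eq, forceB_eq, places]

/-- every vector of values passing the conditions passes the test -/
def go (md bud : ℤ) : List Pl → ℤ → ℤ → ℤ → ℤ → ℤ → (List ℤ → Bool) → Bool
  | [], _, l, q, b, mm, f =>
    !(decide (l = 0) && decide (q = 0) && decide (b ≤ bud) && decide (0 ≤ mm) && decide (mm % md = 0)) || f []
  | s :: ss, prev, l, q, b, mm, f =>
    !(decide (b + s.bd.mn ≤ bud) && decide (q % s.bd.gq = 0) && decide (mm % s.bd.gm = 0) &&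
      decide (0 ≤ q + s.bd.up) && decide (q - s.bd.dn ≤ 0) && decide (-s.bd.lu ≤ l) && decide (l ≤ s.bd.lu)) ||
    s.it.opts.all fun x => (s.it.same && decide (x < prev)) || forceI (l + s.it.c * x) fun l' =>
      forceI (q + s.it.qc * (x * x)) fun q' => forceI (b + s.it.w * (x * x)) fun b' => forceI (mm + s.it.e * x) fun m' =>
        go md bud ss x l' q' b' m' fun xs => f (x :: xs)

/-- the linear sum -/
def sumL (p : List (Raw × ℤ)) : ℤ := (p.map fun a => a.1.c * a.2).sum
/-- the quadratic sum -/
def sumQ (p : List (Raw × ℤ)) : ℤ := (p.map fun a => a.1.qc * (a.2 * a.2)).sum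
/-- the weighted squares -/
def sumB (p : List (Raw × ℤ)) : ℤ := (p.map fun a => a.1.w * (a.2 * a.2)).sum
/-- the mixed sum -/
def sumE (p : List (Raw × ℤ)) : ℤ := (p.map fun a => a.1.e * a.2).sum

/-- the values increase along places of one kind -/
def sorted : ℤ → List (Raw × ℤ) → Prop
  | _, [] => True
  | prev, a :: p => (a.1.same = true → prev ≤ a.2) ∧ sorted a.2 p

theorem places_bound (md : ℤ) : ∀ p : List (Raw × ℤ), (∀ a ∈ p, a.2 ∈ a.1.opts ∧ 0 ≤ a.1.w) →
    let b := (places md (p.map Prod.fst)).2
    b.gm ∣ md ∧ b.gm ∣ sumE p ∧ b.gq ∣ sumQ p ∧ b.mn ≤ sumB p ∧ sumQ p ≤ b.up ∧ -b.dn ≤ sumQ p ∧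
      -b.lu ≤ sumL p ∧ sumL p ≤ b.lu
  | [], _ => by simp [places, bd0, sumL, sumQ, sumB, sumE]
  | (r, x) :: p, h => by
    obtain ⟨hx, hw⟩ := h (r, x) (by simp)
    have ih := places_bound md p fun a ha => h a (List.mem_cons_of_mem _ ha)
    simp only at ih
    obtain ⟨i1, i2, i3, i4, i5, i6, i7, i8⟩ := ih
    simp only [List.map_cons, places, sumL, sumQ, sumB, sumE, List.sum_cons] at *
    generalize (places md (List.map Prod.fst p)).2 = b at *
    simp only [bdStep]
    have hM := le_maxAbs r.opts x hx
    have hM0 := maxAbs_nonneg r.opts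
    generalize maxAbs r.opts = M at hM hM0 ⊢
    have hxx : x * x ≤ M * M := by
      rw [← Int.natAbs_mul_self (a := x), Nat.cast_mul]
      exact mul_self_le_mul_self (Int.natCast_nonneg _) hM
    have hg1 : ((Nat.gcd r.qc.natAbs b.gq.natAbs : ℕ) : ℤ) ∣ r.qc :=
      Int.natCast_dvd.2 (Nat.gcd_dvd_left _ _)
    have hg2 : ((Nat.gcd r.qc.natAbs b.gq.natAbs : ℕ) : ℤ) ∣ b.gq :=
      Int.natCast_dvd.2 (Nat.gcd_dvd_right _ _)
    have hm1 : ((Nat.gcd r.e.natAbs b.gm.natAbs : ℕ) : ℤ) ∣ r.e :=
      Int.natCast_dvd.2 (Nat.gcd_dvd_left _ _)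
    have hm2 : ((Nat.gcd r.e.natAbs b.gm.natAbs : ℕ) : ℤ) ∣ b.gm :=
      Int.natCast_dvd.2 (Nat.gcd_dvd_right _ _)
    have hq : r.qc * (x * x) ≤ max 0 (r.qc * (M * M)) ∧ -max 0 (-r.qc * (M * M)) ≤ r.qc * (x * x) := by
      rcases le_total 0 r.qc with h0 | h0
      · refine ⟨(mul_le_mul_of_nonneg_left hxx h0).trans (le_max_right _ _), ?_⟩
        have h1 := mul_nonneg h0 (mul_self_nonneg x)
        have h2 := le_max_left (0 : ℤ) (-r.qc * (M * M))
        linarith
      · refine ⟨le_trans ?_ (le_max_left _ _), ?_⟩
        · exact mul_nonpos_of_nonpos_of_nonneg h0 (mul_self_nonneg x)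
        · have h1 := mul_le_mul_of_nonpos_left hxx h0
          have h2 := le_max_right (0 : ℤ) (-r.qc * (M * M))
          linarith
    have hl : |r.c * x| ≤ (r.c.natAbs : ℤ) * M := by
      rw [abs_mul, Int.abs_eq_natAbs, Int.abs_eq_natAbs]
      exact mul_le_mul_of_nonneg_left hM (Int.natCast_nonneg _)
    obtain ⟨hl1, hl2⟩ := abs_le.1 hl
    refine ⟨hm2.trans i1, dvd_add (dvd_mul_of_dvd_left hm1 _) (hm2.trans i2),
      dvd_add (dvd_mul_of_dvd_left hg1 _) (hg2.trans i3), ?_, ?_, ?_, ?_, ?_⟩
    · have h1 := mul_le_mul_of_nonneg_right (minSq_le r.opts x hx) hw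
      linarith
    all_goals linarith [hq.1, hq.2]

/-- The search finds every vector. -/
theorem go_sound (md bud : ℤ) : ∀ (p : List (Raw × ℤ)) (prev l q b mm : ℤ) (f : List ℤ → Bool),
    (∀ a ∈ p, a.2 ∈ a.1.opts ∧ 0 ≤ a.1.w) → sorted prev p → l + sumL p = 0 → q + sumQ p = 0 → b + sumB p ≤ bud →
    0 ≤ mm + sumE p → (mm + sumE p) % md = 0 →
    go md bud (places md (p.map Prod.fst)).1 prev l q b mm f = true → f (p.map Prod.snd) = true
  | [], _, l, q, b, mm, f, _, _, hl, hq, hb, hm, hm', hgo => by
    simp only [sumL, sumQ, sumB, sumE, List.map_nil, List.sum_nil, add_zero] at hl hq hb hm hm'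
    simpa [places, go, hl, hq, hb, hm, hm'] using hgo
  | (r, x) :: p, prev, l, q, b, mm, f, h, hs, hl, hq, hb, hm, hm', hgo => by
    obtain ⟨hx, -⟩ := h (r, x) (by simp)
    have hB := places_bound md ((r, x) :: p) h
    simp only [List.map_cons, places] at hB hgo ⊢
    obtain ⟨i1, i2, i3, i4, i5, i6, i7, i8⟩ := hB
    simp only [go, forceI_eq, Bool.or_eq_true, List.all_eq_true, Bool.not_eq_true', Bool.and_eq_true,
      decide_eq_true_eq] at hgo
    rcases hgo with hgo | hgo
    · exfalso
      have hmm : (bdStep r (places md (List.map Prod.fst p)).2).gm ∣ mm + sumE ((r, x) :: p) :=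
        i1.trans (Int.dvd_of_emod_eq_zero hm')
      have h1 := Int.emod_eq_zero_of_dvd ((dvd_add_left i2).1 hmm)
      have h2 : q % (bdStep r (places md (List.map Prod.fst p)).2).gq = 0 :=
        Int.emod_eq_zero_of_dvd ((dvd_add_left i3).1 (hq ▸ dvd_zero _))
      simp only [Bool.and_eq_false_iff, decide_eq_false_iff_not] at hgo
      omega
    · rcases hgo x hx with hlt | hrec
      · exact absurd hlt.2 (not_lt.2 (hs.1 hlt.1))
      · simp only [sumL, sumQ, sumB, sumE, List.map_cons, List.sum_cons] at hl hq hb hm hm'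
        refine go_sound md bud p x _ _ _ _ (fun xs => f (x :: xs)) (fun a ha => h a (List.mem_cons_of_mem _ ha))
          hs.2 ?_ ?_ ?_ ?_ ?_ hrec <;> simp only [sumL, sumQ, sumB, sumE] <;> first | linarith | skip
        rw [add_assoc]; exact hm'

/-- the whole test -/
def meet (md bud : ℤ) (rs : List Raw) (l q mm : ℤ) (f : List ℤ → Bool) : Bool :=
  forceI md fun md' => forceI bud fun bud' => forceI l fun l' => forceI q fun q' => forceI mm fun m' =>
    prepF md' rs fun ps _ => go md' bud' ps 0 l' q' 0 m' f

theorem meet_sound (md bud : ℤ) (p : List (Raw × ℤ)) (l q mm : ℤ) (f : List ℤ → Bool)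
    (h : ∀ a ∈ p, a.2 ∈ a.1.opts ∧ 0 ≤ a.1.w) (hs : sorted 0 p) (hl : l + sumL p = 0) (hq : q + sumQ p = 0)
    (hb : sumB p ≤ bud) (hm : 0 ≤ mm + sumE p) (hm' : (mm + sumE p) % md = 0)
    (hgo : meet md bud (p.map Prod.fst) l q mm f = true) : f (p.map Prod.snd) = true := by
  simp only [meet, forceI_eq, prepF_eq] at hgo
  exact go_sound md bud p 0 l q 0 mm f h hs hl hq (by linarith) hm hm' hgo

/-- the matrix of inner products over a multiset -/
def gramOf {α : Type} (S : Multiset α) (g : List (α → ℤ)) : List (List ℤ) :=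
  g.map fun a => g.map fun b => (S.map fun x => a x * b x).sum

/-- a test satisfied by every matrix of inner products -/
def psd : ℕ → List (List ℤ) → Bool
  | n + 1, (a :: row) :: rest =>
    forceI a fun a' =>
      decide (0 ≤ a') && if a' = 0 then row.all (fun x => decide (x = 0)) && psd n (rest.map List.tail)
        else psd n (rest.map fun r => List.zipWith (fun x y => a' * x - r.headI * y) r.tail row)
  | _, _ => true

theorem psd_sound {α : Type} (S : Multiset α) : ∀ (g : List (α → ℤ)) (t : ℤ) (M : List (List ℤ)), 0 < t →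
    M.map (fun r => r.map (t * ·)) = gramOf S g → psd g.length M = true
  | [], _, M, _, h => by
    cases M with
    | nil => rfl
    | cons => simp [gramOf] at h
  | g0 :: gs, t, M, ht, h => by
    simp only [gramOf, List.map_cons] at h
    obtain ⟨r0, rest, rfl, h1, h2⟩ := List.map_eq_cons_iff.1 h
    obtain ⟨a, row, rfl, ha, hrow⟩ := List.map_eq_cons_iff.1 h1
    set A := (S.map fun x => g0 x * g0 x).sum with hA
    have hA0 : 0 ≤ A := Multiset.sum_nonneg fun v hv => by
      obtain ⟨x, -, rfl⟩ := Multiset.mem_map.1 hv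
      exact mul_self_nonneg _
    have ha0 : 0 ≤ a := nonneg_of_mul_nonneg_right (by rw [ha]; exact hA0) ht
    simp only [List.length_cons, psd, forceI_eq, Bool.and_eq_true, decide_eq_true_eq]
    refine ⟨ha0, ?_⟩
    -- the rows of what is left
    have hlen : rest.length = gs.length := by simpa using congrArg List.length h2
    split_ifs with h0
    · simp only [Bool.and_eq_true, List.all_eq_true, decide_eq_true_eq]
      subst h0
      rw [mul_zero] at ha
      have hz : ∀ x ∈ S, g0 x = 0 := fun x hx => by
        have h3 := Multiset.single_le_sum (fun v hv => by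
          obtain ⟨y, -, rfl⟩ := Multiset.mem_map.1 hv
          exact mul_self_nonneg _) _ (Multiset.mem_map_of_mem (fun x => g0 x * g0 x) hx)
        rw [← hA, ← ha] at h3
        exact mul_self_eq_zero.1 (le_antisymm h3 (mul_self_nonneg _))
      refine ⟨fun y hy => ?_, psd_sound S gs t _ ht ?_⟩
      · have := List.mem_map_of_mem (f := (t * ·)) hy
        rw [hrow, List.mem_map] at this
        obtain ⟨b, -, hb⟩ := this
        rw [Multiset.map_congr rfl fun x hx => by rw [hz x hx, zero_mul], Multiset.map_const',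
          Multiset.sum_replicate, smul_zero] at hb
        exact (mul_eq_zero.1 hb.symm).resolve_left ht.ne'
      · rw [gramOf]
        have h4 := congrArg (List.map List.tail) h2
        simp only [List.map_map, Function.comp_def, List.tail_cons] at h4 ⊢
        rw [← h4]
        exact List.map_congr_left fun r _ => by simp
    · have hA1 : 0 < A := by rw [← ha]; exact mul_pos ht (lt_of_le_of_ne ha0 (Ne.symm h0))
      let c : (α → ℤ) → ℤ := fun b => (S.map fun x => b x * g0 x).sum
      have hc : ∀ b : α → ℤ, (S.map fun x => g0 x * b x).sum = c b := fun b =>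
        congrArg Multiset.sum (Multiset.map_congr rfl fun x _ => mul_comm _ _)
      let hh : (α → ℤ) → α → ℤ := fun b x => A * b x - c b * g0 x
      have key : ∀ b b' : α → ℤ, (S.map fun x => hh b x * hh b' x).sum =
          A * (A * (S.map fun x => b x * b' x).sum - c b * c b') := fun b b' => by
        have e : ∀ x, hh b x * hh b' x = A * A * (b x * b' x) - A * c b' * (b x * g0 x) - A * c b * (g0 x * b' x) +
            c b * c b' * (g0 x * g0 x) := fun x => by simp only [hh]; ring
        simp only [e, Multiset.sum_map_add, Multiset.sum_map_sub, Multiset.sum_map_mul_left]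
        rw [hc b', show (S.map fun x => b x * g0 x).sum = c b from rfl, ← hA]
        ring
      have hpsd := psd_sound S (gs.map hh) (A * (t * t))
        (rest.map fun r => List.zipWith (fun x y => a * x - r.headI * y) r.tail row) (by positivity) ?_
      · rwa [List.length_map] at hpsd
      refine List.ext_getElem (by simp [gramOf, hlen]) fun i hi hi' => ?_
      simp only [gramOf, List.length_map] at hi hi'
      simp only [gramOf, List.getElem_map]
      have hr := List.getElem_of_eq h2 (i := i) (by simpa using hlen ▸ hi')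
      simp only [List.getElem_map] at hr
      generalize rest[i] = ri at hr ⊢
      obtain ⟨p0, pt, rfl, hp0, hpt⟩ := List.map_eq_cons_iff.1 hr
      have hpl : pt.length = gs.length := by simpa using congrArg List.length hpt
      have hrl : row.length = gs.length := by simpa using congrArg List.length hrow
      refine List.ext_getElem (by simp [hpl, hrl]) fun j hj hj' => ?_
      simp only [List.length_map] at hj'
      simp only [List.getElem_map, List.getElem_zipWith, List.headI_cons, List.tail_cons]
      have e1 := List.getElem_of_eq hpt (i := j) (by simpa [hpl] using hj')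
      have e2 := List.getElem_of_eq hrow (i := j) (by simpa [hrl] using hj')
      simp only [List.getElem_map] at e1 e2
      rw [key, ← e1, ← hc gs[j], ← e2, ← show t * p0 = c gs[i] from hp0]
      linear_combination (A * t * pt[j]) * ha
termination_by g => g.length
decreasing_by all_goals simp

end Cfsg.Agent.MTwentyFour.ByOrder.RowA
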