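import Cfsg.Agent.Lib.Spor.MTwentyFourOrder.RowA.CheckSound
import Cfsg.Agent.Lib.Spor.MTwentyFourOrder.FiveSideArith

/-!
The tables of kinds, values at the involution and residues hold every possibility.
-/

set_option autoImplicit false
set_option maxRecDepth 100000
set_option maxHeartbeats 2000000

namespace Cfsg.Agent.MTwentyFour.ByOrder.RowA

open Cfsg.Agent.MTwentyFour.ByOrder.ThreeCase (zopts ordM)
open Cfsg.Agent.MTwentyFour.ByOrder.FiveSide (opts fok)

/-- the kinds of members of degree divisible by twenty-three are listed -/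
theorem kind_table : (List.range 15647).all (fun d =>
    !(decide (2 ≤ d) && decide (ordM % d = 0) && decide (d % 23 = 0) && decide (d ≠ 23) &&
        [0, 1, 10].contains (d % 11)) ||
      ((if d % 5 = 0 then [(0 : ℤ)] else opts 12 d).all fun f =>
        if d % 253 = 0 then wTypes.contains (d, f)
        else if d % 5 = 0 then yZero.contains d else yFive.any fun q => q.1 == d && q.2.1 == f)) = true := by
  decide +kernel

theorem ztab_all : zTab.all (fun q => q.2.all fun p => (zopts q.1 p.1).all fun x => p.2.contains x) = true := by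
  decide +kernel

theorem tget_mem {β : Type} : ∀ (t : List (ℕ × β)) (a : ℕ) (dflt : β),
    tget t a dflt = dflt ∨ ∃ q ∈ t, q.1 = a ∧ tget t a dflt = q.2
  | [], _, _ => Or.inl rfl
  | (k, v) :: t, a, dflt => by
    simp only [tget]
    split_ifs with h
    · exact Or.inr ⟨(k, v), List.mem_cons_self, h, rfl⟩
    · rcases tget_mem t a dflt with h' | ⟨q, hq, h1, h2⟩
      exacts [Or.inl h', Or.inr ⟨q, List.mem_cons_of_mem _ hq, h1, h2⟩]

theorem mem_zget {C d : ℕ} {x : ℤ} (h : x ∈ zopts C d) : x ∈ zget C d := by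
  simp only [zget]
  rcases tget_mem (tget zTab C []) d (zopts C d) with e | ⟨p, hp, hpd, e⟩
  · rw [e]; exact h
  rcases tget_mem zTab C ([] : List (ℕ × List ℤ)) with e' | ⟨q, hq, hqC, e'⟩
  · rw [e'] at hp; exact absurd hp List.not_mem_nil
  · rw [e'] at hp
    rw [e]
    subst hqC; subst hpd
    exact List.contains_iff_mem.1 (List.all_eq_true.1 (List.all_eq_true.1 (List.all_eq_true.1 ztab_all q hq) p hp) x h)

/-- a residue is possible for a value and a number of conjugates -/
def resOk (n : ℕ) (f : ℤ) (r : ℕ) : Bool :=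
  [-2, -1, 1, 2].any fun a : ℤ =>
    let m := ((n : ℤ) * f) / a
    decide (a * m = (n : ℤ) * f) && decide (0 < m) && decide (48 % m = 0) &&
      (List.range (m.toNat + 1)).any fun i : ℕ => decide (((n : ℤ) * (r : ℤ) - a * (2 * (i : ℤ) - m)) % 5 = 0)

theorem res_table : resTab.all (fun q => (List.range 5).all fun r => !resOk q.1.2 q.1.1 r || q.2.contains r) = true := by
  decide +kernel

theorem rget_mem : ∀ (t : List ((ℤ × ℕ) × List ℕ)) (f : ℤ) (n r : ℕ), r < 5 →
    (∀ q ∈ t, q.1 = (f, n) → r ∈ q.2) → r ∈ rget t f n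
  | [], _, _, r, hr, _ => by simp only [rget, List.mem_cons, List.not_mem_nil, or_false]; omega
  | ((f', n'), l) :: t, f, n, r, hr, h => by
    simp only [rget]
    split_ifs with e
    · exact h _ List.mem_cons_self (by rw [e.1, e.2])
    · exact rget_mem t f n r hr fun q hq => h q (List.mem_cons_of_mem _ hq)

theorem mem_rget {n m : ℕ} {a w f z : ℤ} (hm : m ∣ 48) (ha : a * a ≤ 5) (hw : |w| ≤ (m : ℤ)) (hw2 : (2 : ℤ) ∣ w - m)
    (hnf : (n : ℤ) * f ≠ 0) (he : (n : ℤ) * f = a * m) (hz : (5 : ℤ) ∣ (n : ℤ) * z - a * w) :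
    (z % 5).toNat ∈ rget resTab f n := by
  refine rget_mem _ _ _ _ (by omega) fun q hq hq1 => ?_
  have h := List.all_eq_true.1 (List.all_eq_true.1 res_table q hq) (z % 5).toNat (List.mem_range.2 (by omega))
  rw [hq1] at h
  simp only [Bool.or_eq_true, Bool.not_eq_true', List.contains_iff_mem] at h
  refine h.resolve_left fun hf => ?_
  rw [← Bool.not_eq_true] at hf
  refine hf ?_
  have ha0 : a ≠ 0 := fun h => hnf (by rw [he, h, zero_mul])
  have hm0 : 0 < m := Nat.pos_of_ne_zero fun h => hnf (by rw [he, h, Nat.cast_zero, mul_zero])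
  have hab : -2 ≤ a ∧ a ≤ 2 := by constructor <;> nlinarith
  simp only [resOk, List.any_eq_true, Bool.and_eq_true, decide_eq_true_eq, List.mem_range]
  refine ⟨a, by simp; omega, ?_⟩
  rw [he, Int.mul_ediv_cancel_left _ ha0]
  obtain ⟨hl, hu⟩ := abs_le.1 hw
  refine ⟨⟨⟨rfl, by exact_mod_cast hm0⟩, Int.emod_eq_zero_of_dvd (by exact_mod_cast hm)⟩, ((w + m) / 2).toNat,
    by omega, ?_⟩
  have hi : (2 : ℤ) * (((w + m) / 2).toNat : ℤ) - m = w := by omega
  rw [hi]
  obtain ⟨k, hk⟩ := hz
  refine Int.emod_eq_zero_of_dvd ⟨k - (n : ℤ) * (z / 5), ?_⟩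
  rw [show (((z % 5).toNat : ℕ) : ℤ) = z % 5 by omega, Int.emod_def]
  linear_combination hk

end Cfsg.Agent.MTwentyFour.ByOrder.RowA
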