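import Cfsg.Agent.Lib.Spor.MTwentyFourOrder.RowA.Orbit
import Cfsg.Agent.Lib.Spor.MTwentyFourOrder.RowA.Kinds
import Cfsg.Agent.Lib.Spor.MTwentyFourOrder.FiveSideZed

/-!
A simple group of the order of the Mathieu group of degree twenty-four, centraliser of order sixty with the first row:
the facts about single characters, the sums over all of them, and the blocks at five and seven as the checks need them.
-/

set_option autoImplicit false
set_option linter.unusedSectionVars false
set_option maxRecDepth 100000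
set_option maxHeartbeats 2000000

namespace Cfsg.Agent.MTwentyFour.ByOrder.RowA

open Cfsg Cfsg.Agent.Char Cfsg.Agent.Small.Order459648 Cfsg.Agent.Char.PrimeSylowCount
open Cfsg.Agent.MTwelve.OrderFront (val_one)
open Cfsg.Agent.MTwentyFour.ByOrder.Ten (TCol w11 w23 mEl)
open Cfsg.Agent.MTwentyFour.ByOrder.FiveColumn (FCol)
open Cfsg.Agent.MTwentyFour.ByOrder.FiveRow (FiveData rowA mOf_eq)
open Cfsg.Agent.MTwentyFour.ByOrder.ThreeCase (s11 c23 wt nd ordM xl gl deg_pos' int_form weighted_deg)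
open Cfsg.Agent.MTwentyFour.ByOrder.FiveSide (Pr fok opts deg_table mem_opts dv5 room isItem isItem_iff)
open scoped _root_.Classical

universe u

variable {G : Type u} [Group G] [Fintype G] [IsSimpleGroup G]

local instance fact_fiveFacts : Fact (Nat.Prime 5) := ⟨by norm_num⟩
local instance fact_sevenFacts : Fact (Nat.Prime 7) := ⟨by norm_num⟩
local instance fact_elevenFacts : Fact (Nat.Prime 11) := ⟨by norm_num⟩

/-- The setting. -/
structure Setting (P : Sylow 11 G) (g : G) (z : IrrCharacter G → ℤ) (C : ℕ) (Q : Sylow 5 G) (M : Ideal AlgInt)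
    (c : Fin 4 → IrrCharacter G) (φ : IrrCharacter G → ℤ) : Prop where
  T : TCol P g z C
  D : FiveData g Q 12 M c rowA
  F : FCol g z C 12 c φ
  hno : ∀ χ : IrrCharacter G, charDegree (χ : G → ℂ) ≠ 23

variable {P : Sylow 11 G} {g : G} {z : IrrCharacter G → ℤ} {C : ℕ} {Q : Sylow 5 G} {M : Ideal AlgInt}
  {c : Fin 4 → IrrCharacter G} {φ : IrrCharacter G → ℤ}

/-- the column data of a character -/
noncomputable def mb (φ z : IrrCharacter G → ℤ) (χ : IrrCharacter G) : Mb := ⟨charDegree (χ : G → ℂ), φ χ, z χ⟩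

/-- the number of conjugates, or zero for a degree divisible by five -/
noncomputable def conjNum (hG : Nat.card G = 244823040) (χ : IrrCharacter G) : ℕ :=
  if 5 ∣ charDegree (χ : G → ℂ) then 0 else ((sfive hG).orb χ).card

namespace Setting

theorem member (S : Setting P g z C Q M c φ) :
    (charDegree (c 0 : G → ℂ) = 1771 ∧ φ (c 0) = 1) ∧ (charDegree (c 1 : G → ℂ) = 2024 ∧ φ (c 1) = -1) ∧
      (charDegree (c 2 : G → ℂ) = 5544 ∧ φ (c 2) = -1) ∧ charDegree (c 3 : G → ℂ) = 5796 ∧ φ (c 3) = 1 := by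
  have h := S.D.row
  simp [rowA, List.ofFn_succ] at h
  obtain ⟨h0, h1, h2, h3⟩ := h
  have e0 := S.F.member 0
  have e1 := S.F.member 1
  have e2 := S.F.member 2
  have e3 := S.F.member 3
  refine ⟨⟨?_, ?_⟩, ⟨?_, ?_⟩, ⟨?_, ?_⟩, ?_, ?_⟩ <;> split_ifs at h0 h1 h2 h3 e0 e1 e2 e3 <;> omega

theorem principal_sum (S : Setting P g z C Q M c φ) {β : Type} [AddCommMonoid β] (f : IrrCharacter G → β) :
    ∑ χ ∈ insert oneChar (Finset.univ.image c), f χ = f oneChar + (f (c 0) + f (c 1) + f (c 2) + f (c 3)) := by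
  rw [Finset.sum_insert (by simpa using fun i => S.D.ne_one i), Finset.sum_image fun i _ j _ e => S.D.inj e,
    Fin.sum_univ_four]

theorem mem_principal (S : Setting P g z C Q M c φ) {χ : IrrCharacter G} :
    χ ∈ principalBlock M G ↔ χ ∈ insert oneChar (Finset.univ.image c) := by
  rw [S.D.mem_iff, Finset.mem_insert, Finset.mem_image]
  simp

/-- the squares left outside the principal block -/
theorem rest_f (S : Setting P g z C Q M c φ) (X : Finset (IrrCharacter G)) (hX : ∀ χ ∈ X, χ ∉ principalBlock M G) :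
    ∑ χ ∈ X, φ χ * φ χ ≤ 55 := by
  have hdisj : Disjoint (insert oneChar (Finset.univ.image c)) X :=
    Finset.disjoint_left.2 fun χ h h' => hX χ h' (S.mem_principal.2 h)
  have h := Finset.sum_le_sum_of_subset_of_nonneg (f := fun χ => φ χ * φ χ)
    (Finset.subset_univ (insert oneChar (Finset.univ.image c) ∪ X)) fun i _ _ => mul_self_nonneg _
  rw [S.F.square, Finset.sum_union hdisj, S.principal_sum, S.F.one] at h
  obtain ⟨⟨-, e0⟩, ⟨-, e1⟩, ⟨-, e2⟩, -, e3⟩ := S.member
  rw [e0, e1, e2, e3] at h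
  norm_num at h
  linarith

theorem rest_d (S : Setting P g z C Q M c φ) (X : Finset (IrrCharacter G)) (hX : ∀ χ ∈ X, χ ∉ principalBlock M G) :
    ∑ χ ∈ X, charDegree (χ : G → ℂ) * charDegree (χ : G → ℂ) + (1 + 1771 * 1771 + 2024 * 2024 + 5544 * 5544 +
      5796 * 5796) ≤ 244823040 := by
  have hdisj : Disjoint (insert oneChar (Finset.univ.image c)) X :=
    Finset.disjoint_left.2 fun χ h h' => hX χ h' (S.mem_principal.2 h)
  have h := Finset.sum_le_sum_of_subset_of_nonneg
    (f := fun χ : IrrCharacter G => (charDegree (χ : G → ℂ) : ℤ) * (charDegree (χ : G → ℂ) : ℤ))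
    (Finset.subset_univ (insert oneChar (Finset.univ.image c) ∪ X)) fun i _ _ => mul_self_nonneg _
  rw [(weighted_deg (G := G) S.T.order S.T).1, Finset.sum_union hdisj, S.principal_sum] at h
  obtain ⟨⟨e0, -⟩, ⟨e1, -⟩, ⟨e2, -⟩, e3, -⟩ := S.member
  rw [e0, e1, e2, e3, show charDegree ((oneChar : IrrCharacter G) : G → ℂ) = 1 by simp [oneChar, charDegree]] at h
  push_cast at h
  have h' : ((∑ χ ∈ X, charDegree (χ : G → ℂ) * charDegree (χ : G → ℂ) + (1 + 1771 * 1771 + 2024 * 2024 +
      5544 * 5544 + 5796 * 5796) : ℕ) : ℤ) ≤ ((244823040 : ℕ) : ℤ) := by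
    push_cast
    linarith
  exact_mod_cast h'

/-- the value at the element of order five and the class of the degree -/
theorem single (S : Setting P g z C Q M c φ) {χ : IrrCharacter G} (hχ : χ ∉ principalBlock M G) :
    ((charDegree (χ : G → ℂ) % 5 = 0 ∨ charDegree (χ : G → ℂ) ∈ dv5) ∧
      (if (w23 (charDegree (χ : G → ℂ))).natAbs = 2 then charDegree (χ : G → ℂ) ∈ xl
        else if (w23 (charDegree (χ : G → ℂ))).natAbs = 1 then charDegree (χ : G → ℂ) ∈ gl
        else charDegree (χ : G → ℂ) % 23 = 0)) ∧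
    (charDegree (χ : G → ℂ) % 23 = 0 → if charDegree (χ : G → ℂ) % 253 = 0 then
        (charDegree (χ : G → ℂ), φ χ) ∈ wTypes else yKind (charDegree (χ : G → ℂ), φ χ)) ∧
    (¬ 5 ∣ charDegree (χ : G → ℂ) → isItem 12 (charDegree (χ : G → ℂ), φ χ) = true ∧ φ χ ≠ 0) := by
  have hG := S.T.order
  set d := charDegree (χ : G → ℂ) with hd
  have hne1 : χ ≠ oneChar := fun e => hχ ((S.D.mem_iff χ).2 (Or.inl e))
  obtain ⟨h2, hoff⟩ := Eleven.deg_range hG hne1
  simp only [Eleven.off] at hoff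
  have hrange : d ∈ List.range 15647 := List.mem_range.2 (by simp only [d]; omega)
  have h := List.all_eq_true.1 deg_table d hrange
  have h23 := Eleven.deg_res hG χ
  have h11 := deg_res_eleven hG χ
  simp only [Eleven.res, List.mem_cons, List.not_mem_nil, or_false] at h23
  simp only [Five.resEleven, List.mem_cons, List.not_mem_nil, or_false] at h11
  have hne11 : d ≠ 11 := MathieuByGraph.deg_ne_eleven (na hG) (by rw [hG]; norm_num) (by rw [hG]; norm_num)
    (by rw [hG]; norm_num) hne1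
  have hdvd := Nat.mod_eq_zero_of_dvd (ThreeCase.deg_dvd hG χ)
  have hcond : (decide (2 ≤ d) && decide (ordM % d = 0) && decide (d ≠ 11) &&
      decide (d ≠ 23) && [0, 1, 22, 11, 12].contains (d % 23) &&
      [0, 1, 10].contains (d % 11)) = true := by
    simp only [Bool.and_eq_true, decide_eq_true_eq, List.contains_iff_mem, List.mem_cons, List.not_mem_nil,
      or_false]
    refine ⟨⟨⟨⟨⟨h2, hdvd⟩, hne11⟩, S.hno χ⟩, ?_⟩, h11⟩
    simp only [d]
    omega
  rw [hcond, Bool.not_true, Bool.false_or, Bool.and_eq_true, Bool.or_eq_true, decide_eq_true_eq,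
    List.contains_iff_mem] at h
  have hfsq := S.rest_f {χ} (by simpa using hχ)
  rw [Finset.sum_singleton] at hfsq
  have hfok : fok 12 d (φ χ) = true := by
    obtain ⟨b1, b2, b3⟩ := S.F.bound χ
    have h1 := Int.emod_eq_zero_of_dvd (S.F.congr χ)
    have h2' := Int.emod_eq_zero_of_dvd (S.F.class_dvd χ)
    simp only [fok, d, Bool.and_eq_true]
    exact ⟨⟨⟨⟨decide_eq_true (by push_cast; linarith), decide_eq_true h1⟩, decide_eq_true b3⟩, decide_eq_true b2⟩,
      decide_eq_true h2'⟩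
  refine ⟨⟨h.1, ?_⟩, fun h0 => ?_, fun h5 => ⟨?_, fun e => ?_⟩⟩
  · have h' := h.2
    split_ifs at h' ⊢ <;> first | exact List.contains_iff_mem.1 h' | exact of_decide_eq_true h'
  · have hk := List.all_eq_true.1 kind_table d hrange
    have hc : (decide (2 ≤ d) && decide (ordM % d = 0) && decide (d % 23 = 0) && decide (d ≠ 23) &&
        [0, 1, 10].contains (d % 11)) = true := by
      simp only [Bool.and_eq_true, decide_eq_true_eq, List.contains_iff_mem, List.mem_cons, List.not_mem_nil,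
        or_false]
      exact ⟨⟨⟨⟨h2, hdvd⟩, h0⟩, S.hno χ⟩, h11⟩
    rw [hc, Bool.not_true, Bool.false_or] at hk
    have hmem : φ χ ∈ (if d % 5 = 0 then [(0 : ℤ)] else opts 12 d) := by
      split_ifs with h5
      · rw [S.F.zero χ (Nat.dvd_of_mod_eq_zero h5)]; exact List.mem_singleton_self _
      · exact mem_opts (by norm_num) hfok
    have hf := List.all_eq_true.1 hk _ hmem
    split_ifs with h253
    · simpa [h253] using hf
    · rw [if_neg h253] at hf
      by_cases h5 : d % 5 = 0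
      · rw [if_pos h5] at hf
        exact Or.inr ⟨List.contains_iff_mem.1 hf, S.F.zero χ (Nat.dvd_of_mod_eq_zero h5)⟩
      · rw [if_neg h5] at hf
        obtain ⟨q, hq, he⟩ := List.any_eq_true.1 hf
        simp only [Bool.and_eq_true, beq_iff_eq] at he
        exact Or.inl ⟨q, hq, Prod.ext he.1 he.2⟩
  · exact isItem_iff.2 ⟨h.1.resolve_left fun e => h5 (Nat.dvd_of_mod_eq_zero e), hfok⟩
  · have h1 := S.F.congr χ
    rw [e, sub_zero] at h1
    exact h5 (by exact_mod_cast h1)

/-- the value at the involution is among the listed ones -/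
theorem zget_mem (S : Setting P g z C Q M c φ) (χ : IrrCharacter G) : z χ ∈ zget C (charDegree (χ : G → ℂ)) := by
  refine mem_zget (ThreeCase.mem_zopts S.T.le ?_)
  obtain ⟨hb, h2⟩ := S.T.bound χ
  obtain ⟨hl, hu⟩ := abs_le.1 hb
  have hzz : z χ * z χ ≤ (C : ℤ) := by
    rw [← S.T.square]
    exact Finset.single_le_sum (f := fun χ => z χ * z χ) (fun i _ => mul_self_nonneg _) (Finset.mem_univ χ)
  simp only [ThreeCase.zok, Bool.and_eq_true, Bool.or_eq_true, decide_eq_true_eq]
  simp only [mOf_eq]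
  refine ⟨⟨⟨⟨⟨⟨hzz, Int.emod_eq_zero_of_dvd (S.T.four χ)⟩, Int.emod_eq_zero_of_dvd h2⟩, ?_⟩, by linarith⟩, hu⟩,
    Int.emod_eq_zero_of_dvd (S.T.class_dvd χ)⟩
  by_cases h5 : 5 ∣ charDegree (χ : G → ℂ)
  · exact Or.inr (Int.emod_eq_zero_of_dvd (S.F.ten χ h5))
  · exact Or.inl fun h => h5 (Nat.dvd_of_mod_eq_zero h)

/-- the number of conjugates and the residue at the involution -/
theorem conj_num (S : Setting P g z C Q M c φ) {χ : IrrCharacter G} (hχ : χ ∉ principalBlock M G)
    (h5 : ¬ 5 ∣ charDegree (χ : G → ℂ)) :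
    conjNum S.T.order χ ∈ [1, 2, 4] ∧ (z χ % 5).toNat ∈ rget resTab (φ χ) (conjNum S.T.order χ) ∧
      ∀ ψ ∈ (sfive S.T.order).orb χ, ψ ∉ principalBlock M G ∧ charDegree (ψ : G → ℂ) = charDegree (χ : G → ℂ) ∧
        φ ψ = φ χ ∧ z ψ = z χ ∧ conjNum S.T.order ψ = conjNum S.T.order χ := by
  obtain ⟨m, a, w, hn, hm, ha, hw, hw2, he, hz⟩ := orb_value S.T S.D S.F χ h5
  have hpos : 0 < ((sfive S.T.order).orb χ).card := Finset.card_pos.2 ⟨χ, (sfive S.T.order).self_mem χ⟩
  have hn4 : ((sfive S.T.order).orb χ).card ∈ [1, 2, 4] := by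
    have h1 := Nat.le_of_dvd (by norm_num) hn
    revert hn hpos
    generalize ((sfive S.T.order).orb χ).card = n at h1 ⊢
    intro hn hpos
    interval_cases n <;> simp_all
  have hnc : conjNum S.T.order χ = ((sfive S.T.order).orb χ).card := if_neg h5
  rw [hnc]
  refine ⟨hn4, mem_rget (by simpa using hm) ha hw hw2
    (mul_ne_zero (by exact_mod_cast hpos.ne') ((S.single hχ).2.2 h5).2) he hz, fun ψ hψ => ?_⟩
  obtain ⟨e, N, X, Y, y, σ, v, ⟨-, -, -, -, h0m, -, hmem, -⟩, hXo, hYo, -⟩ :=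
    five_full S.T S.D S.F (t := fun χ => (charDegree (χ : G → ℂ), φ χ)) (fun _ => rfl) χ h5
  have hψB : ψ ∈ blockOf M (χ : G → ℂ) := by
    rcases Finset.mem_union.1 h0m with h | h
    · rw [hXo χ h, Finset.mem_singleton] at hψ
      rw [hψ]; exact (hmem χ h0m).2
    · rw [hYo χ h] at hψ
      exact (hmem ψ (Finset.mem_union_right _ hψ)).2
  obtain ⟨h1, h2, h3⟩ := orb_same S.T S.F hψ
  refine ⟨Cover.not_mem_principal S.D.modular hχ hψB, h1, h2, h3, ?_⟩
  rw [conjNum, if_neg (by rw [h1]; exact h5), orb_eq _ hψ]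

end Setting

end Cfsg.Agent.MTwentyFour.ByOrder.RowA
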