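import Cfsg.Agent.Lib.Spor.MTwentyFourOrder.RowA.Block

/-!
The tables for a centraliser of order sixty with the first row: the local values, the members outside the block of
twenty-three and the residues modulo five.
-/

set_option autoImplicit false
set_option maxRecDepth 100000

namespace Cfsg.Agent.MTwentyFour.ByOrder.RowA

/-- the centraliser orders of the involution with the values on the row -/
def tuples : List (ℕ × List ℤ) :=
  [
    (1920, [(-9), 24, (-16), 16]), (2560, [(-9), 4, (-36), (-24)]), (2880, [(-9), 4, (-36), (-24)]),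
    (2880, [11, 24, 24, 36]), (2880, [31, (-16), 24, (-24)]), (3840, [(-9), (-36), 44, 16]),
    (3840, [(-9), 4, (-36), (-24)]), (3840, [11, (-16), (-16), (-44)]), (3840, [11, 24, 24, 36]),
    (3840, [31, 4, 44, 16]), (3840, [31, 44, 4, 16]), (5760, [(-29), 44, (-36), 36]),
    (5760, [(-9), 4, (-36), (-24)]), (5760, [11, 24, 24, 36]), (5760, [31, (-16), 24, (-24)]),
    (7680, [(-9), (-36), 44, 16]), (7680, [(-9), 4, (-36), (-24)]), (7680, [11, 24, 24, 36]),
    (7680, [31, (-36), 4, (-64)]), (7680, [51, (-16), 64, (-4)]), (7680, [51, 64, (-16), (-4)]),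
    (8640, [(-29), 44, (-36), 36]), (11520, [(-9), 4, (-36), (-24)]), (11520, [11, 24, 24, 36]),
    (13440, [(-49), 64, (-56), 56]), (15360, [(-29), (-16), 64, 76]), (15360, [(-29), 64, (-16), 76]),
    (15360, [51, (-16), 64, (-4)]), (15360, [51, 64, (-16), (-4)])]

/-- the degrees divisible by two hundred and fifty-three, with their values -/
def wTypes : List (ℕ × ℤ) :=
  [
    (253, (-2)), (253, 3), (506, (-4)), (506, 1), (506, 6), (759, (-6)), (759, (-1)), (759, 4), (1012, (-3)),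
    (1012, 2), (1012, 7), (1265, 0), (1518, (-7)), (1518, (-2)), (1518, 3), (1771, (-4)), (1771, 1), (1771, 6),
    (2024, (-6)), (2024, (-1)), (2024, 4), (2277, (-3)), (2277, 2), (2277, 7), (2530, 0), (3036, (-4)),
    (3036, 1), (3036, 6), (3542, (-3)), (3542, 2), (3542, 7), (3795, 0), (4048, (-7)), (4048, (-2)), (4048, 3),
    (4554, (-6)), (4554, (-1)), (4554, 4), (5060, 0), (5313, (-7)), (5313, (-2)), (5313, 3), (6072, (-3)),
    (6072, 2), (6072, 7), (6831, 6), (7084, (-6)), (7084, (-1)), (7084, 4), (7590, 0), (8096, (-4)), (8096, 1),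
    (8096, 6), (8855, 0), (9108, (-7)), (9108, (-2)), (9108, 3), (10120, 0), (10626, (-4)), (10626, 1),
    (10626, 6), (11385, 0), (12144, (-6)), (12144, (-1)), (12144, 4), (13662, (-3)), (14168, (-7)),
    (14168, (-2)), (14168, 3), (15180, 0)]

/-- the members outside the blocks of twenty-three of degree prime to five, with the divisor of what is to come -/
def yFive : List (ℕ × ℤ × ℤ) :=
  [
    (5796, 1, 120), (5796, (-4), 120), (3312, 7, 120), (3312, 2, 120), (8832, 7, 360), (8832, (-3), 360),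
    (15456, 6, 720), (15456, 1, 720), (15456, (-4), 720), (8832, 2, 720), (5796, 6, 720), (3312, (-3), 720),
    (1288, 3, 720), (1288, (-2), 720), (1288, (-7), 720), (1242, (-3), 720), (736, 6, 720), (736, 1, 720),
    (736, (-4), 720), (483, 3, 720), (483, (-2), 720), (483, (-7), 720), (276, 6, 720), (276, 1, 720),
    (276, (-4), 720)]

/-- the members outside the blocks of twenty-three of degree divisible by five -/
def yZero : List ℕ :=
  [
    12880, 12420, 7360, 4830, 2760, 1035, 230]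

/-- the residues modulo five of the values at the involution, by the value and the number of conjugates -/
def resTab : List ((ℤ × ℕ) × List ℕ) :=
  [
    (((-7), 1), []), (((-7), 2), []), (((-7), 4), []), (((-6), 1), [0, 1, 2, 3, 4]),
    (((-6), 2), [0, 1, 2, 3, 4]), (((-6), 4), [0, 1, 2, 3, 4]), (((-4), 1), [0, 1, 2, 3, 4]),
    (((-4), 2), [0, 1, 2, 3, 4]), (((-4), 4), [0, 1, 2, 3, 4]), (((-3), 1), [1, 2, 3, 4]),
    (((-3), 2), [0, 1, 2, 3, 4]), (((-3), 4), [0, 1, 2, 3, 4]), (((-2), 1), [0, 2, 3]),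
    (((-2), 2), [0, 1, 2, 3, 4]), (((-2), 4), [0, 1, 2, 3, 4]), (((-1), 1), [1, 4]), (((-1), 2), [0, 1, 4]),
    (((-1), 4), [0, 1, 2, 3, 4]), ((1, 1), [1, 4]), ((1, 2), [0, 1, 4]), ((1, 4), [0, 1, 2, 3, 4]),
    ((2, 1), [0, 2, 3]), ((2, 2), [0, 1, 2, 3, 4]), ((2, 4), [0, 1, 2, 3, 4]), ((3, 1), [1, 2, 3, 4]),
    ((3, 2), [0, 1, 2, 3, 4]), ((3, 4), [0, 1, 2, 3, 4]), ((4, 1), [0, 1, 2, 3, 4]), ((4, 2), [0, 1, 2, 3, 4]),
    ((4, 4), [0, 1, 2, 3, 4]), ((6, 1), [0, 1, 2, 3, 4]), ((6, 2), [0, 1, 2, 3, 4]), ((6, 4), [0, 1, 2, 3, 4]),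
    ((7, 1), []), ((7, 2), []), ((7, 4), [])]

/-- the values at the involution, by centraliser order and degree -/
def zTab : List (ℕ × List (ℕ × List ℤ)) :=
  [
    (1920, [
      (12, [0]), (22, [(-2), 2]), (45, [5]), (230, [(-10), 10]),
      (231, [(-21), (-17), (-13), (-9), (-5), (-1), 3, 7, 11, 15, 19]),
      (252, [(-20), (-16), (-12), (-8), (-4), 0, 4, 8, 12, 16, 20]),
      (264, [(-24), (-20), (-16), (-12), (-8), (-4), 0, 4, 8, 12, 16, 20, 24]),
      (276, [(-24), (-20), (-16), (-12), (-8), (-4), 0, 4, 8, 12, 16, 20, 24]),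
      (483, [(-41), (-37), (-33), (-29), (-25), (-21), (-17), (-13), (-9), (-5), (-1), 3, 7, 11, 15, 19, 23, 27, 31, 35, 39, 43]),
      (495, [(-25), (-5), 15, 35]),
      (528, [(-40), (-36), (-32), (-28), (-24), (-20), (-16), (-12), (-8), (-4), 0, 4, 8, 12, 16, 20, 24, 28, 32, 36, 40]),
      (540, [0]),
      (736, [(-40), (-36), (-32), (-28), (-24), (-20), (-16), (-12), (-8), (-4), 0, 4, 8, 12, 16, 20, 24, 28, 32, 36, 40]),
      (770, [(-30), (-10), 10, 30]), (990, [(-30), (-10), 10, 30]), (1035, [(-25), (-5), 15, 35]),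
      (1242, [(-42), (-30), (-18), (-6), 6, 18, 30, 42]),
      (1288, [(-40), (-36), (-32), (-28), (-24), (-20), (-16), (-12), (-8), (-4), 0, 4, 8, 12, 16, 20, 24, 28, 32, 36, 40]),
      (1540, [(-40), (-20), 0, 20, 40]), (1760, [(-40), (-20), 0, 20, 40]), (2760, [(-40), (-20), 0, 20, 40]),
      (2772, [(-40), (-36), (-32), (-28), (-24), (-20), (-16), (-12), (-8), (-4), 0, 4, 8, 12, 16, 20, 24, 28, 32, 36, 40]),
      (3312, [(-40), (-36), (-32), (-28), (-24), (-20), (-16), (-12), (-8), (-4), 0, 4, 8, 12, 16, 20, 24, 28, 32, 36, 40]),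
      (3520, [(-40), 0, 40]), (3840, [0]), (4830, [(-30), (-10), 10, 30]),
      (5544, [(-40), (-36), (-32), (-28), (-24), (-20), (-16), (-12), (-8), (-4), 0, 4, 8, 12, 16, 20, 24, 28, 32, 36, 40]),
      (5796, [(-40), (-36), (-32), (-28), (-24), (-20), (-16), (-12), (-8), (-4), 0, 4, 8, 12, 16, 20, 24, 28, 32, 36, 40]),
      (7360, [(-40), 0, 40]), (8832, [(-32), (-16), 0, 16, 32]), (10395, [15]), (11880, [0]), (12420, [0]),
      (12880, [(-40), (-20), 0, 20, 40]),
      (15456, [(-40), (-36), (-32), (-28), (-24), (-20), (-16), (-12), (-8), (-4), 0, 4, 8, 12, 16, 20, 24, 28, 32, 36, 40])]),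
    (2560, [
      (12, [0]), (22, [(-2), 2]), (45, [5]), (230, [(-10), 10]),
      (231, [(-21), (-17), (-13), (-9), (-5), (-1), 3, 7, 11, 15, 19]),
      (252, [(-20), (-16), (-12), (-8), (-4), 0, 4, 8, 12, 16, 20]),
      (264, [(-24), (-20), (-16), (-12), (-8), (-4), 0, 4, 8, 12, 16, 20, 24]),
      (276, [(-24), (-20), (-16), (-12), (-8), (-4), 0, 4, 8, 12, 16, 20, 24]),
      (483, [(-41), (-37), (-33), (-29), (-25), (-21), (-17), (-13), (-9), (-5), (-1), 3, 7, 11, 15, 19, 23, 27, 31, 35, 39, 43]),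
      (495, [(-45), (-25), (-5), 15, 35]),
      (528, [(-48), (-40), (-32), (-24), (-16), (-8), 0, 8, 16, 24, 32, 40, 48]),
      (540, [(-40), (-20), 0, 20, 40]), (736, [(-48), (-32), (-16), 0, 16, 32, 48]),
      (770, [(-50), (-30), (-10), 10, 30, 50]), (990, [(-50), (-30), (-10), 10, 30, 50]),
      (1035, [(-45), (-25), (-5), 15, 35]),
      (1242, [(-50), (-46), (-42), (-38), (-34), (-30), (-26), (-22), (-18), (-14), (-10), (-6), (-2), 2, 6, 10, 14, 18, 22, 26, 30, 34, 38, 42, 46, 50]),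
      (1288, [(-48), (-44), (-40), (-36), (-32), (-28), (-24), (-20), (-16), (-12), (-8), (-4), 0, 4, 8, 12, 16, 20, 24, 28, 32, 36, 40, 44, 48]),
      (1540, [(-40), (-20), 0, 20, 40]), (1760, [0]), (2760, [(-40), (-20), 0, 20, 40]),
      (2772, [(-48), (-44), (-40), (-36), (-32), (-28), (-24), (-20), (-16), (-12), (-8), (-4), 0, 4, 8, 12, 16, 20, 24, 28, 32, 36, 40, 44, 48]),
      (3312, [(-48), (-40), (-32), (-24), (-16), (-8), 0, 8, 16, 24, 32, 40, 48]), (3520, [0]), (3840, [0]),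
      (4830, [(-50), (-30), (-10), 10, 30, 50]),
      (5544, [(-48), (-44), (-40), (-36), (-32), (-28), (-24), (-20), (-16), (-12), (-8), (-4), 0, 4, 8, 12, 16, 20, 24, 28, 32, 36, 40, 44, 48]),
      (5796, [(-48), (-44), (-40), (-36), (-32), (-28), (-24), (-20), (-16), (-12), (-8), (-4), 0, 4, 8, 12, 16, 20, 24, 28, 32, 36, 40, 44, 48]),
      (7360, [0]), (8832, [0]), (10395, [(-45), (-25), (-5), 15, 35]), (11880, [(-40), (-20), 0, 20, 40]),
      (12420, [(-40), (-20), 0, 20, 40]), (12880, [(-40), 0, 40]), (15456, [(-48), (-32), (-16), 0, 16, 32, 48])]),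
    (2880, [
      (12, [0]), (22, [(-2), 2]), (45, []), (230, [(-10), 10]),
      (231, [(-21), (-17), (-13), (-9), (-5), (-1), 3, 7, 11, 15, 19]), (252, [(-12), 0, 12]),
      (264, [(-24), (-20), (-16), (-12), (-8), (-4), 0, 4, 8, 12, 16, 20, 24]),
      (276, [(-24), (-20), (-16), (-12), (-8), (-4), 0, 4, 8, 12, 16, 20, 24]),
      (483, [(-41), (-37), (-33), (-29), (-25), (-21), (-17), (-13), (-9), (-5), (-1), 3, 7, 11, 15, 19, 23, 27, 31, 35, 39, 43]),
      (495, [(-45), 15]),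
      (528, [(-48), (-44), (-40), (-36), (-32), (-28), (-24), (-20), (-16), (-12), (-8), (-4), 0, 4, 8, 12, 16, 20, 24, 28, 32, 36, 40, 44, 48]),
      (540, [0]),
      (736, [(-52), (-48), (-44), (-40), (-36), (-32), (-28), (-24), (-20), (-16), (-12), (-8), (-4), 0, 4, 8, 12, 16, 20, 24, 28, 32, 36, 40, 44, 48, 52]),
      (770, [(-50), (-30), (-10), 10, 30, 50]), (990, [(-30), 30]), (1035, [(-45), 15]), (1242, [(-18), 18]),
      (1288, [(-52), (-48), (-44), (-40), (-36), (-32), (-28), (-24), (-20), (-16), (-12), (-8), (-4), 0, 4, 8, 12, 16, 20, 24, 28, 32, 36, 40, 44, 48, 52]),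
      (1540, [(-40), (-20), 0, 20, 40]), (1760, [(-40), (-20), 0, 20, 40]), (2760, [(-40), (-20), 0, 20, 40]),
      (2772, [(-48), (-36), (-24), (-12), 0, 12, 24, 36, 48]),
      (3312, [(-48), (-36), (-24), (-12), 0, 12, 24, 36, 48]), (3520, [(-40), (-20), 0, 20, 40]), (3840, [0]),
      (4830, [(-50), (-30), (-10), 10, 30, 50]), (5544, [(-48), (-36), (-24), (-12), 0, 12, 24, 36, 48]),
      (5796, [(-48), (-36), (-24), (-12), 0, 12, 24, 36, 48]), (7360, [(-40), (-20), 0, 20, 40]),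
      (8832, [(-48), (-40), (-32), (-24), (-16), (-8), 0, 8, 16, 24, 32, 40, 48]), (10395, [(-45)]),
      (11880, [0]), (12420, [0]), (12880, [(-40), (-20), 0, 20, 40]),
      (15456, [(-52), (-48), (-44), (-40), (-36), (-32), (-28), (-24), (-20), (-16), (-12), (-8), (-4), 0, 4, 8, 12, 16, 20, 24, 28, 32, 36, 40, 44, 48, 52])]),
    (3840, [
      (12, [0]), (22, [(-2), 2]), (45, [5]), (230, [(-10), 10]),
      (231, [(-21), (-17), (-13), (-9), (-5), (-1), 3, 7, 11, 15, 19]),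
      (252, [(-20), (-16), (-12), (-8), (-4), 0, 4, 8, 12, 16, 20]),
      (264, [(-24), (-20), (-16), (-12), (-8), (-4), 0, 4, 8, 12, 16, 20, 24]),
      (276, [(-24), (-20), (-16), (-12), (-8), (-4), 0, 4, 8, 12, 16, 20, 24]),
      (483, [(-41), (-37), (-33), (-29), (-25), (-21), (-17), (-13), (-9), (-5), (-1), 3, 7, 11, 15, 19, 23, 27, 31, 35, 39, 43]),
      (495, [(-45), (-25), (-5), 15, 35]),
      (528, [(-48), (-44), (-40), (-36), (-32), (-28), (-24), (-20), (-16), (-12), (-8), (-4), 0, 4, 8, 12, 16, 20, 24, 28, 32, 36, 40, 44, 48]),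
      (540, [0]), (736, [(-56), (-48), (-40), (-32), (-24), (-16), (-8), 0, 8, 16, 24, 32, 40, 48, 56]),
      (770, [(-50), (-30), (-10), 10, 30, 50]), (990, [(-50), (-30), (-10), 10, 30, 50]),
      (1035, [(-45), (-25), (-5), 15, 35, 55]), (1242, [(-54), (-42), (-30), (-18), (-6), 6, 18, 30, 42, 54]),
      (1288, [(-60), (-56), (-52), (-48), (-44), (-40), (-36), (-32), (-28), (-24), (-20), (-16), (-12), (-8), (-4), 0, 4, 8, 12, 16, 20, 24, 28, 32, 36, 40, 44, 48, 52, 56, 60]),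
      (1540, [(-60), (-40), (-20), 0, 20, 40, 60]), (1760, [(-40), 0, 40]),
      (2760, [(-60), (-40), (-20), 0, 20, 40, 60]),
      (2772, [(-60), (-56), (-52), (-48), (-44), (-40), (-36), (-32), (-28), (-24), (-20), (-16), (-12), (-8), (-4), 0, 4, 8, 12, 16, 20, 24, 28, 32, 36, 40, 44, 48, 52, 56, 60]),
      (3312, [(-60), (-56), (-52), (-48), (-44), (-40), (-36), (-32), (-28), (-24), (-20), (-16), (-12), (-8), (-4), 0, 4, 8, 12, 16, 20, 24, 28, 32, 36, 40, 44, 48, 52, 56, 60]),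
      (3520, [0]), (3840, [0]), (4830, [(-50), (-30), (-10), 10, 30, 50]),
      (5544, [(-60), (-56), (-52), (-48), (-44), (-40), (-36), (-32), (-28), (-24), (-20), (-16), (-12), (-8), (-4), 0, 4, 8, 12, 16, 20, 24, 28, 32, 36, 40, 44, 48, 52, 56, 60]),
      (5796, [(-60), (-56), (-52), (-48), (-44), (-40), (-36), (-32), (-28), (-24), (-20), (-16), (-12), (-8), (-4), 0, 4, 8, 12, 16, 20, 24, 28, 32, 36, 40, 44, 48, 52, 56, 60]),
      (7360, [0]), (8832, [(-32), 0, 32]), (10395, [(-45), 15]), (11880, [(-60), 0, 60]),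
      (12420, [(-60), 0, 60]), (12880, [(-60), (-40), (-20), 0, 20, 40, 60]),
      (15456, [(-56), (-48), (-40), (-32), (-24), (-16), (-8), 0, 8, 16, 24, 32, 40, 48, 56])]),
    (5760, [
      (12, [0]), (22, [(-2), 2]), (45, []), (230, [(-10), 10]),
      (231, [(-21), (-17), (-13), (-9), (-5), (-1), 3, 7, 11, 15, 19]), (252, [(-12), 0, 12]),
      (264, [(-24), (-20), (-16), (-12), (-8), (-4), 0, 4, 8, 12, 16, 20, 24]),
      (276, [(-24), (-20), (-16), (-12), (-8), (-4), 0, 4, 8, 12, 16, 20, 24]),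
      (483, [(-41), (-37), (-33), (-29), (-25), (-21), (-17), (-13), (-9), (-5), (-1), 3, 7, 11, 15, 19, 23, 27, 31, 35, 39, 43]),
      (495, [(-45), 15]),
      (528, [(-48), (-44), (-40), (-36), (-32), (-28), (-24), (-20), (-16), (-12), (-8), (-4), 0, 4, 8, 12, 16, 20, 24, 28, 32, 36, 40, 44, 48]),
      (540, [0]),
      (736, [(-64), (-60), (-56), (-52), (-48), (-44), (-40), (-36), (-32), (-28), (-24), (-20), (-16), (-12), (-8), (-4), 0, 4, 8, 12, 16, 20, 24, 28, 32, 36, 40, 44, 48, 52, 56, 60, 64]),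
      (770, [(-70), (-50), (-30), (-10), 10, 30, 50, 70]), (990, [(-30), 30]), (1035, [(-45), 15, 75]),
      (1242, [(-54), (-18), 18, 54]),
      (1288, [(-72), (-68), (-64), (-60), (-56), (-52), (-48), (-44), (-40), (-36), (-32), (-28), (-24), (-20), (-16), (-12), (-8), (-4), 0, 4, 8, 12, 16, 20, 24, 28, 32, 36, 40, 44, 48, 52, 56, 60, 64, 68, 72]),
      (1540, [(-60), (-40), (-20), 0, 20, 40, 60]), (1760, [(-60), (-40), (-20), 0, 20, 40, 60]),
      (2760, [(-60), (-40), (-20), 0, 20, 40, 60]),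
      (2772, [(-72), (-60), (-48), (-36), (-24), (-12), 0, 12, 24, 36, 48, 60, 72]),
      (3312, [(-72), (-60), (-48), (-36), (-24), (-12), 0, 12, 24, 36, 48, 60, 72]), (3520, [(-40), 0, 40]),
      (3840, [0]), (4830, [(-70), (-50), (-30), (-10), 10, 30, 50, 70]),
      (5544, [(-72), (-60), (-48), (-36), (-24), (-12), 0, 12, 24, 36, 48, 60, 72]),
      (5796, [(-72), (-60), (-48), (-36), (-24), (-12), 0, 12, 24, 36, 48, 60, 72]), (7360, [(-40), 0, 40]),
      (8832, [(-64), (-48), (-32), (-16), 0, 16, 32, 48, 64]), (10395, [(-45)]), (11880, [0]), (12420, [0]),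
      (12880, [(-60), (-40), (-20), 0, 20, 40, 60]),
      (15456, [(-72), (-68), (-64), (-60), (-56), (-52), (-48), (-44), (-40), (-36), (-32), (-28), (-24), (-20), (-16), (-12), (-8), (-4), 0, 4, 8, 12, 16, 20, 24, 28, 32, 36, 40, 44, 48, 52, 56, 60, 64, 68, 72])]),
    (7680, [
      (12, [0]), (22, [(-2), 2]), (45, [5]), (230, [(-10), 10]),
      (231, [(-21), (-17), (-13), (-9), (-5), (-1), 3, 7, 11, 15, 19]),
      (252, [(-20), (-16), (-12), (-8), (-4), 0, 4, 8, 12, 16, 20]),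
      (264, [(-24), (-20), (-16), (-12), (-8), (-4), 0, 4, 8, 12, 16, 20, 24]),
      (276, [(-24), (-20), (-16), (-12), (-8), (-4), 0, 4, 8, 12, 16, 20, 24]),
      (483, [(-41), (-37), (-33), (-29), (-25), (-21), (-17), (-13), (-9), (-5), (-1), 3, 7, 11, 15, 19, 23, 27, 31, 35, 39, 43]),
      (495, [(-45), (-25), (-5), 15, 35]),
      (528, [(-48), (-40), (-32), (-24), (-16), (-8), 0, 8, 16, 24, 32, 40, 48]), (540, [0]),
      (736, [(-64), (-48), (-32), (-16), 0, 16, 32, 48, 64]),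
      (770, [(-70), (-50), (-30), (-10), 10, 30, 50, 70]), (990, [(-70), (-50), (-30), (-10), 10, 30, 50, 70]),
      (1035, [(-85), (-65), (-45), (-25), (-5), 15, 35, 55, 75]),
      (1242, [(-78), (-66), (-54), (-42), (-30), (-18), (-6), 6, 18, 30, 42, 54, 66, 78]),
      (1288, [(-84), (-80), (-76), (-72), (-68), (-64), (-60), (-56), (-52), (-48), (-44), (-40), (-36), (-32), (-28), (-24), (-20), (-16), (-12), (-8), (-4), 0, 4, 8, 12, 16, 20, 24, 28, 32, 36, 40, 44, 48, 52, 56, 60, 64, 68, 72, 76, 80, 84]),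
      (1540, [(-80), (-60), (-40), (-20), 0, 20, 40, 60, 80]), (1760, [(-80), 0, 80]),
      (2760, [(-80), (-60), (-40), (-20), 0, 20, 40, 60, 80]),
      (2772, [(-84), (-80), (-76), (-72), (-68), (-64), (-60), (-56), (-52), (-48), (-44), (-40), (-36), (-32), (-28), (-24), (-20), (-16), (-12), (-8), (-4), 0, 4, 8, 12, 16, 20, 24, 28, 32, 36, 40, 44, 48, 52, 56, 60, 64, 68, 72, 76, 80, 84]),
      (3312, [(-80), (-72), (-64), (-56), (-48), (-40), (-32), (-24), (-16), (-8), 0, 8, 16, 24, 32, 40, 48, 56, 64, 72, 80]),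
      (3520, [0]), (3840, [0]), (4830, [(-70), (-50), (-30), (-10), 10, 30, 50, 70]),
      (5544, [(-84), (-80), (-76), (-72), (-68), (-64), (-60), (-56), (-52), (-48), (-44), (-40), (-36), (-32), (-28), (-24), (-20), (-16), (-12), (-8), (-4), 0, 4, 8, 12, 16, 20, 24, 28, 32, 36, 40, 44, 48, 52, 56, 60, 64, 68, 72, 76, 80, 84]),
      (5796, [(-84), (-80), (-76), (-72), (-68), (-64), (-60), (-56), (-52), (-48), (-44), (-40), (-36), (-32), (-28), (-24), (-20), (-16), (-12), (-8), (-4), 0, 4, 8, 12, 16, 20, 24, 28, 32, 36, 40, 44, 48, 52, 56, 60, 64, 68, 72, 76, 80, 84]),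
      (7360, [0]), (8832, [(-64), 0, 64]), (10395, [(-45), 15, 75]), (11880, [(-60), 0, 60]),
      (12420, [(-60), 0, 60]), (12880, [(-80), (-40), 0, 40, 80]),
      (15456, [(-80), (-64), (-48), (-32), (-16), 0, 16, 32, 48, 64, 80])]),
    (8640, [
      (12, [0]), (22, [(-2), 2]), (45, []), (230, [(-10), 10]), (231, [(-21), (-9), 3, 15]), (252, [0]),
      (264, [(-24), (-12), 0, 12, 24]), (276, [(-24), (-12), 0, 12, 24]),
      (483, [(-33), (-21), (-9), 3, 15, 27, 39]), (495, [(-45)]),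
      (528, [(-48), (-36), (-24), (-12), 0, 12, 24, 36, 48]), (540, [0]),
      (736, [(-64), (-60), (-56), (-52), (-48), (-44), (-40), (-36), (-32), (-28), (-24), (-20), (-16), (-12), (-8), (-4), 0, 4, 8, 12, 16, 20, 24, 28, 32, 36, 40, 44, 48, 52, 56, 60, 64]),
      (770, [(-70), (-50), (-30), (-10), 10, 30, 50, 70]), (990, [(-90), 90]), (1035, [(-45)]),
      (1242, [(-54), 54]),
      (1288, [(-92), (-88), (-84), (-80), (-76), (-72), (-68), (-64), (-60), (-56), (-52), (-48), (-44), (-40), (-36), (-32), (-28), (-24), (-20), (-16), (-12), (-8), (-4), 0, 4, 8, 12, 16, 20, 24, 28, 32, 36, 40, 44, 48, 52, 56, 60, 64, 68, 72, 76, 80, 84, 88, 92]),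
      (1540, [(-80), (-60), (-40), (-20), 0, 20, 40, 60, 80]),
      (1760, [(-80), (-60), (-40), (-20), 0, 20, 40, 60, 80]), (2760, [(-60), 0, 60]),
      (2772, [(-72), (-36), 0, 36, 72]), (3312, [(-72), (-36), 0, 36, 72]),
      (3520, [(-80), (-60), (-40), (-20), 0, 20, 40, 60, 80]), (3840, [0]), (4830, [(-90), (-30), 30, 90]),
      (5544, [(-72), (-36), 0, 36, 72]), (5796, [(-72), (-36), 0, 36, 72]),
      (7360, [(-80), (-60), (-40), (-20), 0, 20, 40, 60, 80]), (8832, [(-72), (-48), (-24), 0, 24, 48, 72]),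
      (10395, []), (11880, [0]), (12420, [0]), (12880, [(-80), (-60), (-40), (-20), 0, 20, 40, 60, 80]),
      (15456, [(-84), (-72), (-60), (-48), (-36), (-24), (-12), 0, 12, 24, 36, 48, 60, 72, 84])]),
    (11520, [
      (12, [0]), (22, [(-2), 2]), (45, []), (230, [(-10), 10]),
      (231, [(-21), (-17), (-13), (-9), (-5), (-1), 3, 7, 11, 15, 19]), (252, [(-12), 0, 12]),
      (264, [(-24), (-20), (-16), (-12), (-8), (-4), 0, 4, 8, 12, 16, 20, 24]),
      (276, [(-24), (-20), (-16), (-12), (-8), (-4), 0, 4, 8, 12, 16, 20, 24]),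
      (483, [(-41), (-37), (-33), (-29), (-25), (-21), (-17), (-13), (-9), (-5), (-1), 3, 7, 11, 15, 19, 23, 27, 31, 35, 39, 43]),
      (495, [(-45), 15]),
      (528, [(-48), (-44), (-40), (-36), (-32), (-28), (-24), (-20), (-16), (-12), (-8), (-4), 0, 4, 8, 12, 16, 20, 24, 28, 32, 36, 40, 44, 48]),
      (540, [0]),
      (736, [(-64), (-56), (-48), (-40), (-32), (-24), (-16), (-8), 0, 8, 16, 24, 32, 40, 48, 56, 64]),
      (770, [(-70), (-50), (-30), (-10), 10, 30, 50, 70]), (990, [(-90), (-30), 30, 90]),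
      (1035, [(-45), 15, 75]), (1242, [(-90), (-54), (-18), 18, 54, 90]),
      (1288, [(-104), (-100), (-96), (-92), (-88), (-84), (-80), (-76), (-72), (-68), (-64), (-60), (-56), (-52), (-48), (-44), (-40), (-36), (-32), (-28), (-24), (-20), (-16), (-12), (-8), (-4), 0, 4, 8, 12, 16, 20, 24, 28, 32, 36, 40, 44, 48, 52, 56, 60, 64, 68, 72, 76, 80, 84, 88, 92, 96, 100, 104]),
      (1540, [(-100), (-80), (-60), (-40), (-20), 0, 20, 40, 60, 80, 100]), (1760, [(-80), (-40), 0, 40, 80]),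
      (2760, [(-100), (-80), (-60), (-40), (-20), 0, 20, 40, 60, 80, 100]),
      (2772, [(-96), (-84), (-72), (-60), (-48), (-36), (-24), (-12), 0, 12, 24, 36, 48, 60, 72, 84, 96]),
      (3312, [(-96), (-84), (-72), (-60), (-48), (-36), (-24), (-12), 0, 12, 24, 36, 48, 60, 72, 84, 96]),
      (3520, [(-80), 0, 80]), (3840, [0]), (4830, [(-90), (-70), (-50), (-30), (-10), 10, 30, 50, 70, 90]),
      (5544, [(-96), (-84), (-72), (-60), (-48), (-36), (-24), (-12), 0, 12, 24, 36, 48, 60, 72, 84, 96]),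
      (5796, [(-96), (-84), (-72), (-60), (-48), (-36), (-24), (-12), 0, 12, 24, 36, 48, 60, 72, 84, 96]),
      (7360, [(-80), 0, 80]), (8832, [(-96), (-64), (-32), 0, 32, 64, 96]), (10395, [(-45)]), (11880, [0]),
      (12420, [0]), (12880, [(-100), (-80), (-60), (-40), (-20), 0, 20, 40, 60, 80, 100]),
      (15456, [(-104), (-96), (-88), (-80), (-72), (-64), (-56), (-48), (-40), (-32), (-24), (-16), (-8), 0, 8, 16, 24, 32, 40, 48, 56, 64, 72, 80, 88, 96, 104])]),
    (13440, [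
      (12, [0]), (22, [(-2), 2]), (45, [5]), (230, [(-10), 10]), (231, [(-21), 7]), (252, [0]),
      (264, [(-24), (-20), (-16), (-12), (-8), (-4), 0, 4, 8, 12, 16, 20, 24]),
      (276, [(-24), (-20), (-16), (-12), (-8), (-4), 0, 4, 8, 12, 16, 20, 24]), (483, [(-21), 7, 35]),
      (495, [(-45), (-25), (-5), 15, 35]),
      (528, [(-48), (-44), (-40), (-36), (-32), (-28), (-24), (-20), (-16), (-12), (-8), (-4), 0, 4, 8, 12, 16, 20, 24, 28, 32, 36, 40, 44, 48]),
      (540, [0]),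
      (736, [(-64), (-60), (-56), (-52), (-48), (-44), (-40), (-36), (-32), (-28), (-24), (-20), (-16), (-12), (-8), (-4), 0, 4, 8, 12, 16, 20, 24, 28, 32, 36, 40, 44, 48, 52, 56, 60, 64]),
      (770, [(-70), 70]), (990, [(-90), (-70), (-50), (-30), (-10), 10, 30, 50, 70, 90]),
      (1035, [(-85), (-65), (-45), (-25), (-5), 15, 35, 55, 75, 95]),
      (1242, [(-102), (-90), (-78), (-66), (-54), (-42), (-30), (-18), (-6), 6, 18, 30, 42, 54, 66, 78, 90, 102]),
      (1288, [(-112), (-84), (-56), (-28), 0, 28, 56, 84, 112]), (1540, [0]),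
      (1760, [(-100), (-80), (-60), (-40), (-20), 0, 20, 40, 60, 80, 100]),
      (2760, [(-100), (-80), (-60), (-40), (-20), 0, 20, 40, 60, 80, 100]),
      (2772, [(-112), (-84), (-56), (-28), 0, 28, 56, 84, 112]),
      (3312, [(-112), (-108), (-104), (-100), (-96), (-92), (-88), (-84), (-80), (-76), (-72), (-68), (-64), (-60), (-56), (-52), (-48), (-44), (-40), (-36), (-32), (-28), (-24), (-20), (-16), (-12), (-8), (-4), 0, 4, 8, 12, 16, 20, 24, 28, 32, 36, 40, 44, 48, 52, 56, 60, 64, 68, 72, 76, 80, 84, 88, 92, 96, 100, 104, 108, 112]),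
      (3520, [(-80), (-40), 0, 40, 80]), (3840, [0]), (4830, [(-70), 70]),
      (5544, [(-112), (-84), (-56), (-28), 0, 28, 56, 84, 112]),
      (5796, [(-112), (-84), (-56), (-28), 0, 28, 56, 84, 112]), (7360, [(-80), (-40), 0, 40, 80]),
      (8832, [(-112), (-96), (-80), (-64), (-48), (-32), (-16), 0, 16, 32, 48, 64, 80, 96, 112]),
      (10395, [(-105)]), (11880, [(-60), 0, 60]), (12420, [(-60), 0, 60]), (12880, [0]),
      (15456, [(-112), (-84), (-56), (-28), 0, 28, 56, 84, 112])]),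
    (15360, [
      (12, [0]), (22, [(-2), 2]), (45, [5]), (230, [(-10), 10]),
      (231, [(-21), (-17), (-13), (-9), (-5), (-1), 3, 7, 11, 15, 19]),
      (252, [(-20), (-16), (-12), (-8), (-4), 0, 4, 8, 12, 16, 20]), (264, [(-24), (-16), (-8), 0, 8, 16, 24]),
      (276, [(-24), (-20), (-16), (-12), (-8), (-4), 0, 4, 8, 12, 16, 20, 24]),
      (483, [(-41), (-37), (-33), (-29), (-25), (-21), (-17), (-13), (-9), (-5), (-1), 3, 7, 11, 15, 19, 23, 27, 31, 35, 39, 43]),
      (495, [(-45), (-25), (-5), 15, 35]), (528, [(-48), (-32), (-16), 0, 16, 32, 48]), (540, [0]),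
      (736, [(-64), (-32), 0, 32, 64]), (770, [(-70), (-50), (-30), (-10), 10, 30, 50, 70]),
      (990, [(-90), (-70), (-50), (-30), (-10), 10, 30, 50, 70, 90]),
      (1035, [(-85), (-65), (-45), (-25), (-5), 15, 35, 55, 75, 95]),
      (1242, [(-102), (-90), (-78), (-66), (-54), (-42), (-30), (-18), (-6), 6, 18, 30, 42, 54, 66, 78, 90, 102]),
      (1288, [(-112), (-104), (-96), (-88), (-80), (-72), (-64), (-56), (-48), (-40), (-32), (-24), (-16), (-8), 0, 8, 16, 24, 32, 40, 48, 56, 64, 72, 80, 88, 96, 104, 112]),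
      (1540, [(-120), (-100), (-80), (-60), (-40), (-20), 0, 20, 40, 60, 80, 100, 120]), (1760, [0]),
      (2760, [(-120), (-80), (-40), 0, 40, 80, 120]),
      (2772, [(-120), (-116), (-112), (-108), (-104), (-100), (-96), (-92), (-88), (-84), (-80), (-76), (-72), (-68), (-64), (-60), (-56), (-52), (-48), (-44), (-40), (-36), (-32), (-28), (-24), (-20), (-16), (-12), (-8), (-4), 0, 4, 8, 12, 16, 20, 24, 28, 32, 36, 40, 44, 48, 52, 56, 60, 64, 68, 72, 76, 80, 84, 88, 92, 96, 100, 104, 108, 112, 116, 120]),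
      (3312, [(-112), (-96), (-80), (-64), (-48), (-32), (-16), 0, 16, 32, 48, 64, 80, 96, 112]), (3520, [0]),
      (3840, [0]), (4830, [(-110), (-90), (-70), (-50), (-30), (-10), 10, 30, 50, 70, 90, 110]),
      (5544, [(-120), (-112), (-104), (-96), (-88), (-80), (-72), (-64), (-56), (-48), (-40), (-32), (-24), (-16), (-8), 0, 8, 16, 24, 32, 40, 48, 56, 64, 72, 80, 88, 96, 104, 112, 120]),
      (5796, [(-120), (-116), (-112), (-108), (-104), (-100), (-96), (-92), (-88), (-84), (-80), (-76), (-72), (-68), (-64), (-60), (-56), (-52), (-48), (-44), (-40), (-36), (-32), (-28), (-24), (-20), (-16), (-12), (-8), (-4), 0, 4, 8, 12, 16, 20, 24, 28, 32, 36, 40, 44, 48, 52, 56, 60, 64, 68, 72, 76, 80, 84, 88, 92, 96, 100, 104, 108, 112, 116, 120]),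
      (7360, [0]), (8832, [0]), (10395, [(-105), (-45), 15, 75]), (11880, [(-120), 0, 120]),
      (12420, [(-120), (-60), 0, 60, 120]), (12880, [(-80), 0, 80]),
      (15456, [(-96), (-64), (-32), 0, 32, 64, 96])])]

end Cfsg.Agent.MTwentyFour.ByOrder.RowA
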