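import Cfsg.Agent.Lib.Spor.MTwentyFourOrder.RowA.Main
import Cfsg.Agent.Lib.Spor.MTwentyFourOrder.RowA.Tuples
import Cfsg.Agent.Lib.Spor.MTwentyFourOrder.RowA.Cases

/-!
A simple group of the order of the Mathieu group of degree twenty-four: with a centraliser of order sixty and the first
row there is a character of degree twenty-three.
-/

set_option autoImplicit false
set_option linter.unusedSectionVars false

namespace Cfsg.Agent.MTwentyFour.ByOrder.RowA

open Cfsg Cfsg.Agent.Char Cfsg.Agent.Char.PrimeSylowCount
open Cfsg.Agent.MTwentyFour.ByOrder.Ten (TCol)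
open Cfsg.Agent.MTwentyFour.ByOrder.FiveRow (FiveData rowA)

universe u

variable {G : Type u} [Group G] [Fintype G] [IsSimpleGroup G]

/-- With a centraliser of order sixty and the first row there is a character of degree twenty-three. -/
theorem deg23_twelve_a {P : Sylow 11 G} {g : G} {z : IrrCharacter G → ℤ} {C : ℕ} (T : TCol P g z C)
    {Q : Sylow 5 G} {M : Ideal AlgInt} {c : Fin 4 → IrrCharacter G} (D : FiveData g Q 12 M c rowA) :
    ∃ χ : IrrCharacter G, charDegree (χ : G → ℂ) = 23 := by
  by_contra hno
  rw [not_exists] at hno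
  obtain ⟨φ, F⟩ := FiveColumn.exists_fcol T D
  refine row_false (φ := φ) ⟨T, D, F, hno⟩ all_killed (fun cc hcc a ha h5 => ?_) all_covered (local_twelve_a T D)
  have h := List.all_eq_true.1 (List.all_eq_true.1 all_five cc hcc) a ha
  simp only [Bool.or_eq_true, decide_eq_true_eq] at h
  exact h.resolve_left h5

end Cfsg.Agent.MTwentyFour.ByOrder.RowA
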