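import Cfsg.Agent.Lib.Spor.MTwentyFourOrder.RowA.CheckSound

/-!
The names of the members of the block of twenty-three by classes of conjugates form one of the shapes.
-/

set_option autoImplicit false
set_option maxRecDepth 100000
set_option maxHeartbeats 1000000

namespace Cfsg.Agent.MTwentyFour.ByOrder.RowA

open Cfsg.Agent.MTwentyFour.ByOrder.FiveSide (Pr reqOf tblTwelve subBag subBag_of_le)

universe u

/-- A set closed under classes is a sum of classes. -/
theorem orbit_split {α : Type u} [DecidableEq α] (orb : α → Finset α) (hself : ∀ a, a ∈ orb a)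
    (heq : ∀ a b, b ∈ orb a → orb b = orb a) :
    ∀ A : Finset α, (∀ a ∈ A, orb a ⊆ A) →
      ∃ R : Multiset α, (∀ a ∈ R, a ∈ A) ∧ A.val = (R.map fun a => (orb a).val).sum := by
  intro A
  induction A using Finset.strongInduction with
  | _ A ih =>
    intro hc
    rcases A.eq_empty_or_nonempty with rfl | ⟨a, ha⟩
    · exact ⟨0, by simp, by simp⟩
    have hlt : A \ orb a ⊂ A := Finset.sdiff_ssubset (hc a ha) ⟨a, hself a⟩
    obtain ⟨R, hR, hsum⟩ := ih _ hlt fun b hb => by
      intro x hx
      obtain ⟨hbA, hba⟩ := Finset.mem_sdiff.1 hb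
      refine Finset.mem_sdiff.2 ⟨hc b hbA hx, fun hxa => hba ?_⟩
      rw [← heq a x hxa, heq b x hx]
      exact hself b
    refine ⟨a ::ₘ R, fun x hx => ?_, ?_⟩
    · rcases Multiset.mem_cons.1 hx with rfl | hx
      exacts [ha, (Finset.mem_sdiff.1 (hR x hx)).1]
    · rw [Multiset.map_cons, Multiset.sum_cons, ← hsum, Finset.sdiff_val, add_tsub_cancel_of_le]
      exact Finset.val_le_iff.2 (hc a ha)

theorem parts_table : ∀ i ∈ List.range 6, ∀ j ∈ List.range 3, ∀ l ∈ List.range 2,
    i + 2 * j + 4 * l = 0 ∨ 5 < i + 2 * j + 4 * l ∨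
    (partsOf (i + 2 * j + 4 * l)).contains (List.replicate i 1 ++ List.replicate j 2 ++ List.replicate l 4) = true := by
  decide +kernel

theorem split_parts : ∀ m : Multiset ℕ, (∀ x ∈ m, x ∈ [1, 2, 4]) → ∃ i j l : ℕ,
    m = ((List.replicate i 1 ++ List.replicate j 2 ++ List.replicate l 4 : List ℕ) : Multiset ℕ) ∧
      m.sum = i + 2 * j + 4 * l := by
  intro m
  induction m using Multiset.induction with
  | empty => exact fun _ => ⟨0, 0, 0, rfl, rfl⟩
  | cons x m ih =>
    intro h
    obtain ⟨i, j, l, rfl, hs⟩ := ih fun y hy => h y (Multiset.mem_cons_of_mem hy)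
    have hx := h x (Multiset.mem_cons_self _ _)
    simp only [List.mem_cons, List.not_mem_nil, or_false] at hx
    rcases hx with rfl | rfl | rfl
    · refine ⟨i + 1, j, l, by simp [List.replicate_succ], ?_⟩
      rw [Multiset.sum_cons, hs]; ring
    · refine ⟨i, j + 1, l, ?_, ?_⟩
      · rw [Multiset.cons_coe, Multiset.coe_eq_coe, List.replicate_succ, List.append_assoc, List.append_assoc,
          List.cons_append]
        exact List.perm_middle.symm
      · rw [Multiset.sum_cons, hs]; ring
    · refine ⟨i, j, l + 1, ?_, ?_⟩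
      · rw [Multiset.cons_coe, Multiset.coe_eq_coe, List.replicate_succ]
        exact List.perm_middle.symm
      · rw [Multiset.sum_cons, hs]; ring

/-- Numbers one, two and four with a sum at most five are listed. -/
theorem parts_mem {m : Multiset ℕ} (h : ∀ x ∈ m, x ∈ [1, 2, 4]) (h0 : 0 < m.sum) (h5 : m.sum ≤ 5) :
    ∃ p ∈ partsOf m.sum, (p : Multiset ℕ) = m := by
  obtain ⟨i, j, l, rfl, hs⟩ := split_parts m h
  rw [hs] at h0 h5 ⊢
  exact ⟨_, List.contains_iff_mem.1 (((parts_table i (List.mem_range.2 (by omega)) j (List.mem_range.2 (by omega)) l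
    (List.mem_range.2 (by omega))).resolve_left (by omega)).resolve_left (by omega)), rfl⟩

theorem shapesX_mem (w1 : List Pr) (p : Pr → List ℕ) :
    ∀ ds : List Pr, (∀ a ∈ ds, p a ∈ partsOf (w1.count a)) →
      (ds.flatMap fun a => (p a).map (Ent.mk a.1 a.2)) ∈ shapesX w1 ds
  | [], _ => List.mem_cons_self
  | a :: as, h => by
    simp only [shapesX, List.flatMap_cons, List.mem_flatMap, List.mem_map]
    exact ⟨p a, h a (by simp), _, shapesX_mem w1 p as fun b hb => h b (List.mem_cons_of_mem _ hb), rfl⟩

/-- A multiset is the sum of its parts by a key. -/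
theorem filter_bind {α β : Type} [DecidableEq β] (key : α → β) :
    ∀ (L : List β) (m : Multiset α), L.Nodup → (∀ a ∈ m, key a ∈ L) →
      (L.map fun b => m.filter fun a => key a = b).sum = m
  | [], m, _, h => (Multiset.eq_zero_of_forall_notMem fun a ha => List.not_mem_nil (h a ha)).symm
  | b :: L, m, hL, h => by
    obtain ⟨hb, hL'⟩ := List.nodup_cons.1 hL
    have ih := filter_bind key L (m.filter fun a => ¬ key a = b) hL' fun a ha =>
      (List.mem_cons.1 (h a (Multiset.mem_filter.1 ha).1)).resolve_left (Multiset.mem_filter.1 ha).2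
    rw [List.map_cons, List.sum_cons, ← Multiset.filter_add_not (fun a => key a = b) m,
      Multiset.filter_add_not (fun a => key a = b) m]
    conv_rhs => rw [← Multiset.filter_add_not (fun a => key a = b) m, ← ih]
    congr 1
    refine congrArg List.sum (List.map_congr_left fun c hc => ?_)
    rw [Multiset.filter_filter]
    exact Multiset.filter_congr fun a _ => ⟨fun e => ⟨e, fun e' => hb (by rw [← e', e]; exact hc)⟩, fun e => e.1⟩

/-- the place of a name -/
def Ent.pr (e : Ent) : Pr := (e.d, e.f)

theorem coe_flatMap {α β : Type} (f : α → List β) : ∀ l : List α,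
    ((l.flatMap f : List β) : Multiset β) = (l.map fun a => (f a : Multiset β)).sum
  | [] => rfl
  | a :: l => by rw [List.flatMap_cons, ← Multiset.coe_add, coe_flatMap f l, List.map_cons, List.sum_cons]

/-- The names by classes with the sizes of classes adding to the numbers of members form one of the shapes. -/
theorem shape_exists (g : Pr) (xs : List Pr) (E : Multiset Ent)
    (hn : ∀ e ∈ E, e.n ∈ [1, 2, 4] ∧ e.pr ∈ (xs.filter fun a => a.1 % 5 != 0))
    (hcnt : ∀ a ∈ (xs.filter fun a => a.1 % 5 != 0),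
      ((E.filter fun e => e.pr = a).map Ent.n).sum = (xs.filter fun a => a.1 % 5 != 0).count a ∧
        (xs.filter fun a => a.1 % 5 != 0).count a ≤ 5)
    {ng : ℕ} (hg : if g.1 % 5 = 0 then ng = 0 else ng = 1 ∨ ng = 2) :
    ∃ s : List Ent, (s : Multiset Ent) = Ent.mk g.1 g.2 ng ::ₘ E +
        (((xs.filter fun a => a.1 % 5 == 0).map fun a => Ent.mk a.1 a.2 0 : List Ent) : Multiset Ent) ∧
      (coveredT s = true → s ∈ shapesOf g xs) := by
  set w1 := xs.filter fun a => a.1 % 5 != 0 with hw1
  have hp : ∀ a, ∃ p : List ℕ, a ∈ w1 → p ∈ partsOf (w1.count a) ∧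
      (p : Multiset ℕ) = (E.filter fun e => e.pr = a).map Ent.n := by
    intro a
    by_cases ha : a ∈ w1
    · obtain ⟨hs, h5⟩ := hcnt a ha
      obtain ⟨p, hp1, hp2⟩ := parts_mem (m := (E.filter fun e => e.pr = a).map Ent.n) (fun x hx => by
        obtain ⟨e, he, rfl⟩ := Multiset.mem_map.1 hx
        exact (hn e (Multiset.mem_filter.1 he).1).1) (by rw [hs]; exact List.count_pos_iff.2 ha) (by rw [hs]; exact h5)
      exact ⟨p, fun _ => ⟨hs ▸ hp1, hp2⟩⟩
    · exact ⟨[], fun h => absurd h ha⟩
  choose p hp using hp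
  set sx := w1.dedup.flatMap fun a => (p a).map (Ent.mk a.1 a.2) with hsx
  have hsE : (sx : Multiset Ent) = E := by
    rw [hsx, coe_flatMap]
    conv_rhs => rw [← filter_bind Ent.pr w1.dedup E (List.nodup_dedup _) fun e he => List.mem_dedup.2 (hn e he).2]
    refine congrArg List.sum (List.map_congr_left fun a ha => ?_)
    rw [← Multiset.map_coe, (hp a (List.mem_dedup.1 ha)).2, Multiset.map_map]
    refine (Multiset.map_congr rfl fun e he => ?_).trans (Multiset.map_id' _)
    obtain rfl := (Multiset.mem_filter.1 he).2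
    rfl
  set five := (xs.filter fun a => a.1 % 5 == 0).map fun a => Ent.mk a.1 a.2 0 with hfive
  refine ⟨[Ent.mk g.1 g.2 ng] ++ sx ++ five, ?_, fun hc => ?_⟩
  · rw [← Multiset.coe_add, ← Multiset.coe_add, hsE, Multiset.coe_singleton, Multiset.singleton_add]
  · simp only [shapesOf, List.mem_filter, List.mem_flatMap, List.mem_map]
    refine ⟨⟨sx, shapesX_mem w1 p _ fun a ha => (hp a (List.mem_dedup.1 ha)).1, [Ent.mk g.1 g.2 ng], ?_, rfl⟩, hc⟩
    split_ifs at hg ⊢ with h
    · simp [hg]
    · rcases hg with rfl | rfl <;> simp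

theorem tagged_eq : ∀ s : List Ent,
    ((tagged s : List (Pr × ℕ)) : Multiset (Pr × ℕ)) =
      ((s : Multiset Ent).map fun e => Multiset.replicate e.w (e.pr, e.n)).sum
  | [] => rfl
  | e :: s => by
    have := tagged_eq s
    simp only [tagged, List.flatMap_cons, ← Multiset.coe_add, ← Multiset.cons_coe, Multiset.map_cons,
      Multiset.sum_cons, ← Multiset.coe_replicate, Ent.pr] at this ⊢
    rw [this]

/-- The partners among the tagged members show that a shape is covered. -/
theorem covered_shape {s : List Ent}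
    (h : ∀ e ∈ s, e.n ≠ 0 → ∃ r ∈ reqOf tblTwelve (e.d, e.f),
      (((e.d, e.f), e.n) ::ₘ ((r : Multiset Pr).map fun y => (y, e.n * e.f.natAbs / y.2.natAbs))) ≤
        ((s : Multiset Ent).map fun e => Multiset.replicate e.w (e.pr, e.n)).sum) : coveredT s = true := by
  simp only [coveredT, List.all_eq_true, Bool.or_eq_true, decide_eq_true_eq, List.any_eq_true]
  intro e he
  by_cases h0 : e.n = 0
  · exact Or.inl h0
  · obtain ⟨r, hr, hle⟩ := h e he h0
    refine Or.inr ⟨r, hr, subBag_of_le ?_⟩
    rw [tagged_eq]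
    exact hle

/-- Weighted sums over the names are sums over the members. -/
theorem sum_w (S : Multiset (Ent × ℤ)) (h : Mb → ℤ) :
    (S.map fun a => (a.1.w : ℤ) * h ⟨a.1.d, a.1.f, a.2⟩).sum = msum h (S.map mbs).sum := by
  induction S using Multiset.induction with
  | empty => simp [msum]
  | cons a S ih =>
    rw [Multiset.map_cons, Multiset.sum_cons, Multiset.map_cons, Multiset.sum_cons, msum_add, ← ih]
    congr 1
    simp [msum, mbs, Multiset.map_replicate, Multiset.sum_replicate]

end Cfsg.Agent.MTwentyFour.ByOrder.RowA
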