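import Cfsg.Agent.Lib.Spor.MTwentyFourOrder.RowA.Blocks
import Cfsg.Agent.Lib.Spor.MTwentyFourOrder.RowA.Shapes
import Cfsg.Agent.Lib.Spor.MTwentyFourOrder.RowA.CaseSound
import Cfsg.Agent.Lib.Spor.MTwentyFourOrder.FiveSideTwelve

/-!
A simple group of the order of the Mathieu group of degree twenty-four: with a centraliser of order sixty and the first
row the column data form a case of the table, so a table of impossible cases excludes them.
-/

set_option autoImplicit false
set_option linter.unusedSectionVars false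
set_option maxRecDepth 100000
set_option maxHeartbeats 4000000

namespace Cfsg.Agent.MTwentyFour.ByOrder.RowA

open Cfsg Cfsg.Agent.Char Cfsg.Agent.Small.Order459648 Cfsg.Agent.Char.PrimeSylowCount
open Cfsg.Agent.MTwelve.OrderFront (val_one)
open Cfsg.Agent.MTwentyFour.ByOrder.Ten (TCol w11 w23)
open Cfsg.Agent.MTwentyFour.ByOrder.FiveColumn (FCol)
open Cfsg.Agent.MTwentyFour.ByOrder.FiveRow (FiveData rowA)
open Cfsg.Agent.MTwentyFour.ByOrder.ThreeCase (s11 c23 wt nd ordM xl gl exists_split23 weighted_deg int_form w11_eq)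
open Cfsg.Agent.MTwentyFour.ByOrder.FiveSide (Pr list_twelve pick pick_sound fills gfive xl_five gl_five xl_weights
  gl_weights survTwelve tblTwelve reqOf covered ctOkTwelve selfsEqTwelve selfsTwelve goodSelfFstTwelve
  goodSelfSndTwelve b23 exc xv av Valid room isItem)
open scoped _root_.Classical

universe u

variable {G : Type u} [Group G] [Fintype G] [IsSimpleGroup G]

local instance fact_fiveMain : Fact (Nat.Prime 5) := ⟨by norm_num⟩
local instance fact_elevenMain : Fact (Nat.Prime 11) := ⟨by norm_num⟩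

theorem map_sum' {α β γ : Type*} (f : β → γ) (F : α → Multiset β) (R : Multiset α) :
    ((R.map F).sum).map f = (R.map fun r => (F r).map f).sum := by
  induction R using Multiset.induction with
  | empty => simp
  | cons a R ih => simp [ih]

theorem count_rep {α β : Type*} [DecidableEq β] (n : α → ℕ) (f : α → β) (R : Multiset α) (a : β) :
    ((R.map fun r => Multiset.replicate (n r) (f r)).sum).count a = ((R.filter fun r => f r = a).map n).sum := by
  induction R using Multiset.induction with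
  | empty => simp
  | cons r R ih =>
    rw [Multiset.map_cons, Multiset.sum_cons, Multiset.count_add, ih, Multiset.count_replicate, Multiset.filter_cons]
    by_cases h : f r = a <;> simp [h]

theorem xl_exc : ∀ d ∈ xl, isExc d = false := by decide +kernel
theorem gl_exc : ∀ d ∈ gl, isExc d = true := by decide +kernel

theorem coe_filterMap_pr (p : Pr → Bool) (l : List Pr) :
    ((l.filter p : List Pr) : Multiset Pr) = (l : Multiset Pr).filter fun x => p x = true := by
  rw [Multiset.filter_coe]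
  exact congrArg _ (List.filter_congr fun y _ => by simp only [Bool.decide_eq_true])

variable {P : Sylow 11 G} {g : G} {z : IrrCharacter G → ℤ} {C : ℕ} {Q : Sylow 5 G} {M : Ideal AlgInt}
  {c : Fin 4 → IrrCharacter G} {φ : IrrCharacter G → ℤ}

/-- A table of impossible cases covering the lists excludes the column data. -/
theorem row_false (S : Setting P g z C Q M c φ) {cases : List Case} (hkill : ∀ cc ∈ cases, KillOK cc)
    (hfive : ∀ cc ∈ cases, ∀ a ∈ cc.xs, a.1 % 5 ≠ 0 → cc.xs.count a ≤ 5)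
    (hcov : survTwelve.all (listCases cases) = true)
    (htup : (C, [z (c 0), z (c 1), z (c 2), z (c 3)]) ∈ tuples) : False := by
  have hG := S.T.order
  obtain ⟨η, η', A, L', hne, hηA, hη'A, hA9, hA, hη, hdη, hfη, hperm, hL⟩ :=
    list_twelve S.T (Or.inl rfl) S.D S.F S.hno
  let d : IrrCharacter G → ℕ := fun χ => charDegree (χ : G → ℂ)
  let tp : IrrCharacter G → Pr := fun χ => (d χ, φ χ)
  let n : IrrCharacter G → ℕ := conjNum hG
  obtain ⟨⟨hd0', hf0'⟩, ⟨hd1', hf1'⟩, ⟨hd2, hf2⟩, hd3, hf3⟩ := S.member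
  have hd1 : d oneChar = 1 := by simp [d, oneChar, charDegree]
  -- the block of twenty-three
  set B := A ∪ {η, η'} with hB
  have hw2A : ∀ χ ∈ A, (w23 (d χ)).natAbs = 2 := fun χ h => ((hA χ).1 h).1
  have hwη : ∀ χ ∈ ({η, η'} : Finset (IrrCharacter G)), (w23 (d χ)).natAbs = 1 := fun χ h =>
    (hη χ).1 (by simpa using h)
  have hdisj : Disjoint A {η, η'} := Finset.disjoint_left.2 fun χ h h' => by
    have := hwη χ h'
    have := hw2A χ h
    omega
  have hBval : ∀ {β : Type} (f : IrrCharacter G → β), B.val.map f = A.val.map f + (f η ::ₘ {f η'}) := by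
    intro β f
    rw [hB, ← Finset.disjUnion_eq_union _ _ hdisj, Finset.disjUnion_val, Multiset.map_add,
      Finset.insert_val_of_notMem (by simpa using hne), Finset.singleton_val, Multiset.map_cons,
      Multiset.map_singleton]
  have hnp : ∀ χ ∈ B, χ ∉ principalBlock M G := by
    intro χ hχ hp'
    have hwχ : (w23 (d χ)).natAbs = 1 ∨ (w23 (d χ)).natAbs = 2 ∧ χ ≠ oneChar ∧ χ ≠ c 2 := by
      rcases Finset.mem_union.1 hχ with h | h
      · exact Or.inr ((hA χ).1 h)
      · exact Or.inl (hwη χ h)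
    rcases (S.D.mem_iff χ).1 hp' with rfl | ⟨i, rfl⟩
    · rw [hd1] at hwχ; simp [w23] at hwχ
    · fin_cases i <;> simp only [d] at hwχ <;> simp [hd0', hd1', hd2, hd3, w23] at hwχ
  have hxl : ∀ χ ∈ A, d χ ∈ xl := fun χ h => by
    have := (S.single (hnp χ (Finset.mem_union_left _ h))).1.2
    rwa [if_pos (hw2A χ h)] at this
  have hgl : ∀ χ ∈ ({η, η'} : Finset (IrrCharacter G)), d χ ∈ gl := fun χ h => by
    have := (S.single (hnp χ (Finset.mem_union_right _ h))).1.2
    have hw := hwη χ h
    simp only [d] at hw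
    rwa [if_neg (by omega), if_pos hw] at this
  have hwtA : ∀ χ ∈ A, wt (d χ) = 1 := fun χ h => (xl_weights _ (hxl χ h)).2.1
  have hwtη : wt (d η) = 2 := (gl_weights _ (hgl η (by simp))).2.1
  have hηB : η ∈ B := Finset.mem_union_right _ (by simp)
  have hη'B : η' ∈ B := Finset.mem_union_right _ (by simp)
  have hzη : z η' = z η := by
    obtain ⟨η0, η0', -, h0, -, hreg⟩ := exists_split23 (G := G) hG
    have h1 := hreg (g ^ 5) (by rw [orderOf_pow, S.T.ord]; norm_num)
    rw [S.T.val, S.T.val, Int.cast_inj] at h1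
    rcases (h0 η).1 ((hη η).1 (Or.inl rfl)) with e | e <;>
      rcases (h0 η').1 ((hη η').1 (Or.inr rfl)) with e' | e' <;> subst e <;> subst e'
    exacts [rfl, h1, h1.symm, rfl]
  have hmbη : mb φ z η' = mb φ z η := by simp only [mb, hdη, hfη, hzη]
  -- the numbers of conjugates
  have hn0 : ∀ χ, 5 ∣ d χ → n χ = 0 := fun χ h => if_pos h
  have horbA : ∀ χ ∈ B, ¬ 5 ∣ d χ → ∀ ψ ∈ (sfive hG).orb χ, d ψ = d χ ∧ φ ψ = φ χ ∧ z ψ = z χ ∧ n ψ = n χ ∧
      ψ ∈ B ∧ (χ ∈ A → ψ ∈ A) := by
    intro χ hχ h5 ψ hψ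
    obtain ⟨hp, h1, h2, h3, h4⟩ := (S.conj_num (hnp χ hχ) h5).2.2 ψ hψ
    have hone : ψ ≠ oneChar := fun e => hp ((S.D.mem_iff ψ).2 (Or.inl e))
    have hc2 : ψ ≠ c 2 := fun e => hp ((S.D.mem_iff ψ).2 (Or.inr ⟨2, e.symm⟩))
    have hinA : (w23 (d χ)).natAbs = 2 → ψ ∈ A := fun h => (hA ψ).2 ⟨by rw [h1]; exact h, hone, hc2⟩
    refine ⟨h1, h2, h3, h4, ?_, fun h => hinA (hw2A χ h)⟩
    rcases Finset.mem_union.1 hχ with h | h
    · exact Finset.mem_union_left _ (hinA (hw2A χ h))
    · exact Finset.mem_union_right _ (by simpa using (hη ψ).2 (by rw [h1]; exact hwη χ h))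
  have horbη : ¬ 5 ∣ d η → (n η = 1 ∨ n η = 2) ∧ n η' = n η := by
    intro h5
    have h5' : ¬ 5 ∣ d η' := by rwa [show d η' = d η from hdη]
    have hsub : ∀ χ ∈ ({η, η'} : Finset (IrrCharacter G)), ¬ 5 ∣ d χ → (sfive hG).orb χ ⊆ {η, η'} := by
      intro χ hχ hc ψ hψ
      obtain ⟨h1, -⟩ := horbA χ (Finset.mem_union_right _ hχ) hc ψ hψ
      simpa using (hη ψ).2 (by
        show (w23 (d ψ)).natAbs = 1
        rw [h1]; exact hwη χ hχ)
    have hn : n η = ((sfive hG).orb η).card := if_neg h5
    have hn' : n η' = ((sfive hG).orb η').card := if_neg h5'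
    refine ⟨?_, ?_⟩
    · have h1 := (Finset.card_le_card (hsub η (by simp) h5)).trans Finset.card_le_two
      have h2 := (S.conj_num (hnp η hηB) h5).1
      simp only [List.mem_cons, List.not_mem_nil, or_false] at h2
      change n η = 1 ∨ n η = 2 ∨ n η = 4 at h2
      omega
    · by_cases hm : η' ∈ (sfive hG).orb η
      · exact (horbA η hηB h5 η' hm).2.2.2.1
      · have e1 : (sfive hG).orb η = {η} := Finset.eq_singleton_iff_unique_mem.2 ⟨(sfive hG).self_mem η,
          fun ψ hψ => ((Finset.mem_insert.1 (hsub η (by simp) h5 hψ)).resolve_right fun h =>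
            hm (by rwa [Finset.mem_singleton.1 h] at hψ))⟩
        have e2 : (sfive hG).orb η' = {η'} := Finset.eq_singleton_iff_unique_mem.2 ⟨(sfive hG).self_mem η',
          fun ψ hψ => Finset.mem_singleton.1 ((Finset.mem_insert.1 (hsub η' (by simp) h5' hψ)).resolve_left fun h => by
            subst h
            exact hm (orb_eq _ hψ ▸ (sfive hG).self_mem η'))⟩
        rw [hn, hn', e1, e2]; rfl
  have hnη : n η' = n η := by
    by_cases h5 : 5 ∣ d η
    · rw [hn0 η h5, hn0 η' (by rwa [show d η' = d η from hdη])]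
    · exact (horbη h5).2
  set A5 := A.filter fun χ => ¬ 5 ∣ d χ with hA5
  set Az := A.filter fun χ => 5 ∣ d χ with hAz
  have hA5m : ∀ χ, χ ∈ A5 ↔ χ ∈ A ∧ ¬ 5 ∣ d χ := fun χ => Finset.mem_filter
  have hAsplit : ∀ {β : Type} (f : IrrCharacter G → β), A.val.map f = A5.val.map f + Az.val.map f := by
    intro β f
    rw [← Multiset.map_add, hA5, hAz, Finset.filter_val, Finset.filter_val, add_comm]
    exact congrArg _ (Multiset.filter_add_not _ _).symm
  obtain ⟨R, hR, hRsum⟩ := orbit_split (fun χ => (sfive hG).orb χ) (fun χ => (sfive hG).self_mem χ)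
    (fun a b h => orb_eq _ h) A5 fun χ hχ ψ hψ => by
      obtain ⟨h1, -, -, -, -, h6⟩ := horbA χ (Finset.mem_union_left _ ((hA5m χ).1 hχ).1) ((hA5m χ).1 hχ).2 ψ hψ
      exact (hA5m ψ).2 ⟨h6 ((hA5m χ).1 hχ).1, by rw [h1]; exact ((hA5m χ).1 hχ).2⟩
  have hRA : ∀ r ∈ R, r ∈ B ∧ r ∈ A ∧ ¬ 5 ∣ d r := fun r hr =>
    ⟨Finset.mem_union_left _ ((hA5m r).1 (hR r hr)).1, (hA5m r).1 (hR r hr)⟩
  have hRmap : ∀ {β : Type} (f : IrrCharacter G → β), (∀ r ∈ R, ∀ ψ ∈ (sfive hG).orb r, f ψ = f r) →
      A5.val.map f = (R.map fun r => Multiset.replicate (n r) (f r)).sum := by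
    intro β f hf
    rw [hRsum, map_sum']
    refine congrArg _ (Multiset.map_congr rfl fun r hr => ?_)
    rw [Multiset.map_congr rfl (g := fun _ => f r) (hf r hr), Multiset.map_const', Finset.card_val,
      show n r = ((sfive hG).orb r).card from if_neg (hRA r hr).2.2]
  -- the completion is a case
  have hL'm : (L' : Multiset Pr) = (tp η ::ₘ A.val.map tp).filter fun x => (x.1 % 5 != 0) = true := by
    rw [Multiset.coe_eq_coe.2 hperm, coe_filterMap_pr, List.map_cons, ← Multiset.cons_coe, ← Multiset.map_coe,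
      Finset.coe_toList]
  have hqA5 : (A.val.map tp).filter (fun x => (x.1 % 5 != 0) = true) = A5.val.map tp := by
    rw [Multiset.filter_map, hA5, Finset.filter_val]
    refine congrArg _ (Multiset.filter_congr fun χ _ => ?_)
    simp [tp, Nat.dvd_iff_mod_eq_zero]
  have hqη : (({tp η} : Multiset Pr).filter fun x => (x.1 % 5 != 0) = true) = if 5 ∣ d η then 0 else {tp η} := by
    rw [Multiset.filter_singleton]
    by_cases h5 : 5 ∣ d η
    · rw [if_pos h5, if_neg]
      · rfl
      show ¬ (d η % 5 != 0) = true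
      rw [Nat.mod_eq_zero_of_dvd h5]
      decide
    · rw [if_neg h5, if_pos]
      have h5' : d η % 5 ≠ 0 := fun e => h5 (Nat.dvd_of_mod_eq_zero e)
      show (d η % 5 != 0) = true
      simpa [bne_iff_ne] using h5'
  rw [← Multiset.singleton_add, Multiset.filter_add, hqA5, hqη] at hL'm
  have hw1 : ((L'.filter fun x => decide (wt x.1 = 1) : List Pr) : Multiset Pr) = A5.val.map tp := by
    rw [coe_filterMap_pr, hL'm, Multiset.filter_add,
      (Multiset.filter_eq_self (s := A5.val.map tp)).2 fun a ha => by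
        obtain ⟨χ, hχ, rfl⟩ := Multiset.mem_map.1 ha
        simp [tp, hwtA χ ((hA5m χ).1 hχ).1]]
    split_ifs <;> simp [Multiset.filter_singleton, tp, hwtη]
  have hw2 : ((L'.filter fun x => decide (wt x.1 = 2) : List Pr) : Multiset Pr) =
      if 5 ∣ d η then 0 else {tp η} := by
    rw [coe_filterMap_pr, hL'm, Multiset.filter_add,
      (Multiset.filter_eq_nil (s := A5.val.map tp)).2 fun a ha => by
        obtain ⟨χ, hχ, rfl⟩ := Multiset.mem_map.1 ha
        simp [tp, hwtA χ ((hA5m χ).1 hχ).1]]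
    split_ifs <;> simp [Multiset.filter_singleton, tp, hwtη]
  set gl0 : List ℕ := if 5 ∣ d η then [d η] else [] with hgl0
  have hglmem : gl0 ∈ (if L'.any (fun x => decide (wt x.1 = 2)) then [[]] else gfive.map fun g => [g]) := by
    by_cases h5 : 5 ∣ d η
    · rw [if_neg ?_, hgl0, if_pos h5]
      · exact List.mem_map.2 ⟨d η, gl_five _ (hgl η (by simp)) (Nat.mod_eq_zero_of_dvd h5), rfl⟩
      · rw [if_pos h5, Multiset.coe_eq_zero, List.filter_eq_nil_iff] at hw2
        simpa [List.any_eq_true] using hw2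
    · rw [if_pos ?_, hgl0, if_neg h5]
      · exact List.mem_singleton_self _
      · rw [if_neg h5, Multiset.coe_eq_singleton] at hw2
        rw [List.any_eq_true]
        exact ⟨tp η, (List.mem_filter.1 (by rw [hw2]; exact List.mem_singleton_self _)).1, by simp [tp, hwtη]⟩
  have hlen : (L'.filter fun x => decide (wt x.1 = 1)).length = A5.card := by
    rw [← Multiset.coe_card, hw1, Multiset.card_map, Finset.card_val]
  have hAc : A5.card + Az.card = 9 := by
    rw [hA5, hAz, add_comm, Finset.card_filter_add_card_filter_not]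
    exact hA9
  have hcov' := List.all_eq_true.1 (List.all_eq_true.1 hcov L' hL) gl0 hglmem
  obtain ⟨fl, hfl, hf⟩ := pick_sound _ fills [] _ (Az.val.map d) (by rw [Multiset.card_map, Finset.card_val]; omega)
    (fun a ha => by
      obtain ⟨χ, hχ, rfl⟩ := Multiset.mem_map.1 ha
      obtain ⟨h1, h2⟩ := Finset.mem_filter.1 hχ
      exact xl_five _ (hxl χ h1) (Nat.mod_eq_zero_of_dvd h2)) hcov'
  rw [Multiset.coe_nil, add_zero] at hfl
  have hzeroA : Az.val.map (fun χ => ((d χ, 0) : Pr)) = Az.val.map tp := Multiset.map_congr rfl fun χ hχ => by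
    simp only [tp, S.F.zero χ (Finset.mem_filter.1 hχ).2]
  have hxsA : (((rowCase L' gl0 fl).2 : List Pr) : Multiset Pr) = A.val.map tp := by
    simp only [rowCase]
    rw [← Multiset.coe_add, hw1, ← Multiset.map_coe, hfl, Multiset.map_map, hAsplit, ← hzeroA]
    rfl
  have hgrow : (rowCase L' gl0 fl).1 = tp η := by
    simp only [rowCase]
    by_cases h5 : 5 ∣ d η
    · rw [if_pos h5, Multiset.coe_eq_zero] at hw2
      rw [hw2, hgl0, if_pos h5]
      simp [tp, S.F.zero η h5]
    · rw [if_neg h5, Multiset.coe_eq_singleton] at hw2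
      rw [hw2]
      rfl
  -- the sums over the block
  have hw23A : ∀ χ ∈ A, w23 (d χ) = 2 * c23 (d χ) := fun χ h => (xl_weights _ (hxl χ h)).1
  have h2c : c 2 ≠ oneChar := S.D.ne_one 2
  have h23sum : ∀ f : IrrCharacter G → ℤ, f η' = f η → ∑ χ, w23 (d χ) * f χ =
      2 * (f oneChar + f (c 2) + ∑ χ ∈ A, c23 (d χ) * f χ + c23 (d η) * f η) := by
    intro f hf
    have hd'' : Disjoint ({oneChar, c 2} : Finset (IrrCharacter G)) (A ∪ {η, η'}) :=
      Finset.disjoint_left.2 fun χ h h' => by
        rcases Finset.mem_insert.1 h with rfl | h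
        · exact hnp _ h' ((S.D.mem_iff _).2 (Or.inl rfl))
        · exact hnp _ h' ((S.D.mem_iff _).2 (Or.inr ⟨2, (Finset.mem_singleton.1 h).symm⟩))
    rw [← Finset.sum_subset (Finset.subset_univ ({oneChar, c 2} ∪ (A ∪ {η, η'}))) fun χ _ hχ => ?_]
    · rw [Finset.sum_union hd'', Finset.sum_union hdisj, Finset.sum_pair hne, Finset.sum_pair h2c.symm, hd1,
        show d (c 2) = 5544 from hd2,
        Finset.sum_congr rfl (s₁ := A) fun χ h => by rw [hw23A χ h, mul_assoc], ← Finset.mul_sum,
        (gl_weights _ (hgl η (by simp))).1, hf]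
      rw [show d η' = d η from hdη, (gl_weights _ (hgl η (by simp))).1]
      norm_num [w23]
      ring
    · simp only [Finset.mem_union, Finset.mem_insert, Finset.mem_singleton, not_or] at hχ
      obtain ⟨⟨h1, h2⟩, h3, h4, h5⟩ := hχ
      have e2 : (w23 (d χ)).natAbs ≠ 2 := fun e => h3 ((hA χ).2 ⟨e, h1, h2⟩)
      have e1 : (w23 (d χ)).natAbs ≠ 1 := fun e => ((hη χ).2 e).elim h4 h5
      have : w23 (d χ) = 0 := by
        revert e1 e2
        simp only [w23]
        split_ifs <;> simp
      rw [this, zero_mul]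
  have e_deg := h23sum (fun χ => (d χ : ℤ)) (by rw [show d η' = d η from hdη])
  rw [show ∑ χ, w23 (d χ) * (d χ : ℤ) = 0 from (weighted_deg (G := G) hG S.T).2.2.2.1, hd1,
    show d (c 2) = 5544 from hd2] at e_deg
  have hsqB : ∀ f : IrrCharacter G → ℤ, f η' = f η → ∑ χ ∈ B, f χ = ∑ χ ∈ A, f χ + 2 * f η := fun f hf => by
    rw [hB, Finset.sum_union hdisj, Finset.sum_pair hne, hf]
    ring
  have hall : (((L' ++ (gl0 ++ fl).map fun a => ((a, 0) : Pr)) : List Pr) : Multiset Pr) =
      tp η ::ₘ A.val.map tp := by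
    have e0 : (((gl0.map fun a => ((a, 0) : Pr)) : List Pr) : Multiset Pr) = if 5 ∣ d η then {tp η} else 0 := by
      rw [hgl0]
      split_ifs with h5
      · simp [tp, S.F.zero η h5]
      · rfl
    rw [List.map_append, ← Multiset.coe_add, ← Multiset.coe_add, e0, hL'm, ← Multiset.map_coe, hfl, Multiset.map_map,
      hAsplit, ← hzeroA, ← Multiset.singleton_add]
    simp only [Function.comp_def]
    split_ifs <;> abel
  have hdeg : degA (L' ++ (gl0 ++ fl).map fun a => ((a, 0) : Pr)) = true := by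
    simp only [degA, Bool.and_eq_true, decide_eq_true_eq]
    rw [← Multiset.sum_coe, ← Multiset.map_coe, hall, Multiset.map_cons, Multiset.sum_cons, Multiset.map_map,
      ← Multiset.sum_coe, ← Multiset.map_coe, hall, Multiset.map_cons, Multiset.sum_cons, Multiset.map_map]
    refine ⟨?_, ?_⟩
    · show 5545 + (c23 (d η) * (d η : ℤ) + ∑ χ ∈ A, c23 (d χ) * (d χ : ℤ)) = 0
      push_cast at e_deg
      linarith
    · show wt (d η) * ((d η : ℤ) * d η) + ∑ χ ∈ A, wt (d χ) * ((d χ : ℤ) * d χ) ≤ _
      have h := S.rest_d B hnp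
      have h' := hsqB (fun χ => (d χ : ℤ) * d χ) (by rw [show d η' = d η from hdη])
      rw [hwtη, Finset.sum_congr rfl fun χ hχ => by rw [hwtA χ hχ, one_mul]]
      have h'' : ((∑ χ ∈ B, d χ * d χ + (1 + 1771 * 1771 + 2024 * 2024 + 5544 * 5544 + 5796 * 5796) : ℕ) : ℤ) ≤
          ((244823040 : ℕ) : ℤ) := by exact_mod_cast h
      push_cast at h''
      simp only [ordM]
      push_cast
      linarith
  rw [hdeg, Bool.not_true, Bool.false_or] at hf
  obtain ⟨cc, hcc, he⟩ := List.any_eq_true.1 hf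
  simp only [Bool.and_eq_true, decide_eq_true_eq] at he
  obtain ⟨hcg, hcx⟩ := he
  rw [hgrow] at hcg
  have hxs : (cc.xs : Multiset Pr) = A.val.map tp := by rw [hcx, hxsA]
  -- the names
  let ent : IrrCharacter G → Ent := fun χ => ⟨d χ, φ χ, n χ⟩
  have hnA5 : ∀ r ∈ R, n r ∈ [1, 2, 4] := fun r hr => (S.conj_num (hnp r (hRA r hr).1) (hRA r hr).2.2).1
  have hentR : ∀ r ∈ R, (ent r).w = n r ∧ (ent r).c = c23 (d r) * ((ent r).w : ℤ) := fun r hr => by
    have h := hnA5 r hr
    simp only [List.mem_cons, List.not_mem_nil, or_false] at h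
    refine ⟨?_, ?_⟩
    · simp only [Ent.w, ent, xl_exc _ (hxl r (hRA r hr).2.1), Bool.false_eq_true, if_false]
      rw [if_neg (by omega)]
    · simp only [Ent.c, ent, xl_exc _ (hxl r (hRA r hr).2.1), Bool.false_eq_true, if_false]
  have hentZ : ∀ r ∈ Az.val, (ent r).w = 1 ∧ (ent r).c = c23 (d r) * ((ent r).w : ℤ) := fun r hr => by
    obtain ⟨h1, h2⟩ := Finset.mem_filter.1 hr
    refine ⟨?_, ?_⟩
    · simp only [Ent.w, ent, xl_exc _ (hxl r h1), Bool.false_eq_true, if_false, hn0 r h2, if_true]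
    · simp only [Ent.c, ent, xl_exc _ (hxl r h1), Bool.false_eq_true, if_false]
  have hentη : (ent η).w = 2 ∧ (ent η).c = c23 (d η) := by
    simp only [Ent.w, Ent.c, ent, gl_exc _ (hgl η (by simp)), if_true, and_self]
  set S' : Multiset (Ent × ℤ) := (R + Az.val).map fun χ => (ent χ, z χ) with hS'
  set SS : Multiset (Ent × ℤ) := (ent η, z η) ::ₘ S' with hSS
  have hpartsA : ∀ {β : Type} (f : IrrCharacter G → β), (∀ r ∈ R, ∀ ψ ∈ (sfive hG).orb r, f ψ = f r) →
      ((R + Az.val).map fun χ => Multiset.replicate (ent χ).w (f χ)).sum = A.val.map f := by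
    intro β f hf
    rw [Multiset.map_add, Multiset.sum_add, hAsplit, hRmap f hf]
    refine congrArg₂ _ (congrArg _ (Multiset.map_congr rfl fun r hr => by rw [(hentR r hr).1])) ?_
    rw [Multiset.map_congr rfl (g := fun χ => ({f χ} : Multiset β)) fun r hr => by
      rw [(hentZ r hr).1, Multiset.replicate_one]]
    rw [← Multiset.sum_map_singleton (Az.val.map f), Multiset.map_map]
    rfl
  have hmbR : ∀ r ∈ R, ∀ ψ ∈ (sfive hG).orb r, mb φ z ψ = mb φ z r := fun r hr ψ hψ => by
    obtain ⟨h1, h2, h3, -⟩ := horbA r (hRA r hr).1 (hRA r hr).2.2 ψ hψ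
    simp only [mb, h2, h3]
    rw [show charDegree (ψ : G → ℂ) = charDegree (r : G → ℂ) from h1]
  have hmb' : (S'.map mbs).sum = A.val.map (mb φ z) := by
    rw [hS', Multiset.map_map, ← hpartsA (mb φ z) hmbR]
    rfl
  have hmbS : (SS.map mbs).sum = B.val.map (mb φ z) := by
    rw [hSS, Multiset.map_cons, Multiset.sum_cons, hmb', hBval, hmbη, add_comm, mbs, hentη.1]
    rfl
  have hXB : ((SS.map mbs).sum).map drop0 = (blockMbs cc.g cc.xs : Multiset Mb) := by
    rw [hmbS, hBval, hmbη, Multiset.map_add, blockMbs, ← Multiset.coe_add, ← Multiset.map_coe, hxs, hcg,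
      Multiset.map_map, Multiset.map_map, add_comm]
    rfl
  -- the shape
  have hw1c : ((cc.xs.filter fun a => a.1 % 5 != 0 : List Pr) : Multiset Pr) = A5.val.map tp := by
    rw [coe_filterMap_pr, hxs, hqA5]
  have hng : if cc.g.1 % 5 = 0 then n η = 0 else n η = 1 ∨ n η = 2 := by
    rw [hcg]
    split_ifs with h5
    · exact hn0 η (Nat.dvd_of_mod_eq_zero h5)
    · exact (horbη fun h => h5 (Nat.mod_eq_zero_of_dvd h)).1
  obtain ⟨s, hs, hsmem⟩ := shape_exists cc.g cc.xs (R.map ent)
    (fun e he => by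
      obtain ⟨r, hr, rfl⟩ := Multiset.mem_map.1 he
      refine ⟨hnA5 r hr, ?_⟩
      rw [← Multiset.mem_coe, hw1c]
      exact Multiset.mem_map_of_mem tp (hR r hr))
    (fun a ha => by
      refine ⟨?_, ?_⟩
      · rw [show List.count a (cc.xs.filter fun a => a.1 % 5 != 0) = Multiset.count a
            ((cc.xs.filter fun a => a.1 % 5 != 0 : List Pr) : Multiset Pr) by rw [Multiset.coe_count]; congr!, hw1c, hRmap tp fun r hr ψ hψ => by
          obtain ⟨h1, h2, -⟩ := horbA r (hRA r hr).1 (hRA r hr).2.2 ψ hψ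
          simp only [tp, h1, h2], count_rep, Multiset.filter_map, Multiset.map_map]
        rfl
      · obtain ⟨h1, h2⟩ := List.mem_filter.1 ha
        refine le_trans ?_ (hfive cc hcc a h1 (by simpa using h2))
        exact (List.filter_sublist (l := cc.xs)).count_le a) (ng := n η) hng
  have hSs : SS.map Prod.fst = (s : Multiset Ent) := by
    rw [hs, hSS, Multiset.map_cons, hS', Multiset.map_map, Multiset.map_add, Multiset.cons_add, hcg]
    congr 2
    rw [← Multiset.map_coe, coe_filterMap_pr, hxs, Multiset.filter_map, hAz, Finset.filter_val, Multiset.map_map]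
    refine Eq.trans ?_ (congrArg _ (Multiset.filter_congr (p := fun χ => 5 ∣ d χ) fun χ _ => by
      simp [tp, Nat.dvd_iff_mod_eq_zero]))
    exact Multiset.map_congr rfl fun χ hχ => by
      simp [ent, tp, hn0 χ (Multiset.mem_filter.1 hχ).2]
  have hshape : s ∈ shapesOf cc.g cc.xs := by
    refine hsmem (covered_shape fun e he hne0 => ?_)
    obtain ⟨χ0, hχ0, h5, rfl⟩ : ∃ χ ∈ B, ¬ 5 ∣ d χ ∧ ent χ = e := by
      rw [← Multiset.mem_coe, ← hSs, Multiset.mem_map] at he
      obtain ⟨a, ha, rfl⟩ := he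
      have key : ∀ χ ∈ B, a = (ent χ, z χ) → ∃ χ' ∈ B, ¬ 5 ∣ d χ' ∧ ent χ' = a.1 := fun χ h e =>
        ⟨χ, h, fun h5 => hne0 (by rw [e]; exact hn0 χ h5), by rw [e]⟩
      rw [hSS, Multiset.mem_cons, hS', Multiset.mem_map] at ha
      rcases ha with e | ⟨χ, hχ, e⟩
      · exact key η hηB e
      · refine key χ ?_ e.symm
        rcases Multiset.mem_add.1 hχ with h | h
        · exact (hRA χ h).1
        · exact Finset.mem_union_left _ (Finset.mem_filter.1 h).1
    let tag : IrrCharacter G → Pr × ℕ := fun χ => (tp χ, n χ)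
    have htagS : ((s : Multiset Ent).map fun e => Multiset.replicate e.w (e.pr, e.n)).sum = B.val.map tag := by
      rw [← hSs, Multiset.map_map, hSS, Multiset.map_cons, Multiset.sum_cons, hS', Multiset.map_map, hBval,
        show tag η' = tag η by simp only [tag, tp, hnη, hfη]; rw [show d η' = d η from hdη], add_comm]
      rw [← hpartsA tag fun r hr ψ hψ => by
        obtain ⟨h1, h2, -, h4, -⟩ := horbA r (hRA r hr).1 (hRA r hr).2.2 ψ hψ
        simp only [tag, tp, h1, h2, h4]]
      congr 1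
      simp only [Function.comp_apply, hentη.1]
      rfl
    obtain ⟨e, N, X, Y, y, σ, v, ⟨hem, hXc, hYc, hdj, h0m, hy, hmem, hYt, hXN, hxs', has⟩, hXo, hYo, -⟩ :=
      five_full S.T S.D S.F (t := tp) (fun _ => rfl) χ0 h5
    have hnpB : ∀ χ ∈ X ∪ Y, χ ∉ principalBlock M G := fun χ h =>
      Cover.not_mem_principal S.D.modular (hnp χ0 hχ0) (hmem χ h).2
    have hit : ∀ χ ∈ X ∪ Y, isItem 12 (tp χ) = true := fun χ h =>
      ((S.single (hnpB χ h)).2.2 (hmem χ h).1).1
    have hBm : X.val.map tp + Multiset.replicate N (tp y) = (X ∪ Y).val.map tp := by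
      rw [← Finset.disjUnion_eq_union _ _ hdj, Finset.disjUnion_val, Multiset.map_add,
        Multiset.map_congr rfl (s := Y.val) fun y' hy' => (hYt y' hy').1, Multiset.map_const', Finset.card_val, hYc]
    obtain ⟨r, hr, hle⟩ := covered (by norm_num : 12 ≤ 192) ctOkTwelve (tb := tblTwelve)
      (fun x hx => by
        rw [selfsEqTwelve, ← List.take_append_drop 15 selfsTwelve, List.mem_append] at hx
        rcases hx with hx | hx
        exacts [List.all_eq_true.1 goodSelfFstTwelve x hx, List.all_eq_true.1 goodSelfSndTwelve x hx])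
      hem (X.val.map tp) (tp y)
      (by rw [Multiset.card_map, Finset.card_val, hXc])
      (fun a ha => by
        obtain ⟨χ, hχ, rfl⟩ := Multiset.mem_map.1 ha
        exact ⟨hit χ (Finset.mem_union_left _ hχ), hXN χ hχ⟩)
      (hit y (Finset.mem_union_right _ hy))
      (by rw [Multiset.map_map]; exact hxs') (by rw [Multiset.map_map]; exact has)
      (x := tp χ0) (by rw [hBm]; exact Multiset.mem_map_of_mem tp h0m)
      (by
        have hw : d χ0 % 23 ≠ 0 := by
          rcases Finset.mem_union.1 hχ0 with h | h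
          · exact (xl_weights _ (hxl χ0 h)).2.2.1
          · exact (gl_weights _ (hgl χ0 h)).2.2.1
        simpa [b23, tp] using hw)
      (by
        have hexc : ∀ χ ∈ X ∪ Y, exc (tp χ) = true → χ = η ∨ χ = η' := fun χ h he => by
          refine (hη χ).2 ?_
          simp only [exc, tp, Bool.or_eq_true, beq_iff_eq] at he
          show (w23 (d χ)).natAbs = 1
          simp only [w23]
          split_ifs <;> omega
        have h1 := S.rest_d (X ∪ Y) hnpB
        rw [hBm]
        refine ⟨?_, ?_, ?_, ?_⟩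
        · rw [Multiset.map_map, show room = 180493487 by decide +kernel]
          show ∑ χ ∈ X ∪ Y, charDegree (χ : G → ℂ) * charDegree (χ : G → ℂ) ≤ 180493487
          omega
        · rw [Multiset.map_map]
          have := S.rest_f (X ∪ Y) hnpB
          show ∑ χ ∈ X ∪ Y, φ χ * φ χ ≤ _
          push_cast
          linarith
        · rw [Multiset.filter_map, Multiset.card_map]
          refine (Multiset.card_le_card (t := ({η, η'} : Finset (IrrCharacter G)).val)
            (Multiset.le_iff_subset ((X ∪ Y).nodup.filter _) |>.2 fun χ hχ => ?_)).trans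
            (Finset.card_le_two (a := η) (b := η'))
          obtain ⟨h, he⟩ := Multiset.mem_filter.1 hχ
          simpa using hexc χ h he
        · intro a ha b hb hae hbe
          obtain ⟨χ, hχ, rfl⟩ := Multiset.mem_map.1 ha
          obtain ⟨χ', hχ', rfl⟩ := Multiset.mem_map.1 hb
          rcases hexc χ hχ hae with e₁ | e₁ <;> rcases hexc χ' hχ' hbe with e₂ | e₂ <;> rw [e₁, e₂] <;>
            simp [tp, hfη, show d η' = d η from hdη])
    refine ⟨r, hr, ?_⟩
    rw [htagS]
    rw [hBm, ← Multiset.map_erase_of_mem tp _ (show χ0 ∈ (X ∪ Y).val from h0m), Multiset.filter_map] at hle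
    set W := ((X ∪ Y).val.erase χ0).filter ((fun a => b23 a = true) ∘ tp)
    have hnN : ∀ χ ∈ X ∪ Y, n χ * (φ χ).natAbs = N * (φ y).natAbs := fun χ h => by
      rw [show n χ = ((sfive hG).orb χ).card from if_neg (hmem χ h).1]
      rcases Finset.mem_union.1 h with h | h
      · rw [hXo χ h, Finset.card_singleton, one_mul, hXN χ h]
      · rw [hYo χ h, hYc, show φ χ = φ y from congrArg Prod.snd (hYt χ h).1]
    have hW : W.map (fun χ => (tp χ, n χ0 * (φ χ0).natAbs / (φ χ).natAbs)) = W.map tag := by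
      refine Multiset.map_congr rfl fun χ hχ => ?_
      have hm : χ ∈ X ∪ Y := Multiset.mem_of_mem_erase (Multiset.mem_filter.1 hχ).1
      have h0 : (φ χ).natAbs ≠ 0 := Int.natAbs_ne_zero.2 ((S.single (hnpB χ hm)).2.2 (hmem χ hm).1).2
      rw [hnN χ0 h0m, ← hnN χ hm, Nat.mul_div_cancel _ (Nat.pos_of_ne_zero h0)]
    have hle' := Multiset.map_le_map (f := fun q : Pr => (q, n χ0 * (φ χ0).natAbs / q.2.natAbs)) hle
    rw [Multiset.map_map] at hle'
    refine le_trans (Multiset.cons_le_cons _ (hle'.trans (le_of_eq hW))) ?_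
    show tag χ0 ::ₘ W.map tag ≤ _
    rw [← Multiset.map_cons]
    refine Multiset.map_le_map ((Multiset.le_iff_subset (Multiset.nodup_cons.2
      ⟨fun h => ((X ∪ Y).nodup.mem_erase_iff.1 (Multiset.mem_filter.1 h).1).1 rfl,
        ((X ∪ Y).nodup.erase _).filter _⟩)).2 fun χ hχ => ?_)
    rcases Multiset.mem_cons.1 hχ with rfl | hχ
    · exact hχ0
    obtain ⟨hχ, hb⟩ := Multiset.mem_filter.1 hχ
    have hm : χ ∈ X ∪ Y := Multiset.mem_of_mem_erase hχ
    have h23 : d χ % 23 ≠ 0 := by simpa [b23, tp] using hb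
    have hp := hnpB χ hm
    have hcl := (S.single hp).1.2
    rw [Finset.mem_val, hB, Finset.mem_union]
    by_cases hw : (w23 (d χ)).natAbs = 2
    · exact Or.inl ((hA χ).2 ⟨hw, fun e => hp ((S.D.mem_iff χ).2 (Or.inl e)),
        fun e => hp ((S.D.mem_iff χ).2 (Or.inr ⟨2, e.symm⟩))⟩)
    by_cases hw' : (w23 (d χ)).natAbs = 1
    · exact Or.inr (by simpa using (hη χ).2 hw')
    rw [if_neg hw, if_neg hw'] at hcl
    exact absurd hcl h23
  -- all characters
  set K : Finset (IrrCharacter G) := insert oneChar (Finset.univ.image c) with hK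
  set O := Finset.univ \ (K ∪ B) with hO
  have hKB : Disjoint K B := Finset.disjoint_left.2 fun χ h h' => hnp χ h' (S.mem_principal.2 h)
  have huniv : ∀ {β : Type} (f : IrrCharacter G → β),
      (Finset.univ : Finset (IrrCharacter G)).val.map f = K.val.map f + B.val.map f + O.val.map f := by
    intro β f
    rw [← Multiset.map_add, ← Finset.disjUnion_val K B hKB, ← Multiset.map_add,
      Finset.disjUnion_eq_union, hO, Finset.sdiff_val, add_tsub_cancel_of_le]
    exact Finset.val_le_iff.2 (Finset.subset_univ _)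
  have hOnp : ∀ χ ∈ O, χ ∉ principalBlock M G := fun χ h hp => by
    simp only [hO, Finset.mem_sdiff, Finset.mem_union, not_or] at h
    exact h.2.1 (S.mem_principal.1 hp)
  have hO23 : ∀ χ ∈ O, d χ % 23 = 0 := fun χ h => by
    have hp := hOnp χ h
    simp only [hO, Finset.mem_sdiff, Finset.mem_union, hB, not_or] at h
    have h2 : (w23 (d χ)).natAbs ≠ 2 := fun e => h.2.2.1 ((hA χ).2 ⟨e,
      fun e' => hp ((S.D.mem_iff χ).2 (Or.inl e')), fun e' => hp ((S.D.mem_iff χ).2 (Or.inr ⟨2, e'.symm⟩))⟩)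
    have h1 : (w23 (d χ)).natAbs ≠ 1 := fun e => h.2.2.2 (by simpa using (hη χ).2 e)
    have := (S.single hp).1.2
    rwa [if_neg h2, if_neg h1] at this
  set Y0 := O.filter fun χ => ¬ d χ % 253 = 0 with hY0
  set U0 := O.filter fun χ => d χ % 253 = 0 with hU0
  have hsplitO : O.val.map (mb φ z) = Y0.val.map (mb φ z) + U0.val.map (mb φ z) := by
    rw [← Multiset.map_add, hY0, hU0, Finset.filter_val, Finset.filter_val, add_comm]
    exact congrArg _ (Multiset.filter_add_not _ _).symm
  set zs := [z (c 0), z (c 1), z (c 2), z (c 3)] with hzs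
  have hKmb : K.val.map (mb φ z) = (known zs : Multiset Mb) := by
    rw [hK, Finset.insert_val_of_notMem (by simpa using fun i => S.D.ne_one i),
      Finset.image_val_of_injOn fun i _ j _ e => S.D.inj e, Multiset.map_cons, Multiset.map_map, Fin.univ_val_map,
      Multiset.cons_coe]
    simp [known, hzs, mb, S.F.one, S.T.z_one, hd0', hf0', hd1', hf1', hd2, hf2, hd3, hf3, List.ofFn_succ,
      show charDegree ((oneChar : IrrCharacter G) : G → ℂ) = 1 from hd1]
  have hall' : (Finset.univ : Finset (IrrCharacter G)).val.map (mb φ z) =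
      (known zs : Multiset Mb) + (SS.map mbs).sum + Y0.val.map (mb φ z) + U0.val.map (mb φ z) := by
    rw [huniv, hKmb, ← hmbS, hsplitO]
    abel
  -- the values at the involution on the block
  have e_lin := h23sum z hzη
  rw [show ∑ χ, w23 (d χ) * z χ = 0 from S.T.lin_twentythree, S.T.z_one] at e_lin
  have e_quad := h23sum (fun χ => nd (d χ) * (z χ * z χ)) (by rw [show d η' = d η from hdη, hzη])
  rw [show ∑ χ, w23 (d χ) * (nd (d χ) * (z χ * z χ)) = 0 by
    have h := int_form (G := G) hG (fun χ => w23 (d χ)) fun χ => z χ * z χ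
    have h' : ((∑ χ, w23 (d χ) * (nd (d χ) * (z χ * z χ)) : ℤ) : ℂ) = ((0 : ℤ) : ℂ) := by
      simp only [← mul_assoc] at h ⊢
      rw [h]
      have hq := S.T.quad_twentythree
      simp only [d, Int.cast_mul, pow_two, mul_assoc] at hq ⊢
      rw [hq]
      simp
    exact_mod_cast h', S.T.z_one, hd1, show d (c 2) = 5544 from hd2] at e_quad
  obtain ⟨m, hm⟩ := S.F.mixed_twentythree
  have e_mix := h23sum (fun χ => nd (d χ) * (φ χ * z χ)) (by rw [show d η' = d η from hdη, hfη, hzη])
  rw [show ∑ χ, w23 (d χ) * (nd (d χ) * (φ χ * z χ)) = 2 * (((60 * C : ℕ) : ℤ) * (m : ℤ)) by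
    have h := int_form (G := G) hG (fun χ => w23 (d χ)) fun χ => φ χ * z χ
    have h' : ((∑ χ, w23 (d χ) * (nd (d χ) * (φ χ * z χ)) : ℤ) : ℂ) =
        ((2 * (((60 * C : ℕ) : ℤ) * (m : ℤ)) : ℤ) : ℂ) := by
      simp only [← mul_assoc] at h ⊢
      rw [h]
      simp only [d, Int.cast_mul] at hm ⊢
      simp only [mul_assoc] at hm ⊢
      rw [hm]
      push_cast
      ring
    exact_mod_cast h', S.F.one, S.T.z_one, hf2, hd1, show d (c 2) = 5544 from hd2] at e_mix
  rw [show nd 1 = (ordM : ℤ) by simp [nd]] at e_quad e_mix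
  have hzs2 : zs.getD 2 0 = z (c 2) := rfl
  have hsumS : ∀ h : Mb → ℤ, (SS.map fun a => a.1.c * h ⟨a.1.d, a.1.f, a.2⟩).sum =
      c23 (d η) * h (mb φ z η) + ∑ χ ∈ A, c23 (d χ) * h (mb φ z χ) := by
    intro h
    rw [hSS, Multiset.map_cons, Multiset.sum_cons, hentη.2]
    congr 1
    have : (S'.map fun a => a.1.c * h ⟨a.1.d, a.1.f, a.2⟩).sum =
        (S'.map fun a => (a.1.w : ℤ) * (c23 a.1.d * h ⟨a.1.d, a.1.f, a.2⟩)).sum := by
      refine congrArg _ (Multiset.map_congr rfl fun a ha => ?_)
      rw [hS', Multiset.mem_map] at ha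
      obtain ⟨χ, hχ, rfl⟩ := ha
      have hc : (ent χ).c = c23 (d χ) * ((ent χ).w : ℤ) := by
        rcases Multiset.mem_add.1 hχ with h | h
        exacts [(hentR χ h).2, (hentZ χ h).2]
      simp only [hc]
      ring
    rw [this, sum_w S' fun a => c23 a.d * h a, hmb', msum, Multiset.map_map]
    rfl
  have hXD : XData (C, zs) SS := by
    refine ⟨fun a ha => ?_, fun a ha => ?_, ?_, ?_, ?_, ?_⟩
    · obtain ⟨χ, hχ, rfl⟩ : ∃ χ ∈ B, (ent χ, z χ) = a := by
        rw [hSS, Multiset.mem_cons, hS', Multiset.mem_map] at ha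
        rcases ha with e | ⟨χ, hχ, e⟩
        · exact ⟨η, hηB, e.symm⟩
        · refine ⟨χ, ?_, e⟩
          rcases Multiset.mem_add.1 hχ with h | h
          · exact (hRA χ h).1
          · exact Finset.mem_union_left _ (Finset.mem_filter.1 h).1
      have hf := S.rest_f {χ} (by simpa using hnp χ hχ)
      rw [Finset.sum_singleton] at hf
      refine ⟨ThreeCase.deg_pos' χ, by nlinarith, by nlinarith, ?_⟩
      by_cases h5 : 5 ∣ d χ
      · show n χ < 8
        rw [hn0 χ h5]; norm_num
      · have h := (S.conj_num (hnp χ hχ) h5).1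
        simp only [List.mem_cons, List.not_mem_nil, or_false] at h
        show n χ < 8
        simp only [n]
        omega
    · obtain ⟨χ, hχ, rfl⟩ : ∃ χ ∈ B, (ent χ, z χ) = a := by
        rw [hSS, Multiset.mem_cons, hS', Multiset.mem_map] at ha
        rcases ha with e | ⟨χ, hχ, e⟩
        · exact ⟨η, hηB, e.symm⟩
        · refine ⟨χ, ?_, e⟩
          rcases Multiset.mem_add.1 hχ with h | h
          · exact (hRA χ h).1
          · exact Finset.mem_union_left _ (Finset.mem_filter.1 h).1
      refine ⟨S.zget_mem χ, fun h0 => ?_⟩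
      exact (S.conj_num (hnp χ hχ) fun h5 => h0 (hn0 χ h5)).2.1
    · show 1 + zs.getD 2 0 + _ = 0
      rw [hzs2, hsumS fun a => a.z]
      simp only [mb]
      linarith
    · show _ + nd 5544 * (zs.getD 2 0 * zs.getD 2 0) + _ = 0
      rw [hzs2, show (SS.map fun a => a.1.c * nd a.1.d * (a.2 * a.2)) = SS.map fun a =>
          a.1.c * (fun b : Mb => nd b.d * (b.z * b.z)) ⟨a.1.d, a.1.f, a.2⟩ from
          Multiset.map_congr rfl fun a _ => by ring, hsumS fun b => nd b.d * (b.z * b.z)]
      simp only [mb, d] at e_quad ⊢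
      linarith
    · rw [sum_w SS fun b => b.z * b.z, hmbS, msum, Multiset.map_map, sumOn_eq]
      show ∑ χ ∈ B, z χ * z χ ≤ (C : ℤ) - msum _ (known zs : Multiset Mb)
      rw [← hKmb, msum, Multiset.map_map]
      show ∑ χ ∈ B, z χ * z χ ≤ (C : ℤ) - ∑ χ ∈ K, z χ * z χ
      have h6 := Finset.sum_le_sum_of_subset_of_nonneg (f := fun χ => z χ * z χ) (Finset.subset_univ (K ∪ B))
        fun i _ _ => mul_self_nonneg _
      rw [S.T.square, Finset.sum_union hKB] at h6
      linarith
    · have hsum : ((ordM : ℤ) - nd 5544 * zs.getD 2 0 + (SS.map fun a => a.1.c * nd a.1.d * a.1.f * a.2).sum) =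
          ((60 * C : ℕ) : ℤ) * (m : ℤ) := by
        rw [hzs2, show (SS.map fun a => a.1.c * nd a.1.d * a.1.f * a.2) = SS.map fun a =>
            a.1.c * (fun b : Mb => nd b.d * (b.f * b.z)) ⟨a.1.d, a.1.f, a.2⟩ from
            Multiset.map_congr rfl fun a _ => by ring, hsumS fun b => nd b.d * (b.f * b.z)]
        simp only [mb, d] at e_mix ⊢
        linarith
      show 0 ≤ _ ∧ _ % ((60 * C : ℕ) : ℤ) = 0
      rw [hsum]
      exact ⟨by positivity, Int.mul_emod_right _ _⟩
  -- the count of members with value at eleven not zero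
  have hW := S.whole
  rw [hall'] at hW
  have hres : ∀ χ : IrrCharacter G, d χ % 11 = 0 ∨ d χ % 11 = 1 ∨ d χ % 11 = 10 := fun χ => by
    have h11 := deg_res_eleven hG χ
    simp only [Five.resEleven, List.mem_cons, List.not_mem_nil, or_false] at h11
    exact h11
  have hcard : (knownY cc.g cc.xs).length + (Y0.val.map (mb φ z)).card = 11 := by
    have huu := hW.uu
    rw [msum_add, msum_add] at huu
    try rw [msum_add] at huu
    have h0 : msum (fun a => s11 a.d * s11 a.d) (U0.val.map (mb φ z)) = 0 := msum_zero fun a ha => by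
      obtain ⟨χ, hχ, rfl⟩ := Multiset.mem_map.1 ha
      rw [show (mb φ z χ).d = d χ from rfl, s11_zero (Finset.mem_filter.1 hχ).2, zero_mul]
    have h1 : msum (fun a => s11 a.d * s11 a.d) (Y0.val.map (mb φ z)) = ((Y0.val.map (mb φ z)).card : ℤ) := by
      rw [msum, Multiset.map_congr rfl (g := fun _ => (1 : ℤ)) fun a ha => ?_, Multiset.map_const',
        Multiset.sum_replicate, nsmul_eq_mul, mul_one]
      obtain ⟨χ, hχ, rfl⟩ := Multiset.mem_map.1 ha
      obtain ⟨h1, h2⟩ := Finset.mem_filter.1 hχ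
      have h3 := hO23 χ h1
      rcases hres χ with h | h | h
      · exact absurd h (fun h => h2 (by omega))
      all_goals simp [s11, mb, show charDegree (χ : G → ℂ) % 11 = _ from h]
    have hdrop : ∀ m : Multiset Mb, msum (fun a => s11 a.d * s11 a.d) (m.map drop0) =
        msum (fun a => s11 a.d * s11 a.d) m := fun m => by
      simp only [msum, Multiset.map_map]; rfl
    have h2 : msum (fun a => s11 a.d * s11 a.d) ((known zs : Multiset Mb) + (SS.map mbs).sum) =
        ((knownY cc.g cc.xs).length : ℤ) := by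
      have hk := knownY_sum cc.g cc.xs (fun a => s11 a.1 * s11 a.1) fun a h => by
        simp [s11, show a.1 % 11 ≠ 1 ∧ a.1 % 11 ≠ 10 by omega]
      rw [← hdrop, Multiset.map_add, hXB,
        show ((known zs : List Mb) : Multiset Mb).map drop0 = (known0 : Multiset Mb) by simp [known, known0, drop0],
        Multiset.coe_add, ← sumOn_eq]
      refine Eq.trans hk.symm ?_
      rw [List.map_congr_left (g := fun _ => (1 : ℤ)) fun a ha => ?_]
      · simp
      have hres' : a.1 % 11 = 1 ∨ a.1 % 11 = 10 := by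
        have hg11 := hres η
        simp only [knownY, hcg, List.mem_append, List.mem_cons, List.not_mem_nil, or_false, List.mem_filter] at ha
        rcases ha with ((rfl | rfl) | h) | ⟨h, h'⟩
        · norm_num
        · norm_num
        · split_ifs at h with he
          · simp at h
          · simp only [List.mem_cons, List.not_mem_nil, or_false, or_self] at h
            rw [h]
            exact hg11.resolve_left he
        · rw [← Multiset.mem_coe, hxs, Multiset.mem_map] at h
          obtain ⟨χ, -, rfl⟩ := h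
          exact (hres χ).resolve_left (by simpa [bne_iff_ne] using h')
      rcases hres' with h | h <;> simp [s11, h]
    rw [msum_add] at h2
    rw [h0, h1, h2, add_zero] at huu
    exact_mod_cast huu
  refine case_false (hkill cc hcc) (t := (C, zs)) htup hshape hSs hXD hXB (Y := Y0.val.map (mb φ z))
    (U := U0.val.map (mb φ z)) hW ?_ hcard ?_ ?_ ?_
  · intro a ha
    obtain ⟨χ, hχ, rfl⟩ := Multiset.mem_map.1 ha
    obtain ⟨hχO, h253⟩ := Finset.mem_filter.1 hχ
    have hp := hOnp χ hχO
    refine ⟨?_, S.zget_mem χ, ?_⟩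
    · have := (S.single hp).2.1 (hO23 χ hχO)
      rwa [if_neg h253] at this
    · by_cases h5 : 5 ∣ d χ
      · exact Or.inl (Nat.mod_eq_zero_of_dvd h5)
      obtain ⟨h1, h2, h3⟩ := S.conj_num hp h5
      refine Or.inr ⟨_, h1, ?_, h2⟩
      rw [Multiset.le_count_iff_replicate_le, Multiset.map_map]
      have hsub : (sfive hG).orb χ ⊆ Y0 := fun ψ hψ => by
        obtain ⟨hp', hd, -⟩ := h3 ψ hψ
        refine Finset.mem_filter.2 ⟨?_, by rw [show d ψ = d χ from hd]; exact h253⟩
        have h23 := hO23 χ hχO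
        simp only [hO, Finset.mem_sdiff, Finset.mem_union, Finset.mem_univ, true_and, not_or, hB]
        refine ⟨fun h => hp' (S.mem_principal.2 h), fun h => ?_, fun h => ?_⟩
        · have := hw2A ψ h
          rw [show d ψ = d χ from hd] at this
          simp only [w23] at this
          split_ifs at this <;> omega
        · have := hwη ψ h
          rw [show d ψ = d χ from hd] at this
          simp only [w23] at this
          split_ifs at this <;> omega
      refine le_trans (le_of_eq ?_) (Multiset.map_le_map (f := fun ψ => (mb φ z ψ).pr) (Finset.val_le_iff.2 hsub))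
      rw [Multiset.map_congr rfl (g := fun _ => (mb φ z χ).pr) fun ψ hψ => ?_, Multiset.map_const', Finset.card_val,
        conjNum, if_neg h5]
      obtain ⟨-, hd, hf, -⟩ := h3 ψ hψ
      simp only [mb, Mb.pr, hd, hf]
  · intro a ha
    obtain ⟨χ, hχ, rfl⟩ := Multiset.mem_map.1 ha
    obtain ⟨hχO, h253⟩ := Finset.mem_filter.1 hχ
    refine ⟨h253, ?_⟩
    have := (S.single (hOnp χ hχO)).2.1 (hO23 χ hχO)
    rwa [if_pos h253] at this
  · intro x hx h5
    rw [← hall']
    obtain ⟨χ, -, rfl⟩ : ∃ χ, χ ∈ (Finset.univ : Finset (IrrCharacter G)) ∧ mb φ z χ = x := by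
      have : x ∈ (Finset.univ : Finset (IrrCharacter G)).val.map (mb φ z) := by
        rw [hall']
        simp only [Multiset.mem_add] at hx ⊢
        tauto
      simpa using this
    exact S.blk_five χ fun h => h5 (Nat.mod_eq_zero_of_dvd h)
  · intro x hx h7
    rw [← hall']
    obtain ⟨χ, -, rfl⟩ : ∃ χ, χ ∈ (Finset.univ : Finset (IrrCharacter G)) ∧ mb φ z χ = x := by
      have : x ∈ (Finset.univ : Finset (IrrCharacter G)).val.map (mb φ z) := by
        rw [hall']
        simp only [Multiset.mem_add] at hx ⊢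
        tauto
      simpa using this
    exact S.blk_seven χ fun h => h7 (Nat.mod_eq_zero_of_dvd h)

end Cfsg.Agent.MTwentyFour.ByOrder.RowA
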