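import Cfsg.Agent.Lib.Spor.MTwentyFourOrder.FiveSide
import Cfsg.Agent.Lib.Spor.MTwentyFourOrder.FiveValue
import Cfsg.Agent.Lib.Spor.MTwentyFourOrder.BlockCover

/-!
A simple group of the order of the Mathieu group of degree twenty-four: the blocks of five with their classes of
conjugate members, and the two values at the elements of order twenty-three.
-/

set_option autoImplicit false
set_option linter.unusedSectionVars false
set_option maxRecDepth 100000
set_option maxHeartbeats 1000000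

namespace Cfsg.Agent.MTwentyFour.ByOrder.RowA

open Cfsg Cfsg.Agent.Char Cfsg.Agent.Small.Order459648 Cfsg.Agent.Char.PrimeSylowCount
open Cfsg.Agent.MTwelve.OrderFront (val_one)
open Cfsg.Agent.MTwentyFour.ByOrder.Ten (TCol w11 w23 selfcent_data)
open Cfsg.Agent.MTwentyFour.ByOrder.ThreeCase (w11_eq deg_pos')
open Cfsg.Agent.MTwentyFour.ByOrder.FiveColumn (FCol)
open Cfsg.Agent.MTwentyFour.ByOrder.FiveRow (FiveData)
open Cfsg.Agent.MTwentyFour.ByOrder.FiveValue (invol_value)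
open Cfsg.Agent.MTwentyFour.ByOrder.FiveSide (xv av)
open scoped _root_.Classical ComplexConjugate

universe u

variable {G : Type u} [Group G] [Fintype G] [IsSimpleGroup G]

local instance fact_fiveOrbit : Fact (Nat.Prime 5) := ⟨by norm_num⟩
local instance fact_elevenOrbit : Fact (Nat.Prime 11) := ⟨by norm_num⟩
local instance fact_twentyThreeOrbit : Fact (Nat.Prime 23) := ⟨by norm_num⟩

/-- the conjugation on the values of elements of order prime to five -/
def sfive (hG : Nat.card G = 244823040) : PConj.Setup G 5 :=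
  ⟨1, 48964608, by norm_num, by rw [hG]; norm_num, by norm_num⟩

theorem orb_eq {p : ℕ} [Fact p.Prime] (S : PConj.Setup G p) {χ ψ : IrrCharacter G} (h : ψ ∈ S.orb χ) :
    S.orb ψ = S.orb χ := by
  have h1 := DefectOne.orb_subset S (DefectOne.closed_orb S χ) h
  refine Finset.Subset.antisymm h1 (DefectOne.orb_subset S (DefectOne.closed_orb S ψ) ?_)
  by_contra hc
  have h2 := DefectOne.orb_subset S
    (DefectOne.Closed.sdiff S (DefectOne.closed_orb S χ) (DefectOne.closed_orb S ψ))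
    (Finset.mem_sdiff.2 ⟨S.self_mem χ, hc⟩) h
  exact (Finset.mem_sdiff.1 h2).2 (S.self_mem ψ)

/-- Conjugate characters have the same degree and values at the elements of order five and two. -/
theorem orb_same {P : Sylow 11 G} {g : G} {z : IrrCharacter G → ℤ} {C : ℕ} (T : TCol P g z C)
    {k : ℕ} {c : Fin 4 → IrrCharacter G} {φ : IrrCharacter G → ℤ} (F : FCol g z C k c φ) {χ0 χ : IrrCharacter G}
    (hχ : χ ∈ (sfive T.order).orb χ0) :
    charDegree (χ : G → ℂ) = charDegree (χ0 : G → ℂ) ∧ φ χ = φ χ0 ∧ z χ = z χ0 := by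
  obtain ⟨u, -, hu⟩ := (sfive T.order).mem_orb.1 hχ
  have h1 : (χ : G → ℂ) 1 = (χ0 : G → ℂ) 1 := (sfive T.order).deg_orb hχ
  simp only [val_one, Int.cast_natCast, Nat.cast_inj] at h1
  haveI := (sfive T.order).neZero
  have h2 : ¬ 5 ∣ (u : ZMod (5 ^ (sfive T.order).a * (sfive T.order).m)).val := fun h => by
    have h3 : (u : ZMod (5 ^ (sfive T.order).a * (sfive T.order).m)).val.Coprime
        (5 ^ (sfive T.order).a * (sfive T.order).m) := ZMod.val_coe_unit_coprime u
    have h4 := Nat.Coprime.coprime_dvd_left h h3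
    norm_num [sfive] at h4
  have h5 : (χ : G → ℂ) (g ^ 2) = (χ0 : G → ℂ) (g ^ 2) := by
    rw [hu, gal, ← pow_mul, F.val_pow χ0 _ h2, F.val]
  rw [F.val, F.val, Int.cast_inj] at h5
  obtain ⟨u', hu'⟩ := (DefectOne.mem_orb_iff (sfive T.order)).1 hχ
  have h6 : (χ : G → ℂ) (g ^ 5) = (χ0 : G → ℂ) (g ^ 5) := by
    rw [hu']
    exact DefectOne.act_regular (sfive T.order) u' χ0 (by rw [orderOf_pow, T.ord]; norm_num)
  rw [T.val, T.val, Int.cast_inj] at h6
  exact ⟨h1, h5, h6⟩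

/-- The values at the elements of order five and two, with the number of conjugates. -/
theorem orb_value {P : Sylow 11 G} {g : G} {z : IrrCharacter G → ℤ} {C : ℕ} (T : TCol P g z C)
    {Q : Sylow 5 G} {k : ℕ} {M : Ideal AlgInt} {c : Fin 4 → IrrCharacter G} {r : List ℤ}
    (D : FiveData g Q k M c r) {φ : IrrCharacter G → ℤ} (F : FCol g z C k c φ) (χ0 : IrrCharacter G)
    (h0 : ¬ 5 ∣ charDegree (χ0 : G → ℂ)) :
    ∃ (m : ℕ) (a w : ℤ), ((sfive T.order).orb χ0).card ∣ 4 ∧ m ∣ 4 * k ∧ a * a ≤ 5 ∧ |w| ≤ (m : ℤ) ∧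
      (2 : ℤ) ∣ w - m ∧ (((sfive T.order).orb χ0).card : ℤ) * φ χ0 = a * m ∧
      (5 : ℤ) ∣ (((sfive T.order).orb χ0).card : ℤ) * z χ0 - a * w := by
  have hM := D.modular
  have hMp := pmod_prime hM
  have hG := T.order
  have hsq : ¬ 5 ^ 2 ∣ Nat.card G := by rw [hG]; norm_num
  have hfac : (Nat.card G).factorization 5 = 1 := by
    have hp : Nat.Prime 5 := by norm_num
    refine le_antisymm (not_lt.mp fun h => hsq ((hp.pow_dvd_iff_le_factorization Nat.card_pos.ne').mpr h)) ?_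
    exact (hp.dvd_iff_one_le_factorization Nat.card_pos.ne').mp (by rw [hG]; norm_num)
  set B := blockOf M (χ0 : G → ℂ) with hBdef
  have hB : IsPBlock M B := isPBlock_blockOf M χ0
  have h0B : χ0 ∈ B := self_mem_blockOf hMp χ0
  have hdef1 : blockDefect 5 B = 1 := by
    have h1 := dmin_add_defect (p := 5) (block_nonempty hMp hB)
    have h2 := dexp_eq_height_add (p := 5) h0B
    have h0' : ¬ 5 ∣ deg (χ0 : G → ℂ) := by rwa [← charDegree_eq_deg]
    have h3 : dexp 5 (χ0 : G → ℂ) = 0 := Nat.factorization_eq_zero_of_not_dvd h0'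
    omega
  obtain ⟨D0, hD0⟩ := exists_isDefectGroup hM hB
  have hcard0 : Nat.card D0 = 5 := by rw [card_defectGroup hM hB hD0, hdef1, pow_one]
  obtain ⟨Q', hQ'⟩ := (IsPGroup.of_card (p := 5) (n := 1)
    (by rw [hcard0, pow_one] : Nat.card D0 = 5 ^ 1)).exists_le_sylow
  have hQ'eq : D0 = (Q' : Subgroup G) := Subgroup.eq_of_le_of_card_ge hQ' (by
    rw [Sylow.card_eq_multiplicity, hfac, hcard0, pow_one])
  obtain ⟨x, hx⟩ := MulAction.exists_smul_eq G Q' Q
  have hQD : IsDefectGroup 5 M B (Q : Subgroup G) := by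
    have h := isDefectGroup_conj hM hD0 x
    rw [hQ'eq] at h
    rw [← hx]
    exact h
  have hcard : Nat.card (Q : Subgroup G) = 5 := D.card
  obtain ⟨b, hb⟩ := exists_pair_of_le_defect hM hB hQD le_rfl
  have hmax := maximal_of_defect hM hQD hb
  haveI := Fintype.ofFinite (Subgroup.centralizer ((Q : Subgroup G) : Set G))
  obtain ⟨θ, hθ, hθP⟩ := DefectOne.exists_trivial hM hmax hcard hsq
  let S : PConj.Setup G 5 := sfive T.order
  obtain ⟨N, Y, δ, hN, hem, hYB, hYc, -, horb, horb', -⟩ :=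
    DefectOne.galois_main_values S hM hmax hcard hsq hθ hθP rfl
  generalize he : (Subgroup.centralizer ((Q : Subgroup G) : Set G)).relIndex
    (pairStab (pmod_prime hM) hmax.1.1.2) = e at hem
  -- the closed set
  set O := S.orb χ0 with hO
  obtain ⟨hOB, hOc, hen⟩ : (∀ χ ∈ O, χ ∈ B) ∧ O.card ∣ 4 ∧ e * O.card ≤ 4 := by
    by_cases h : χ0 ∈ Y
    · rw [hO, horb χ0 h]
      exact ⟨hYB, hYc ▸ ⟨e, by rw [mul_comm]; exact hem.symm⟩, by rw [hYc]; exact hem.le⟩
    · rw [hO, horb' χ0 h0B h]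
      refine ⟨fun χ hχ => (Finset.mem_singleton.1 hχ) ▸ h0B, by simp, ?_⟩
      rw [Finset.card_singleton, mul_one]
      exact Nat.le_of_dvd (by norm_num) ⟨N, hem.symm⟩
  have hsame : ∀ χ ∈ O, charDegree (χ : G → ℂ) = charDegree (χ0 : G → ℂ) ∧ φ χ = φ χ0 ∧ z χ = z χ0 :=
    fun χ hχ => orb_same T F hχ
  obtain ⟨a, W, hab, hW, hWN, hval⟩ := DefectOne.section_values hM hmax hcard hsq hθ S hθP he
    (DefectOne.closed_orb S χ0) hOB
  rw [D.index] at hW
  -- the element and its involution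
  obtain ⟨q, hq⟩ := D.fused
  have hg2 : orderOf (g ^ 2) = 5 := by rw [orderOf_pow, T.ord]; rfl
  have hq1 : q * g ^ 2 * q⁻¹ ≠ 1 := fun e => by
    rw [conj_eq_one_iff] at e; rw [e, orderOf_one] at hg2; norm_num at hg2
  set v : (Q : Subgroup G) := ⟨q * g ^ 2 * q⁻¹, hq⟩ with hv
  have hv1 : v ≠ 1 := fun e => hq1 (congrArg Subtype.val e)
  set s := q * g ^ 5 * q⁻¹ with hs
  have hsC : s ∈ Subgroup.centralizer ((Q : Subgroup G) : Set G) := by
    rw [← Sections.cent_eq D.card hq hq1, Subgroup.mem_centralizer_singleton_iff, hs, conj_mul, conj_mul,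
      ← pow_add, ← pow_add]
  have hs5 : ¬ 5 ∣ orderOf s := by
    rw [show s = MulAut.conj q (g ^ 5) by simp [hs], MulEquiv.orderOf_eq, orderOf_pow, T.ord]; norm_num
  have hcl : ∀ (χ : IrrCharacter G) (y : G), (χ : G → ℂ) (q * y * q⁻¹) = (χ : G → ℂ) y := fun χ y =>
    isClassFunction_character (irr_isCharacter χ.2) y q
  have hone := hval v hv1 1 (one_mem _) (by simp)
  set t1 : ℕ := deg (θ : Subgroup.centralizer ((Q : Subgroup G) : Set G) → ℂ) with ht1
  rw [Finset.sum_congr rfl (s₁ := O) (g := fun _ => (φ χ0 : ℂ)) fun χ hχ => by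
      rw [mul_one, show ((v : (Q : Subgroup G)) : G) = q * g ^ 2 * q⁻¹ from rfl, hcl, F.val, (hsame χ hχ).2.1],
    Finset.sum_const, nsmul_eq_mul, Finset.sum_congr rfl (s₁ := W) (g := fun _ => (t1 : ℂ)) fun w _ => by
      rw [dif_pos (by rw [mul_one, inv_mul_cancel]; exact one_mem _)]
      simp only [mul_one, inv_mul_cancel]
      exact char_one_eq_deg (irr_isCharacter θ.2), Finset.sum_const, nsmul_eq_mul] at hone
  have hφ : (O.card : ℤ) * φ χ0 = a * ((W.card * t1 : ℕ) : ℤ) := by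
    have : (((O.card : ℤ) * φ χ0 : ℤ) : ℂ) = ((a * ((W.card * t1 : ℕ) : ℤ) : ℤ) : ℂ) := by
      push_cast; exact hone
    exact_mod_cast this
  -- the values at the product
  have hfun : ∀ w : G, ∃ tt : ℤ, (if h : w⁻¹ * s * w ∈ Subgroup.centralizer ((Q : Subgroup G) : Set G) then
      (θ : Subgroup.centralizer ((Q : Subgroup G) : Set G) → ℂ) ⟨w⁻¹ * s * w, h⟩ else 0) = (tt : ℂ) ∧
      (w⁻¹ * s * w ∈ Subgroup.centralizer ((Q : Subgroup G) : Set G) →
        (2 : ℤ) ∣ tt - (t1 : ℤ) ∧ |tt| ≤ (t1 : ℤ)) := by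
    intro w
    by_cases h : w⁻¹ * s * w ∈ Subgroup.centralizer ((Q : Subgroup G) : Set G)
    · have hss : s * s = 1 := by
        rw [hs, conj_mul, ← pow_add, show 5 + 5 = orderOf g by rw [T.ord], pow_orderOf_eq_one]; group
      obtain ⟨tt, h1, h2, h3⟩ := invol_value θ (v := ⟨w⁻¹ * s * w, h⟩) (Subtype.ext (by
        show w⁻¹ * s * w * (w⁻¹ * s * w) = 1
        calc w⁻¹ * s * w * (w⁻¹ * s * w) = w⁻¹ * (s * s) * w := by group
          _ = 1 := by rw [hss]; group))
      exact ⟨tt, by rw [dif_pos h]; exact h1, fun _ => ⟨h2, h3⟩⟩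
    · exact ⟨0, by rw [dif_neg h]; simp, fun h' => absurd h' h⟩
  choose tt htt htt2 using hfun
  have hsum := hval v hv1 s hsC hs5
  rw [Finset.sum_congr rfl (s₁ := W) fun w _ => htt w, ← Int.cast_sum, ← Int.cast_mul] at hsum
  have hWC : ∀ w ∈ W, (2 : ℤ) ∣ tt w - (t1 : ℤ) ∧ |tt w| ≤ (t1 : ℤ) := fun w hw => by
    by_cases h : w⁻¹ * s * w ∈ Subgroup.centralizer ((Q : Subgroup G) : Set G)
    · exact htt2 w h
    · exfalso
      exact h (hWN w hw s hsC)
  have hz : (5 : ℤ) ∣ (O.card : ℤ) * z χ0 - a * ∑ w ∈ W, tt w := by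
    rw [show ((5 : ℤ)) = ((5 : ℕ) : ℤ) from rfl, ← memLI_intCast_iff hM, Int.cast_sub, ← hsum]
    rw [Finset.sum_congr rfl (s₁ := O) (g := fun χ => (χ : G → ℂ) (g ^ 2 * g ^ 5)) fun χ _ => by
      rw [show ((v : (Q : Subgroup G)) : G) = q * g ^ 2 * q⁻¹ from rfl, hs, conj_mul, hcl]]
    have hpre : preg 5 (g ^ 2 * g ^ 5) = g ^ 5 :=
      preg_of_mul (by norm_num) ((Commute.refl g).pow_pow 2 5) ⟨1, by rw [hg2, pow_one]⟩
        (by rw [orderOf_pow, T.ord]; norm_num)
    have h := memLI_sum hMp O _ fun χ hχ => memLI_symm hMp (char_congr_preg hM (irr_isCharacter χ.2) (g ^ 2 * g ^ 5))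
    rw [hpre, Finset.sum_sub_distrib, Finset.sum_congr rfl (g := fun _ => (z χ0 : ℂ)) fun χ hχ => by
      rw [T.val, (hsame χ hχ).2.2], Finset.sum_const, nsmul_eq_mul] at h
    push_cast
    exact h
  refine ⟨W.card * t1, a, ∑ w ∈ W, tt w, hOc, ?_, ?_, ?_, ?_, hφ, hz⟩
  · refine Nat.mul_dvd_mul ⟨e, hW.symm⟩ ?_
    have hd : t1 ∣ 5 * k := by
      rw [← D.cent]; exact deg_dvd_card θ.2
    refine (Nat.Coprime.dvd_mul_left ?_).1 hd
    refine Nat.Coprime.symm ((Nat.Prime.coprime_iff_not_dvd (by norm_num)).2 fun h5 => h0 ?_)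
    have h1 : (5 : ℤ) ∣ (O.card : ℤ) * φ χ0 := by
      rw [hφ]; push_cast; exact dvd_mul_of_dvd_right (dvd_mul_of_dvd_right (by exact_mod_cast h5) _) _
    have h2 : ¬ (5 : ℤ) ∣ (O.card : ℤ) := fun h => by
      have hle : O.card ≤ 4 := Nat.le_of_dvd (by norm_num) hOc
      have h' : 5 ∣ O.card := by exact_mod_cast h
      have hge : 5 ≤ O.card := Nat.le_of_dvd (Finset.card_pos.2 ⟨χ0, S.self_mem χ0⟩) h'
      omega
    have h3 := ((Nat.prime_iff_prime_int.1 (by norm_num : Nat.Prime 5)).dvd_or_dvd h1).resolve_left h2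
    have h4 := dvd_add (F.congr χ0) h3
    rw [sub_add_cancel] at h4
    exact_mod_cast h4
  · have h1 : (e : ℤ) * O.card ≤ 4 := by exact_mod_cast hen
    push_cast at hab
    nlinarith
  · refine (Finset.abs_sum_le_sum_abs _ _).trans ((Finset.sum_le_sum fun w hw => (hWC w hw).2).trans ?_)
    rw [Finset.sum_const, nsmul_eq_mul, Nat.cast_mul]
  · have h1 := Finset.dvd_sum fun w hw => (hWC w hw).1
    rw [Finset.sum_sub_distrib, Finset.sum_const, nsmul_eq_mul] at h1
    rw [Nat.cast_mul]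
    exact h1

/-- The block of five of a character of degree prime to five, with its classes of conjugates. -/
theorem five_full {P : Sylow 11 G} {g : G} {z : IrrCharacter G → ℤ} {C : ℕ} (T : TCol P g z C)
    {Q : Sylow 5 G} {k : ℕ} {M : Ideal AlgInt} {c : Fin 4 → IrrCharacter G} {r : List ℤ}
    (D : FiveData g Q k M c r) {φ : IrrCharacter G → ℤ} (F : FCol g z C k c φ)
    {t : IrrCharacter G → FiveSide.Pr} (ht : ∀ χ, t χ = (charDegree (χ : G → ℂ), φ χ)) (χ0 : IrrCharacter G)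
    (h0 : ¬ 5 ∣ charDegree (χ0 : G → ℂ)) :
    ∃ (e N : ℕ) (X Y : Finset (IrrCharacter G)) (y : IrrCharacter G) (σ : IrrCharacter G → ℤ) (v : ℤ),
      (e * N = 4 ∧ X.card = e ∧ Y.card = N ∧ Disjoint X Y ∧ χ0 ∈ X ∪ Y ∧ y ∈ Y ∧
      (∀ χ ∈ X ∪ Y, ¬ 5 ∣ charDegree (χ : G → ℂ) ∧ χ ∈ blockOf M (χ0 : G → ℂ)) ∧
      (∀ y' ∈ Y, t y' = t y ∧ z y' = z y) ∧ (∀ χ ∈ X, (φ χ).natAbs = N * (φ y).natAbs) ∧
      ∑ χ ∈ X, xv (t χ) + xv (t y) = 0 ∧ ∑ χ ∈ X, av (t χ) + av (t y) = 0) ∧
      (∀ χ ∈ X, (sfive T.order).orb χ = {χ}) ∧ (∀ y' ∈ Y, (sfive T.order).orb y' = Y) ∧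
      (∀ χ, σ χ = 1 ∨ σ χ = -1) ∧ (χ0 ∈ X → σ χ0 = 1) ∧ (χ0 ∈ Y → σ y = 1) ∧ v ≠ 0 ∧
      (∀ χ ∈ X, σ χ * φ χ = v) ∧ (N : ℤ) * φ y = v * σ y ∧
      ∀ x : G, ¬ 5 ∣ orderOf x → ∑ χ ∈ X, (σ χ : ℂ) * (χ : G → ℂ) x + (σ y : ℂ) * (y : G → ℂ) x = 0 := by
  have hM := D.modular
  have hMp := pmod_prime hM
  have hG := T.order
  have hsq : ¬ 5 ^ 2 ∣ Nat.card G := by rw [hG]; norm_num
  have hfac : (Nat.card G).factorization 5 = 1 := by
    have hp : Nat.Prime 5 := by norm_num
    refine le_antisymm (not_lt.mp fun h => hsq ((hp.pow_dvd_iff_le_factorization Nat.card_pos.ne').mpr h)) ?_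
    exact (hp.dvd_iff_one_le_factorization Nat.card_pos.ne').mp (by rw [hG]; norm_num)
  have h0' : ¬ 5 ∣ deg (χ0 : G → ℂ) := by rwa [← charDegree_eq_deg]
  set B := blockOf M (χ0 : G → ℂ) with hBdef
  have hB : IsPBlock M B := isPBlock_blockOf M χ0
  have h0B : χ0 ∈ B := self_mem_blockOf hMp χ0
  have hdef1 : blockDefect 5 B = 1 := by
    have h1 := dmin_add_defect (p := 5) (block_nonempty hMp hB)
    have h2 := dexp_eq_height_add (p := 5) h0B
    have h3 : dexp 5 (χ0 : G → ℂ) = 0 := Nat.factorization_eq_zero_of_not_dvd h0'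
    omega
  obtain ⟨D0, hD0⟩ := exists_isDefectGroup hM hB
  have hcard : Nat.card D0 = 5 := by rw [card_defectGroup hM hB hD0, hdef1, pow_one]
  obtain ⟨b, hb⟩ := exists_pair_of_le_defect hM hB hD0 le_rfl
  have hmax := maximal_of_defect hM hD0 hb
  haveI := Fintype.ofFinite (Subgroup.centralizer (D0 : Set G))
  obtain ⟨θ, hθ, hθP⟩ := DefectOne.exists_trivial hM hmax hcard hsq
  let S : PConj.Setup G 5 := sfive T.order
  obtain ⟨N, Y, δ, hN, hem, hYB, hYc, hBc, horb, horb', hδ, hsing, hrel⟩ :=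
    DefectOne.galois_main_values S hM hmax hcard hsq hθ hθP rfl
  generalize he : (Subgroup.centralizer (D0 : Set G)).relIndex (pairStab (pmod_prime hM) hmax.1.1.2) = e
    at hem hBc
  set X := Finset.univ.filter fun χ => χ ∈ B ∧ χ ∉ Y with hX
  have hmX : ∀ χ, χ ∈ X ↔ χ ∈ B ∧ χ ∉ Y := fun χ => by simp [hX]
  have hdisj : Disjoint X Y := Finset.disjoint_left.2 fun χ h h' => ((hmX χ).1 h).2 h'
  have hunion : ∀ χ, χ ∈ X ∪ Y ↔ χ ∈ B := fun χ => by
    rw [Finset.mem_union, hmX]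
    exact ⟨fun h => h.elim (·.1) (hYB χ), fun h => if h' : χ ∈ Y then Or.inr h' else Or.inl ⟨h, h'⟩⟩
  have hXc : X.card = e := by
    have h1 : (X ∪ Y).card = Nat.card B := by
      rw [← Finset.card_map ⟨id, Function.injective_id⟩, Nat.card_eq_fintype_card]
      rw [Finset.card_map]
      exact (Fintype.card_of_subtype _ hunion).symm
    rw [Finset.card_union_of_disjoint hdisj, hYc, hBc] at h1
    omega
  obtain ⟨y, hy⟩ : Y.Nonempty := Finset.card_pos.1 (by omega)
  obtain ⟨χ1, hχ1⟩ : X.Nonempty := Finset.card_pos.1 (by rw [hXc]; exact Nat.pos_of_ne_zero fun h => by simp [h] at hem)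
  -- the values on the class
  have hgal' : ∀ y' ∈ Y, t y' = t y ∧ z y' = z y := by
    intro y' hy'
    obtain ⟨h1, h2, h3⟩ := orb_same T F (show y' ∈ (sfive T.order).orb y by
      show y' ∈ S.orb y
      rw [horb y hy]; exact hy')
    exact ⟨by rw [ht, ht, h1, h2], h3⟩
  have hgal : ∀ y' ∈ Y, t y' = t y := fun y' hy' => (hgal' y' hy').1
  have hg2 : 5 ∣ orderOf (g ^ 2) := by rw [orderOf_pow, T.ord]; norm_num
  set v : ℤ := δ χ1 * φ χ1 with hv
  have hXv : ∀ χ ∈ X, δ χ * φ χ = v := fun χ hχ => by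
    obtain ⟨hχB, hχY⟩ := (hmX χ).1 hχ
    obtain ⟨h1B, h1Y⟩ := (hmX χ1).1 hχ1
    have h := hsing χ hχB hχY χ1 h1B h1Y (g ^ 2) hg2
    simp only [F.val] at h
    exact_mod_cast h
  have hfil : (Finset.univ.filter fun χ : IrrCharacter G => χ ∈ B ∧ χ ∉ Y) = X := rfl
  have hone : ∑ χ ∈ X, δ χ * (charDegree (χ : G → ℂ) : ℤ) + δ y * (charDegree (y : G → ℂ) : ℤ) = 0 := by
    have h := hrel 1 (by simp) y hy
    simp only [hfil, val_one] at h
    exact_mod_cast h
  obtain ⟨w, hw⟩ := Ten.exists_y P T.card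
  have hw1 : (w : G) ≠ 1 := mem_nonOne.1 hw
  have helv : ∑ χ ∈ X, δ χ * w11 (charDegree (χ : G → ℂ)) + δ y * w11 (charDegree (y : G → ℂ)) = 0 := by
    have h := hrel (w : G) (by rw [Sections.order_eq T.card w.2 hw1]; norm_num) y hy
    simp only [hfil, T.val_eleven _ _ w.2 hw1] at h
    exact_mod_cast h
  have hdy : (charDegree (y : G → ℂ) : ℤ) ≠ 0 := by exact_mod_cast (deg_pos' y).ne'
  have hweak : ∑ χ ∈ X, (charDegree (χ : G → ℂ) : ℤ) * φ χ +
      (N : ℤ) * ((charDegree (y : G → ℂ) : ℤ) * φ y) = 0 := by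
    have h := weak_orthogonality hM hB (x := (1 : G)) (y := g ^ 2) (by simp) hg2
    rw [finsum_mem_irr, show (Finset.univ.filter fun χ => χ ∈ B) = X ∪ Y by ext χ; simp [hunion χ],
      Finset.sum_union hdisj] at h
    simp only [val_one, F.val, map_intCast] at h
    rw [Finset.sum_congr rfl (s₁ := Y)
      (g := fun _ => ((charDegree (y : G → ℂ) : ℤ) : ℂ) * (φ y : ℂ)) fun y' hy' => by
        have h' := hgal y' hy'
        rw [ht, ht, Prod.mk.injEq] at h'
        rw [h'.1, h'.2], Finset.sum_const, hYc, nsmul_eq_mul] at h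
    exact_mod_cast h
  have hδsq : ∀ χ, δ χ * δ χ = 1 := fun χ => by rcases hδ χ with e' | e' <;> simp [e']
  have hNy : (N : ℤ) * φ y = v * δ y := by
    have h1 : ∑ χ ∈ X, (charDegree (χ : G → ℂ) : ℤ) * φ χ = v * ∑ χ ∈ X, δ χ * (charDegree (χ : G → ℂ) : ℤ) := by
      rw [Finset.mul_sum]
      refine Finset.sum_congr rfl fun χ hχ => ?_
      rw [← hXv χ hχ]
      linear_combination -((charDegree (χ : G → ℂ) : ℤ) * φ χ) * hδsq χ
    rw [h1, eq_neg_of_add_eq_zero_left hone] at hweak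
    refine sub_eq_zero.1 ((mul_eq_zero.1 (show (charDegree (y : G → ℂ) : ℤ) * ((N : ℤ) * φ y - v * δ y) = 0 by
      linear_combination hweak)).resolve_left hdy)
  have hφ0 : φ χ0 ≠ 0 := fun h => by
    have h1 := F.congr χ0
    rw [h, sub_zero] at h1
    exact h0 (by exact_mod_cast h1)
  have hv0 : v ≠ 0 := by
    intro h
    rcases Finset.mem_union.1 ((hunion χ0).2 h0B) with hm | hm
    · have := hXv χ0 hm
      rw [h, mul_eq_zero] at this
      rcases this with e' | e'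
      · rcases hδ χ0 with h' | h' <;> omega
      · exact hφ0 e'
    · have h' := hgal χ0 hm
      rw [ht, ht, Prod.mk.injEq] at h'
      rw [h, zero_mul, ← h'.2] at hNy
      exact hφ0 ((mul_eq_zero.1 hNy).resolve_left (by omega))
  set s : ℤ := if v < 0 then -1 else 1 with hs
  have hXs : ∀ χ ∈ X, φ χ ≠ 0 ∧ (φ χ).natAbs = v.natAbs ∧ xv (t χ) = s * (δ χ * (charDegree (χ : G → ℂ) : ℤ)) ∧
      av (t χ) = s * (δ χ * w11 (charDegree (χ : G → ℂ))) := by
    intro χ hχ
    have h1 := hXv χ hχ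
    simp only [xv, av, ht, w11_eq, hs]
    rcases hδ χ with e' | e' <;> rw [e'] at h1 ⊢ <;> refine ⟨by omega, by omega, ?_, ?_⟩ <;> split_ifs <;> omega
  have hyy : φ y ≠ 0 := fun h => by
    rw [h, mul_zero] at hNy
    rcases hδ y with e' | e' <;> rw [e'] at hNy <;> omega
  have hys : v.natAbs = N * (φ y).natAbs ∧ xv (t y) = s * (δ y * (charDegree (y : G → ℂ) : ℤ)) ∧
      av (t y) = s * (δ y * w11 (charDegree (y : G → ℂ))) := by
    have habs : ((N : ℤ) * φ y).natAbs = N * (φ y).natAbs := by rw [Int.natAbs_mul, Int.natAbs_natCast]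
    have hpos : 0 < φ y → 0 < (N : ℤ) * φ y := fun h => mul_pos (by omega) h
    have hneg : φ y < 0 → (N : ℤ) * φ y < 0 := fun h => mul_neg_of_pos_of_neg (by omega) h
    rw [hNy] at habs hpos hneg
    simp only [xv, av, ht, w11_eq, hs]
    rcases hδ y with e' | e' <;> rw [e'] at habs hpos hneg ⊢ <;> refine ⟨by omega, ?_, ?_⟩ <;> split_ifs <;> omega
  set τ : ℤ := if χ0 ∈ X then δ χ0 else δ y with hτ
  have hτ1 : τ * τ = 1 := by rw [hτ]; split_ifs <;> exact hδsq _
  refine ⟨e, N, X, Y, y, fun χ => τ * δ χ, τ * v,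
    ⟨hem, hXc, hYc, hdisj, (hunion χ0).2 h0B, hy, fun χ hχ => ⟨fun h5 => ?_, (hunion χ).1 hχ⟩, hgal',
      fun χ hχ => by rw [(hXs χ hχ).2.1, hys.1], ?_, ?_⟩,
    fun χ hχ => horb' χ ((hmX χ).1 hχ).1 ((hmX χ).1 hχ).2, horb, fun χ => ?_,
    fun h => by show τ * δ χ0 = 1; rw [hτ, if_pos h]; exact hδsq _,
    fun h => by
      show τ * δ y = 1
      rw [hτ, if_neg (Finset.disjoint_right.1 hdisj h)]; exact hδsq _,
    mul_ne_zero (fun h => by rw [h, zero_mul] at hτ1; exact zero_ne_one hτ1) hv0,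
    fun χ hχ => by rw [mul_assoc, hXv χ hχ], ?_, fun x hx => ?_⟩
  · have hz := F.zero χ h5
    rcases Finset.mem_union.1 hχ with hm | hm
    · exact (hXs χ hm).1 hz
    · have h' := hgal χ hm
      rw [ht, ht, Prod.mk.injEq] at h'
      exact hyy (h'.2 ▸ hz)
  · rw [Finset.sum_congr rfl fun χ hχ => (hXs χ hχ).2.2.1, hys.2.1, ← Finset.mul_sum, ← mul_add, hone, mul_zero]
  · rw [Finset.sum_congr rfl fun χ hχ => (hXs χ hχ).2.2.2, hys.2.2, ← Finset.mul_sum, ← mul_add, helv, mul_zero]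
  · rcases hδ χ with e' | e' <;> rcases mul_self_eq_one_iff.1 hτ1 with e'' | e'' <;> simp [e', e'']
  · linear_combination hNy - v * δ y * hτ1
  · have h := hrel x hx y hy
    rw [show (∑ χ ∈ X, ((τ * δ χ : ℤ) : ℂ) * (χ : G → ℂ) x) = (τ : ℂ) * ∑ χ ∈ X, (δ χ : ℂ) * (χ : G → ℂ) x by
      rw [Finset.mul_sum]; exact Finset.sum_congr rfl fun χ _ => by push_cast; ring]
    push_cast
    linear_combination (τ : ℂ) * h

/-- At an element of order twenty-three a value and its conjugate add up to the weight read from the degree. -/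
theorem val_twentythree (hG : Nat.card G = 244823040) :
    ∃ w : G, orderOf w = 23 ∧ ∀ χ : IrrCharacter G,
      (χ : G → ℂ) w + (χ : G → ℂ) w⁻¹ = (w23 (charDegree (χ : G → ℂ)) : ℂ) := by
  obtain ⟨R, hR, hRC, heR⟩ := exists_twentythree hG
  obtain ⟨M, X, Y, α, δ, hM, h, -, -, hYc, hout⟩ :=
    selfcent_data R hR hRC heR (t := 2) (by norm_num) (by norm_num) (by norm_num)
  obtain ⟨w, hw⟩ := Ten.exists_y R hR
  have hw1 : (w : G) ≠ 1 := mem_nonOne.1 hw
  have hw23 : orderOf (w : G) = 23 := Sections.order_eq hR w.2 hw1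
  refine ⟨w, hw23, fun χ => ?_⟩
  have hinv : ∀ θ : IrrCharacter G, (θ : G → ℂ) (w : G)⁻¹ = conj ((θ : G → ℂ) (w : G)) := fun θ =>
    char_inv (irr_isCharacter θ.2) _
  rw [hinv]
  by_cases hX : χ ∈ X
  · have h2 := (h.a_congr χ hX).eq
    have hwX : w23 (charDegree (χ : G → ℂ)) = 2 * α χ := by
      rcases h.a_sign χ hX with e' | e' <;> rw [e'] at h2 ⊢ <;> simp only [w23] <;> split_ifs <;> omega
    rw [h.a_val χ hX w hw, map_intCast, hwX]
    push_cast
    ring
  by_cases hY : χ ∈ Y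
  · obtain ⟨θ, hθ, hθχ⟩ : ∃ θ ∈ Y, θ ≠ χ := Finset.exists_mem_ne (by omega) χ
    have hwY : w23 (charDegree (χ : G → ℂ)) = -δ := by
      have h2 := (h.congrY χ hY).eq
      rcases h.sign with e' | e' <;> rw [e'] at h2 ⊢ <;> simp only [w23] <;> split_ifs <;> omega
    have hY2 : Y = {χ, θ} := (Finset.eq_of_subset_of_card_le (by simp [Finset.subset_iff, hY, hθ])
      (by rw [hYc, Finset.card_pair hθχ.symm])).symm
    have hsum := Solv.BReyn.sum_exc hM hR h ⟨χ, hY⟩ hw
    rw [hY2, Finset.sum_pair hθχ.symm] at hsum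
    have hnc : ¬ IsConj (w : G) (w : G)⁻¹ := fun hc => by
      obtain ⟨x, hx⟩ := isConj_iff.1 hc
      have hzp : Subgroup.zpowers (w : G) = (R : Subgroup G) :=
        Subgroup.eq_of_le_of_card_ge (Subgroup.zpowers_le.2 w.2) (by rw [Nat.card_zpowers, hw23, hR])
      have hmap : (R : Subgroup G).map (MulAut.conj x).toMonoidHom = (R : Subgroup G) := by
        rw [← hzp, MonoidHom.map_zpowers]
        show Subgroup.zpowers (x * (w : G) * x⁻¹) = _
        rw [hx, Subgroup.zpowers_inv]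
      have hxN : x ∈ Subgroup.normalizer ((R : Subgroup G) : Set G) := by
        rw [Subgroup.mem_normalizer_iff]
        intro y
        constructor
        · exact fun hy => hmap ▸ Subgroup.mem_map_of_mem (MulAut.conj x).toMonoidHom hy
        · intro hy
          rw [← hmap] at hy
          obtain ⟨y', hy', he⟩ := hy
          rwa [show y = y' from (MulAut.conj x).injective he.symm]
      have h11 : x ^ 11 ∈ Subgroup.centralizer ((R : Subgroup G) : Set G) := by
        have h1 := Subgroup.pow_index_mem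
          ((Subgroup.centralizer ((R : Subgroup G) : Set G)).subgroupOf (Subgroup.normalizer ((R : Subgroup G) : Set G)))
          ⟨x, hxN⟩
        rw [← Subgroup.relIndex, heR] at h1
        exact h1
      have hxx : x * x * (w : G) * (x * x)⁻¹ = (w : G) := by
        calc x * x * (w : G) * (x * x)⁻¹ = x * (x * (w : G) * x⁻¹) * x⁻¹ := by group
          _ = x * (w : G)⁻¹ * x⁻¹ := by rw [hx]
          _ = (x * (w : G) * x⁻¹)⁻¹ := by group
          _ = (w : G) := by rw [hx, inv_inv]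
      have hc1 : Commute (x * x) (w : G) := mul_inv_eq_iff_eq_mul.1 hxx
      have hc2 : Commute (x ^ 11) (w : G) := ((Subgroup.mem_centralizer_iff.1 h11) _ w.2).symm
      have hxw : Commute x (w : G) := by
        have e : x = x ^ 11 * ((x * x) ^ 5)⁻¹ := by rw [← pow_two, ← pow_mul]; group
        rw [e]
        exact hc2.mul_left (hc1.pow_left 5).inv_left
      rw [hxw.eq, mul_inv_cancel_right] at hx
      have : orderOf (w : G) ∣ 2 := orderOf_dvd_of_pow_eq_one (by
        rw [pow_two]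
        nth_rw 2 [hx]
        rw [mul_inv_cancel])
      rw [hw23] at this
      norm_num at this
    have horth := second_orth (G := G) (w : G) (w : G)⁻¹
    rw [if_neg hnc] at horth
    have horth' := second_orth (G := G) (w : G) (w : G)
    simp only [hinv, Complex.conj_conj] at horth
    have hzero : ∀ θ' : IrrCharacter G, θ' ∉ X ∪ Y → (θ' : G → ℂ) (w : G) = 0 := fun θ' h' => by
      rw [Finset.mem_union, not_or] at h'
      exact (hout θ' h'.1 h'.2).1 w hw
    rw [← Finset.sum_subset (Finset.subset_univ (X ∪ Y)) fun θ' _ h' => by rw [hzero θ' h', zero_mul],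
      Finset.sum_union h.disj, hY2, Finset.sum_pair hθχ.symm,
      Finset.sum_congr rfl (g := fun _ => (1 : ℂ)) fun θ' hθ' => by
        rw [h.a_val θ' hθ' w hw]
        rcases h.a_sign θ' hθ' with e' | e' <;> simp [e'],
      Finset.sum_const, h.cardX, nsmul_eq_mul, mul_one] at horth
    rw [hwY]
    generalize (χ : G → ℂ) (w : G) = a at hsum horth ⊢
    generalize (θ : G → ℂ) (w : G) = b at hsum horth ⊢
    have hd : (δ : ℂ) * δ = 1 := by rcases h.sign with e' | e' <;> simp [e']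
    push_cast at horth hsum ⊢
    have hroot : a * a + (δ : ℂ) * a + 6 = 0 := by
      linear_combination (1 / 2 : ℂ) * horth - ((b - (δ : ℂ) - a) / 2) * hsum - (1 / 2 : ℂ) * hd
    have hroot' : conj a * conj a + (δ : ℂ) * conj a + 6 = 0 := by
      have := congrArg conj hroot
      simpa [map_add, map_mul, map_intCast, map_ofNat] using this
    have hne : conj a ≠ a := fun hr => by
      obtain ⟨t, rfl⟩ := Complex.conj_eq_iff_real.1 hr
      have ht : ((t * t + (δ : ℝ) * t + 6 : ℝ) : ℂ) = 0 := by push_cast; exact hroot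
      have ht' : t * t + (δ : ℝ) * t + 6 = 0 := by exact_mod_cast ht
      rcases h.sign with e' | e' <;> rw [e'] at ht' <;> push_cast at ht' <;>
        nlinarith [mul_self_nonneg (t + 1 / 2), mul_self_nonneg (t - 1 / 2)]
    have := mul_eq_zero.1 (show (conj a - a) * (conj a + a + δ) = 0 by linear_combination hroot' - hroot)
    linear_combination this.resolve_left (sub_ne_zero.2 hne)
  · rw [(hout χ hX hY).1 w hw, map_zero, add_zero]
    have := Nat.mod_eq_zero_of_dvd (hout χ hX hY).2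
    rw [show w23 (charDegree (χ : G → ℂ)) = 0 by simp only [w23]; split_ifs <;> omega]
    simp

end Cfsg.Agent.MTwentyFour.ByOrder.RowA
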