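import Cfsg.Agent.Lib.Spor.MTwentyFourOrder.RowA.RunAdef

/-!
Cases for a centraliser of order sixty with the first row, each impossible.
-/

set_option autoImplicit false
set_option Elab.async false
set_option maxRecDepth 100000
set_option maxHeartbeats 4000000

namespace Cfsg.Agent.MTwentyFour.ByOrder.RowA

theorem case87_x18 : xPart case87 ((case87.tab.drop 18).take 1) = true := by
  decide +kernel

theorem case87_x19 : xPart case87 ((case87.tab.drop 19).take 1) = true := by
  decide +kernel

theorem case87_x20 : xPart case87 ((case87.tab.drop 20).take 1) = true := by
  decide +kernel

theorem case87_x21 : xPart case87 ((case87.tab.drop 21).take 1) = true := by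
  decide +kernel

theorem case87_x22 : xPart case87 ((case87.tab.drop 22).take 1) = true := by
  decide +kernel

theorem case87_x23 : xPart case87 ((case87.tab.drop 23).take 1) = true := by
  decide +kernel

theorem case87_x24 : xPart case87 ((case87.tab.drop 24).take 1) = true := by
  decide +kernel

theorem case87_x25 : xPart case87 ((case87.tab.drop 25).take 1) = true := by
  decide +kernel

end Cfsg.Agent.MTwentyFour.ByOrder.RowA
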