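import Cfsg.Agent.Lib.Spor.MTwentyFourOrder.RowA.RunAone
import Cfsg.Agent.Lib.Spor.MTwentyFourOrder.RowA.RunAtwo
import Cfsg.Agent.Lib.Spor.MTwentyFourOrder.RowA.RunAthree

/-!
Cases for a centraliser of order sixty with the first row, each impossible.
-/

set_option autoImplicit false
set_option Elab.async false
set_option maxRecDepth 100000
set_option maxHeartbeats 4000000

namespace Cfsg.Agent.MTwentyFour.ByOrder.RowA

theorem case87_ok : KillOK case87 := by
  refine Or.inr ⟨case87_y, fun yy hy => ?_⟩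
  rw [show case87.tab =
      ((case87.tab.drop 0).take 1) ++
      ((case87.tab.drop 1).take 1) ++
      ((case87.tab.drop 2).take 1) ++
      ((case87.tab.drop 3).take 1) ++
      ((case87.tab.drop 4).take 1) ++
      ((case87.tab.drop 5).take 1) ++
      ((case87.tab.drop 6).take 1) ++
      ((case87.tab.drop 7).take 1) ++
      ((case87.tab.drop 8).take 1) ++
      ((case87.tab.drop 9).take 1) ++
      ((case87.tab.drop 10).take 1) ++
      ((case87.tab.drop 11).take 1) ++
      ((case87.tab.drop 12).take 1) ++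
      ((case87.tab.drop 13).take 1) ++
      ((case87.tab.drop 14).take 1) ++
      ((case87.tab.drop 15).take 1) ++
      ((case87.tab.drop 16).take 1) ++
      ((case87.tab.drop 17).take 1) ++
      ((case87.tab.drop 18).take 1) ++
      ((case87.tab.drop 19).take 1) ++
      ((case87.tab.drop 20).take 1) ++
      ((case87.tab.drop 21).take 1) ++
      ((case87.tab.drop 22).take 1) ++
      ((case87.tab.drop 23).take 1) ++
      ((case87.tab.drop 24).take 1) ++
      ((case87.tab.drop 25).take 1) by decide +kernel] at hy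
  simp only [List.mem_append] at hy
  rcases hy with ((((((((((((((((((((((((hy | hy) | hy) | hy) | hy) | hy) | hy) | hy) | hy) | hy) | hy) | hy) | hy) | hy) | hy) | hy) | hy) | hy) | hy) | hy) | hy) | hy) | hy) | hy) | hy) | hy
  exacts [⟨_, hy, case87_x0⟩,
    ⟨_, hy, case87_x1⟩,
    ⟨_, hy, case87_x2⟩,
    ⟨_, hy, case87_x3⟩,
    ⟨_, hy, case87_x4⟩,
    ⟨_, hy, case87_x5⟩,
    ⟨_, hy, case87_x6⟩,
    ⟨_, hy, case87_x7⟩,
    ⟨_, hy, case87_x8⟩,
    ⟨_, hy, case87_x9⟩,
    ⟨_, hy, case87_x10⟩,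
    ⟨_, hy, case87_x11⟩,
    ⟨_, hy, case87_x12⟩,
    ⟨_, hy, case87_x13⟩,
    ⟨_, hy, case87_x14⟩,
    ⟨_, hy, case87_x15⟩,
    ⟨_, hy, case87_x16⟩,
    ⟨_, hy, case87_x17⟩,
    ⟨_, hy, case87_x18⟩,
    ⟨_, hy, case87_x19⟩,
    ⟨_, hy, case87_x20⟩,
    ⟨_, hy, case87_x21⟩,
    ⟨_, hy, case87_x22⟩,
    ⟨_, hy, case87_x23⟩,
    ⟨_, hy, case87_x24⟩,
    ⟨_, hy, case87_x25⟩]

/-- the cases of this file -/
def casesA : List Case :=
  [case87]

/-- they are impossible -/
theorem runA : ∀ c ∈ casesA, KillOK c := by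
  intro c hc
  simp only [casesA, List.mem_cons, List.not_mem_nil, or_false] at hc
  rcases hc with rfl
  exacts [case87_ok]

end Cfsg.Agent.MTwentyFour.ByOrder.RowA
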