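import Cfsg.Agent.Lib.Spor.MTwentyFourOrder.RowA.Check

/-!
Cases for a centraliser of order sixty with the first row, each impossible.
-/

set_option autoImplicit false
set_option Elab.async false
set_option maxRecDepth 100000
set_option maxHeartbeats 4000000

namespace Cfsg.Agent.MTwentyFour.ByOrder.RowA

/-- case 87 -/
def case87 : Case :=
  ⟨(770, 0),
    [(252, 2), (528, (-2)), (45, 0), (990, 0), (1540, 0), (1540, 0), (1540, 0), (3520, 0), (3840, 0)], 2,
    [46592, 258577, 541169, 1014272, 3932672, 788992, 1577472, 3604992],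
    [[(1035, 0), (4830, 0), (483, (-2)), (736, 1), (3312, 2), (5796, 1)],
     [(4830, 0), (276, 1), (276, 1), (736, 1), (3312, 2), (5796, 1)],
     [(4830, 0), (276, (-4)), (276, 1), (736, (-4)), (3312, 2), (5796, 1)],
     [(1035, 0), (1035, 0), (1288, (-2)), (1288, (-2)), (3312, 2), (5796, (-4))],
     [(230, 0), (230, 0), (276, 1), (276, 1), (1242, (-3)), (3312, (-3))],
     [(276, 1), (276, 1), (483, 3), (483, 3), (1288, 3), (1288, 3)],
     [(230, 0), (1035, 0), (276, 1), (276, 1), (483, 3), (1288, 3)],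
     [(230, 0), (1035, 0), (483, (-2)), (736, (-4)), (1288, (-2)), (1288, (-2))],
     [(230, 0), (276, 1), (276, 1), (736, (-4)), (1288, (-2)), (1288, (-2))],
     [(1035, 0), (483, (-2)), (483, (-2)), (483, (-2)), (1288, (-2)), (1288, (-2))],
     [(276, 1), (276, 1), (483, (-2)), (483, (-2)), (1288, (-2)), (1288, (-2))],
     [(230, 0), (1035, 0), (1035, 0), (483, (-2)), (483, (-2)), (1288, (-2))],
     [(230, 0), (1035, 0), (276, 1), (276, 1), (483, (-2)), (1288, (-2))],
     [(230, 0), (276, 1), (276, 1), (276, 1), (276, 1), (1288, (-2))],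
     [(230, 0), (4830, 0), (483, (-2)), (483, (-2)), (736, 1), (736, 1)],
     [(1035, 0), (1035, 0), (1035, 0), (276, 1), (483, (-2)), (736, 1)],
     [(2760, 0), (4830, 0), (276, 1), (276, 1), (276, 1), (736, 1)],
     [(1035, 0), (1035, 0), (276, 1), (276, 1), (276, 1), (736, 1)],
     [(1035, 0), (1035, 0), (1035, 0), (276, (-4)), (483, (-2)), (736, (-4))],
     [(1035, 0), (1035, 0), (276, (-4)), (276, 1), (276, 1), (736, (-4))],
     [(230, 0), (1035, 0), (2760, 0), (2760, 0), (7360, 0), (483, (-2))],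
     [(230, 0), (230, 0), (1035, 0), (2760, 0), (4830, 0), (483, (-2))],
     [(230, 0), (230, 0), (1035, 0), (1035, 0), (1035, 0), (483, (-2))],
     [(230, 0), (2760, 0), (2760, 0), (7360, 0), (276, 1), (276, 1)],
     [(230, 0), (230, 0), (2760, 0), (4830, 0), (276, 1), (276, 1)],
     [(230, 0), (230, 0), (1035, 0), (1035, 0), (276, 1), (276, 1)]]⟩

theorem case87_y : killY case87 = true := by
  decide +kernel

end Cfsg.Agent.MTwentyFour.ByOrder.RowA
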