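import Cfsg.Agent.Lib.Spor.MTwentyFourOrder.RowA.RunAdef

/-!
Cases for a centraliser of order sixty with the first row, each impossible.
-/

set_option autoImplicit false
set_option Elab.async false
set_option maxRecDepth 100000
set_option maxHeartbeats 4000000

namespace Cfsg.Agent.MTwentyFour.ByOrder.RowA

theorem case87_x0 : xPart case87 ((case87.tab.drop 0).take 1) = true := by
  decide +kernel

theorem case87_x1 : xPart case87 ((case87.tab.drop 1).take 1) = true := by
  decide +kernel

theorem case87_x2 : xPart case87 ((case87.tab.drop 2).take 1) = true := by
  decide +kernel

theorem case87_x3 : xPart case87 ((case87.tab.drop 3).take 1) = true := by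
  decide +kernel

theorem case87_x4 : xPart case87 ((case87.tab.drop 4).take 1) = true := by
  decide +kernel

theorem case87_x5 : xPart case87 ((case87.tab.drop 5).take 1) = true := by
  decide +kernel

theorem case87_x6 : xPart case87 ((case87.tab.drop 6).take 1) = true := by
  decide +kernel

theorem case87_x7 : xPart case87 ((case87.tab.drop 7).take 1) = true := by
  decide +kernel

theorem case87_x8 : xPart case87 ((case87.tab.drop 8).take 1) = true := by
  decide +kernel

end Cfsg.Agent.MTwentyFour.ByOrder.RowA
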