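import Cfsg.Agent.Lib.Spor.MTwentyFourOrder.RowA.Check

/-!
Cases for a centraliser of order sixty with the first row, each impossible.
-/

set_option autoImplicit false
set_option Elab.async false
set_option maxRecDepth 100000
set_option maxHeartbeats 4000000

namespace Cfsg.Agent.MTwentyFour.ByOrder.RowA

/-- case 7 -/
def case7 : Case :=
  ⟨(495, 0),
    [(252, (-3)), (252, 2), (528, (-2)), (528, 3), (45, 0), (45, 0), (990, 0), (1540, 0), (3840, 0)], 1,
    [],
    []⟩

theorem case7_ok : KillOK case7 := killOK_of (by decide +kernel)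

/-- case 16 -/
def case16 : Case :=
  ⟨(540, 0),
    [(252, (-3)), (252, 2), (528, 3), (231, 1), (231, 1), (45, 0), (990, 0), (1540, 0), (3840, 0)], 1,
    [],
    []⟩

theorem case16_ok : KillOK case16 := killOK_of (by decide +kernel)

/-- case 25 -/
def case25 : Case :=
  ⟨(12, 2),
    [(252, 2), (528, (-2)), (528, (-2)), (231, (-4)), (3520, 0), (3520, 0), (3840, 0), (3840, 0), (3840, 0)], 1,
    [],
    []⟩

theorem case25_ok : KillOK case25 := killOK_of (by decide +kernel)

/-- case 32 -/
def case32 : Case :=
  ⟨(12, 2),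
    [(252, 2), (22, 2), (528, (-2)), (528, (-2)), (528, (-2)), (231, (-4)), (45, 0), (45, 0), (3840, 0)], 1,
    [],
    []⟩

theorem case32_ok : KillOK case32 := killOK_of (by decide +kernel)

/-- case 33 -/
def case33 : Case :=
  ⟨(12, 2),
    [(252, 2), (22, 2), (22, 2), (528, (-2)), (528, (-2)), (45, 0), (3520, 0), (3840, 0), (3840, 0)], 0,
    [12817, 46592, 258577, 541169, 541170, 3932672, 23057, 23058, 3604992],
    []⟩

theorem case33_ok : KillOK case33 := killOK_of (by decide +kernel)

/-- case 45 -/
def case45 : Case :=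
  ⟨(1760, 0),
    [(252, 2), (22, 2), (528, (-2)), (231, 1), (231, 1), (45, 0), (45, 0), (3520, 0), (10395, 0)], 0,
    [46592, 10644992, 23057, 258577, 1802752, 3604992, 237066, 541169],
    []⟩

theorem case45_ok : KillOK case45 := killOK_of (by decide +kernel)

/-- case 47 -/
def case47 : Case :=
  ⟨(495, 0),
    [(252, 2), (22, 2), (528, (-2)), (528, (-2)), (990, 0), (1540, 0), (3520, 0), (3840, 0), (3840, 0)], 1,
    [],
    []⟩

theorem case47_ok : KillOK case47 := killOK_of (by decide +kernel)

/-- case 86 -/
def case86 : Case :=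
  ⟨(770, 0),
    [(252, 2), (528, (-2)), (45, 0), (45, 0), (990, 0), (990, 0), (990, 0), (3520, 0), (10395, 0)], 0,
    [46592, 258577, 541169, 1014272, 10644992, 788992, 3604992],
    []⟩

theorem case86_ok : KillOK case86 := killOK_of (by decide +kernel)

/-- case 98 -/
def case98 : Case :=
  ⟨(770, 0),
    [(252, 2), (528, (-2)), (528, (-2)), (231, (-4)), (231, 1), (231, 1), (3520, 0), (3840, 0), (3840, 0)], 0,
    [3932672, 3604992, 258577, 541170, 788992, 237066, 237025],
    []⟩

theorem case98_ok : KillOK case98 := killOK_of (by decide +kernel)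

/-- case 116 -/
def case116 : Case :=
  ⟨(2772, (-3)),
    [(252, (-3)), (252, 2), (528, (-2)), (45, 0), (1540, 0), (1540, 0), (3520, 0), (3840, 0), (3840, 0)], 1,
    [],
    []⟩

theorem case116_ok : KillOK case116 := killOK_of (by decide +kernel)

/-- case 123 -/
def case123 : Case :=
  ⟨(2772, 2),
    [(22, 2), (22, 2), (231, 1), (231, 1), (1540, 0), (3520, 0), (3520, 0), (3840, 0), (10395, 0)], 0,
    [10644992, 3932672, 3604992, 2839057, 1577472, 237066, 23057],
    []⟩

theorem case123_ok : KillOK case123 := killOK_of (by decide +kernel)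

/-- case 141 -/
def case141 : Case :=
  ⟨(2772, 2),
    [(252, (-3)), (252, (-3)), (22, 2), (528, 3), (528, 3), (45, 0), (990, 0), (3840, 0), (3840, 0)], 1,
    [],
    []⟩

theorem case141_ok : KillOK case141 := killOK_of (by decide +kernel)

/-- case 146 -/
def case146 : Case :=
  ⟨(2772, 2),
    [(5544, (-1)), (252, 2), (22, 2), (231, 1), (231, 1), (231, 1), (45, 0), (3840, 0), (10395, 0)], 1,
    [],
    []⟩

theorem case146_ok : KillOK case146 := killOK_of (by decide +kernel)

/-- case 154 -/
def case154 : Case :=
  ⟨(540, 0),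
    [(5544, 4), (252, 2), (252, 2), (45, 0), (45, 0), (1540, 0), (1540, 0), (3520, 0), (10395, 0)], 1,
    [],
    []⟩

theorem case154_ok : KillOK case154 := killOK_of (by decide +kernel)

/-- case 164 -/
def case164 : Case :=
  ⟨(495, 0),
    [(5544, 4), (252, 2), (252, 2), (22, 2), (528, (-2)), (990, 0), (3840, 0), (3840, 0), (3840, 0)], 1,
    [],
    []⟩

theorem case164_ok : KillOK case164 := killOK_of (by decide +kernel)

/-- the cases of this file -/
def casesJ : List Case :=
  [case7, case16, case25, case32, case33, case45, case47, case86, case98, case116, case123, case141, case146,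
   case154, case164]

/-- they are impossible -/
theorem runJ : ∀ c ∈ casesJ, KillOK c := by
  intro c hc
  simp only [casesJ, List.mem_cons, List.not_mem_nil, or_false] at hc
  rcases hc with rfl | rfl | rfl | rfl | rfl | rfl | rfl | rfl | rfl | rfl | rfl | rfl | rfl | rfl | rfl
  exacts [case7_ok,
    case16_ok,
    case25_ok,
    case32_ok,
    case33_ok,
    case45_ok,
    case47_ok,
    case86_ok,
    case98_ok,
    case116_ok,
    case123_ok,
    case141_ok,
    case146_ok,
    case154_ok,
    case164_ok]

end Cfsg.Agent.MTwentyFour.ByOrder.RowA
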